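import Cfsg.Agent.Omega.NO3S.Sym.Exit
import Cfsg.Agent.Omega.S5.Mod

/-!
# NO-3S, `V_P` = even subsets of five letters, light involutions not 2-central: (F0) of helper237 #15447

`n = nn p` (light), `Q = O₂(C_G(n))`, `T = C_S(n) = Std.T S p`, `V = V_P = zl S P`.

* `not_dvd`, `o2_le_T` : `T` is a Sylow 2-subgroup of `C_G(n)`, `Q ≤ T`;
* `act` : `[V, Q] ≤ ⟨n⟩`, `zl_le_o2` : `V ≤ Q`;
* `comm_light` : `V^c`, `V^d` commute for `c, d ∈ C_G(n)`;
* `DD` = `D_n = ⟨V^{C_G(n)}⟩` : `DD_comm`, `DD_sq`, `DD_le_o2`, `DD_act` : `[D_n, Q] ≤ ⟨n⟩`;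
* `XX` = `X_n = ⟨R^{C_G(n)}⟩`, `R = Ω₁(Z(T)) = {1, n, a, z}` : `XX_le_zc`, `XX_le_DD`;
* `comm_of_inf` : two conjugates of `V` with nontrivial intersection commute.
-/

set_option autoImplicit false

namespace Cfsg.Agent.Omega.NO3S.Sym.Light

open Subgroup Cfsg Cfsg.Agent.ZN Cfsg.Agent.Omega.MinPar Cfsg.Agent.Omega.Frame Cfsg.Agent.Omega.FrameNOFF
open Cfsg.Agent.Omega.NO3S Cfsg.Agent.Omega.NTwo Cfsg.Agent.Omega.NO3S.Sym.Exit
open Cfsg.Agent.MinSimple.VModule
open scoped Pointwise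

universe u

/-- **Setting**: `Five`, and the light involution is not 2-central. -/
structure FiveL {G : Type u} [Group G] [Finite G] (S : Sylow 2 G) (P : Subgroup G) (p : Fin 5 → G) : Prop
    extends Five S P p where
  light : ∀ T₀ : Sylow 2 G, ¬ ∀ x ∈ (T₀ : Subgroup G), x * nn p * x⁻¹ = nn p

/-- `D_x = ⟨V^{C_G(x)}⟩` -/
def DD {G : Type u} [Group G] (V : Subgroup G) (x : G) : Subgroup G :=
  ⨆ c : centralizer ({x} : Set G), MulAut.conj (c : G) • V

section general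

variable {G : Type u} [Group G] {V : Subgroup G} {x : G}

theorem conj_le_DD {c : G} (hc : c * x * c⁻¹ = x) : MulAut.conj c • V ≤ DD V x :=
  le_iSup (fun c : centralizer ({x} : Set G) => MulAut.conj (c : G) • V) ⟨c, mem_cent.2 hc⟩

theorem le_DD : V ≤ DD V x := by
  have h1 := conj_le_DD (V := V) (x := x) (c := 1) (by group)
  rwa [map_one, one_smul] at h1

theorem DD_le {A : Subgroup G} (h : ∀ c : G, c * x * c⁻¹ = x → MulAut.conj c • V ≤ A) : DD V x ≤ A :=
  iSup_le fun c => h c (mem_cent.1 c.2)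

theorem conj_DD (g : G) : MulAut.conj g • DD V x = DD (MulAut.conj g • V) (g * x * g⁻¹) := by
  have key : ∀ (g x : G) (V : Subgroup G), MulAut.conj g • DD V x ≤ DD (MulAut.conj g • V) (g * x * g⁻¹) := by
    intro g x V
    rw [Subgroup.pointwise_smul_subset_iff]
    refine DD_le fun c hc => ?_
    rw [← Subgroup.pointwise_smul_subset_iff, NoFF.Basic.conj_conj]
    have h1 : g * c = (g * c * g⁻¹) * g := by group
    rw [h1, ← NoFF.Basic.conj_conj]
    refine conj_le_DD ?_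
    calc g * c * g⁻¹ * (g * x * g⁻¹) * (g * c * g⁻¹)⁻¹ = g * (c * x * c⁻¹) * g⁻¹ := by group
      _ = g * x * g⁻¹ := by rw [hc]
  apply le_antisymm (key g x V)
  have h1 := key g⁻¹ (g * x * g⁻¹) (MulAut.conj g • V)
  rw [NoFF.Basic.conj_conj, inv_mul_cancel, map_one, one_smul] at h1
  have h2 : g⁻¹ * (g * x * g⁻¹) * g⁻¹⁻¹ = x := by group
  rw [h2] at h1
  have h3 := NoFF.Basic.conj_le_iff (g := g) |>.2 h1
  rwa [NoFF.Basic.conj_conj, mul_inv_cancel, map_one, one_smul] at h3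

/-- `C_G(x)` normalises `D_x`. -/
theorem cent_le_normalizer_DD : centralizer ({x} : Set G) ≤ normalizer (DD V x : Set G) := by
  intro c hc
  have key : ∀ c ∈ centralizer ({x} : Set G), ∀ d ∈ DD V x, c * d * c⁻¹ ∈ DD V x := by
    intro c hc d hd
    have h1 : MulAut.conj c • DD V x ≤ DD V x := by
      rw [Subgroup.pointwise_smul_subset_iff]
      refine DD_le fun e he => ?_
      rw [← Subgroup.pointwise_smul_subset_iff, NoFF.Basic.conj_conj]
      refine conj_le_DD ?_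
      rw [← cc, he, mem_cent.1 hc]
    exact h1 (smul_mem_pointwise_smul _ _ _ hd)
  rw [mem_normalizer_iff]
  refine fun d => ⟨key c hc d, fun hd => ?_⟩
  have h1 := key c⁻¹ (inv_mem hc) _ hd
  have e : c⁻¹ * (c * d * c⁻¹) * c⁻¹⁻¹ = d := by group
  rwa [e] at h1

end general

variable {G : Type u} [Group G] [Finite G] {S : Sylow 2 G} {P : Subgroup G} {p : Fin 5 → G}

/-! ### Facts which hold for `Five` -/

section five

variable (h : Five S P p)
include h

theorem _root_.Cfsg.Agent.Omega.NO3S.Sym.Exit.Five.V_le : zl (S : Subgroup G) P ≤ (S : Subgroup G) :=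
  (h.zl_le.trans (zc_le _)).trans (h.star.isLoc.o2_le S)

theorem _root_.Cfsg.Agent.Omega.NO3S.Sym.Exit.Five.p_mem (i : Fin 5) : p i ∈ zl (S : Subgroup G) P := by
  rw [h.gen]
  exact subset_closure (Set.mem_range_self i)

theorem _root_.Cfsg.Agent.Omega.NO3S.Sym.Exit.Five.n_mem : nn p ∈ zl (S : Subgroup G) P := mul_mem (h.p_mem 0) (h.p_mem 1)

theorem _root_.Cfsg.Agent.Omega.NO3S.Sym.Exit.Five.a_mem : aa p ∈ zl (S : Subgroup G) P := mul_mem (h.p_mem 2) (h.p_mem 3)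

theorem _root_.Cfsg.Agent.Omega.NO3S.Sym.Exit.Five.V_comm {v w : G} (hv : v ∈ zl (S : Subgroup G) P) (hw : w ∈ zl (S : Subgroup G) P) :
    v * w = w * v :=
  zc_comm _ _ (h.zl_le hv) _ (h.zl_le hw)

theorem _root_.Cfsg.Agent.Omega.NO3S.Sym.Exit.Five.V_sq {v : G} (hv : v ∈ zl (S : Subgroup G) P) : v * v = 1 := by
  rw [← sq]; exact zc_sq _ _ (h.zl_le hv)

omit h [Finite G] in
theorem P_norm (S : Sylow 2 G) (P : Subgroup G) {g v : G} (hg : g ∈ P) (hv : v ∈ zl (S : Subgroup G) P) :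
    g * v * g⁻¹ ∈ zl (S : Subgroup G) P :=
  (mem_normalizer_iff.1 (le_normalizer_zl _ _ hg) v).1 hv

omit h [Finite G] in
theorem conj_V {g : G} (hg : g ∈ P) : MulAut.conj g • zl (S : Subgroup G) P = zl (S : Subgroup G) P := by
  have h1 := NoFF.Basic.conj_V_mul (Z := zc (S : Subgroup G)) (P := P) (g := 1) hg
  rw [one_mul, map_one, one_smul] at h1
  exact h1

/-- the elements of `V` -/
theorem _root_.Cfsg.Agent.Omega.NO3S.Sym.Exit.Five.elts {v : G} (hv : v ∈ zl (S : Subgroup G) P) :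
    v = 1 ∨ (∃ i, v = p i) ∨ ∃ i j, i ≠ j ∧ v = p i * p j := h.std.mem_closure (by rwa [h.gen] at hv)

/-- a heavy element is conjugate to `p 4` in `P` -/
theorem _root_.Cfsg.Agent.Omega.NO3S.Sym.Exit.Five.heavy (i : Fin 5) : ∃ g ∈ P, g * p 4 * g⁻¹ = p i := by
  obtain ⟨g, hg, h1⟩ := h.std.full (Equiv.swap 4 i)
  exact ⟨g, hg, by rw [h1, Equiv.swap_apply_left]⟩

/-- a light element is conjugate to `n` in `P` -/
theorem _root_.Cfsg.Agent.Omega.NO3S.Sym.Exit.Five.lights {i j : Fin 5} (hij : i ≠ j) : ∃ g ∈ P, g * nn p * g⁻¹ = p i * p j := by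
  obtain ⟨σ, h0, h1⟩ : ∃ σ : Equiv.Perm (Fin 5), σ 0 = i ∧ σ 1 = j := by
    revert i j
    decide +kernel
  obtain ⟨g, hg, h2⟩ := h.std.full σ
  exact ⟨g, hg, by rw [nn, cm, h2, h2, h0, h1]⟩

/-- all lines on the point `z` are in an abelian group -/
theorem _root_.Cfsg.Agent.Omega.NO3S.Sym.Exit.Five.W_le_CC : DD (zl (S : Subgroup G) P) (p 4) ≤ WW (S : Subgroup G) P := by
  refine DD_le fun c hc => conj_zl_le_WW ?_
  change c ∈ centralizer (zc (S : Subgroup G) : Set G)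
  rw [cent_zc h.std, mem_cent]
  exact hc

end five

/-! ### The light case -/

section light

variable (h : FiveL S P p)
include h

/-- `T` is a Sylow 2-subgroup of `C_G(n)`. -/
theorem FiveL.not_dvd : ¬ 2 ∣ (Std.T (S : Subgroup G) p).relIndex (centralizer ({nn p} : Set G)) := by
  have hp2 : Fact (Nat.Prime 2) := ⟨Nat.prime_two⟩
  intro hdvd
  have hTC : Std.T (S : Subgroup G) p ≤ centralizer ({nn p} : Set G) := inf_le_right
  obtain ⟨R, hTR, hRC, hR2, hRS⟩ := Half.exists_sylow_le (S.isPGroup'.to_le (Std.T_le (S := (S : Subgroup G)) (p := p))) hTC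
  have hne : R ≠ Std.T (S : Subgroup G) p := by
    rintro rfl
    exact hRS hdvd
  have hlt : Nat.card (Std.T (S : Subgroup G) p) < Nat.card R := by
    rcases lt_or_eq_of_le (card_le_of_le hTR) with h1 | h1
    · exact h1
    · exact absurd (eq_of_le_of_card_ge hTR h1.ge).symm hne
  have hge : 2 * Nat.card (Std.T (S : Subgroup G) p) ≤ Nat.card R := by
    obtain ⟨k, hk⟩ := card_dvd_of_le hTR
    have hpos : 0 < Nat.card (Std.T (S : Subgroup G) p) := Nat.card_pos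
    have hk2 : 2 ≤ k := by
      by_contra hk2
      have : k = 0 ∨ k = 1 := by omega
      rcases this with rfl | rfl <;> simp at hk <;> omega
    rw [hk, mul_comm]
    exact Nat.mul_le_mul_left _ hk2
  obtain ⟨U, hU⟩ := hR2.exists_le_sylow
  have hcS : Nat.card (U : Subgroup G) = Nat.card (S : Subgroup G) := Nat.card_congr (Sylow.equiv U S).toEquiv
  have hReq : R = (U : Subgroup G) := eq_of_le_of_card_ge hU (by rw [hcS, h.std.card_S]; exact hge)
  refine h.light U fun x hx => mem_cent.1 (hRC ?_)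
  rw [hReq]
  exact hx

theorem FiveL.o2_le_T : o2 (centralizer ({nn p} : Set G)) ≤ Std.T (S : Subgroup G) p :=
  o2_le_of_sylow (S.isPGroup'.to_le Std.T_le) h.not_dvd

/-- `O₂(C_G(n))` acts on the five points as a subgroup of `⟨(0 1)⟩`. -/
theorem FiveL.act_pt {q : G} (hq : q ∈ o2 (centralizer ({nn p} : Set G))) :
    (∀ i, q * p i * q⁻¹ = p i) ∨ ∀ i, q * p i * q⁻¹ = p (Equiv.swap 0 1 i) := by
  obtain ⟨hqa, hqb⟩ := half_five h.ctx.char2 S h.std q hq
  have hqT := h.o2_le_T hq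
  have hqn : q * nn p * q⁻¹ = nn p := (Std.mem_T.1 hqT).2
  obtain ⟨σ, hσ⟩ := h.std.perm q (h.std.le (Std.T_le hqT))
  have h4 : σ 4 = 4 := by
    have h1 := h.std.fix q (Std.T_le hqT)
    rw [hσ] at h1
    exact h.std.inj h1
  have h3 : σ 3 = 3 := by
    rw [cm, hσ, hσ, h4] at hqb
    exact h.std.inj (mul_right_cancel hqb)
  have h2 : σ 2 = 2 := by
    rw [cm, hσ, hσ, h3] at hqa
    exact h.std.inj (mul_right_cancel hqa)
  have h01 : (σ 0 = 0 ∧ σ 1 = 1) ∨ (σ 0 = 1 ∧ σ 1 = 0) := by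
    rw [nn, cm, hσ, hσ] at hqn
    exact h.std.pair_inj (fun e => absurd (σ.injective e) (by decide)) (by decide) hqn
  have key : ∀ σ : Equiv.Perm (Fin 5), ((σ 0 = 0 ∧ σ 1 = 1) ∨ (σ 0 = 1 ∧ σ 1 = 0)) → σ 4 = 4 → σ 3 = 3 →
      σ 2 = 2 → σ = 1 ∨ σ = Equiv.swap 0 1 := by decide +kernel
  rcases key σ h01 h4 h3 h2 with rfl | rfl
  · left
    exact hσ
  · right
    exact hσ

theorem FiveL.V_nn {v : G} (hv : v ∈ zl (S : Subgroup G) P) : v * nn p = nn p * v := h.V_comm hv h.n_mem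

/-- **`[V, O₂(C_G(n))] ≤ ⟨n⟩`.** -/
theorem FiveL.act {q v : G} (hq : q ∈ o2 (centralizer ({nn p} : Set G))) (hv : v ∈ zl (S : Subgroup G) P) :
    q * v * q⁻¹ = v ∨ q * v * q⁻¹ = nn p * v := by
  have hgen : ∀ i, q * p i * q⁻¹ = p i ∨ q * p i * q⁻¹ = nn p * p i := by
    have e0 : nn p * p 0 = p 1 := by rw [nn, h.std.comm 0 1, mul_assoc, h.std.sq, mul_one]
    have e1 : nn p * p 1 = p 0 := by rw [nn, mul_assoc, h.std.sq, mul_one]
    rcases h.act_pt hq with h1 | h1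
    · exact fun i => Or.inl (h1 i)
    · have key : ∀ i : Fin 5, i = 0 ∨ i = 1 ∨ i = 2 ∨ i = 3 ∨ i = 4 := by decide
      intro i
      rcases key i with rfl | rfl | rfl | rfl | rfl
      · right; rw [h1, Equiv.swap_apply_left, e0]
      · right; rw [h1, Equiv.swap_apply_right, e1]
      all_goals
        left
        rw [h1, Equiv.swap_apply_of_ne_of_ne (by decide) (by decide)]
  have hnV : ∀ v ∈ closure (Set.range p), v * nn p = nn p * v := by
    intro v hv
    rw [← h.gen] at hv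
    exact h.V_nn hv
  rw [h.gen] at hv
  induction hv using closure_induction with
  | mem x hx => obtain ⟨i, rfl⟩ := hx; exact hgen i
  | one => left; group
  | mul x y hx hy ihx ihy =>
    rw [cm]
    rcases ihx with k1 | k1 <;> rcases ihy with k2 | k2
    · left; rw [k1, k2]
    · right; rw [k1, k2, ← mul_assoc, hnV x hx, mul_assoc]
    · right; rw [k1, k2, mul_assoc]
    · left
      rw [k1, k2, mul_assoc, ← mul_assoc x, hnV x hx, mul_assoc (nn p), ← mul_assoc (nn p) (nn p), h.std.nsq, one_mul]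
  | inv x hx ih =>
    rcases ih with k1 | k1
    · left
      calc q * x⁻¹ * q⁻¹ = (q * x * q⁻¹)⁻¹ := by group
        _ = x⁻¹ := by rw [k1]
    · right
      have hninv : (nn p)⁻¹ = nn p := inv_eq_of_mul_eq_one_left h.std.nsq
      have hx' := hnV x⁻¹ (inv_mem hx)
      calc q * x⁻¹ * q⁻¹ = (q * x * q⁻¹)⁻¹ := by group
        _ = nn p * x⁻¹ := by rw [k1, mul_inv_rev, hninv, hx']

/-- **`V ≤ O₂(C_G(n))`.** -/
theorem FiveL.V_le_o2 : zl (S : Subgroup G) P ≤ o2 (centralizer ({nn p} : Set G)) := by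
  intro v hv
  refine S5.Mod.le_o2_of_comm h.ctx.char2 (by rw [sq]; exact h.std.nsq) h.std.n_ne_one (h.V_nn hv) fun q hq => ?_
  rcases h.act hq hv with h1 | h1
  · left
    rw [comm_iff] at h1
    rw [← h1, mul_inv_cancel_right, mul_inv_cancel]
  · right
    have h2 : q * v = nn p * v * q := by rw [← h1]; group
    have h3 : v * q = nn p * (q * v) := by
      rw [h2, ← mul_assoc, ← mul_assoc, h.std.nsq, one_mul]
    calc v * q * v⁻¹ * q⁻¹ = nn p * (q * v) * v⁻¹ * q⁻¹ := by rw [h3]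
      _ = nn p := by group

theorem FiveL.o2_norm {c q : G} (hc : c * nn p * c⁻¹ = nn p) (hq : q ∈ o2 (centralizer ({nn p} : Set G))) :
    c * q * c⁻¹ ∈ o2 (centralizer ({nn p} : Set G)) :=
  (mem_normalizer_iff.1 (le_normalizer_o2 _ (mem_cent.2 hc)) q).1 hq

theorem FiveL.conj_o2 {c : G} (hc : c * nn p * c⁻¹ = nn p) :
    MulAut.conj c • o2 (centralizer ({nn p} : Set G)) = o2 (centralizer ({nn p} : Set G)) :=
  NoFF.Main.conj_eq_of_mem_normalizer (le_normalizer_o2 _ (mem_cent.2 hc))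

theorem FiveL.conj_V_le_o2 {c : G} (hc : c * nn p * c⁻¹ = nn p) :
    MulAut.conj c • zl (S : Subgroup G) P ≤ o2 (centralizer ({nn p} : Set G)) := by
  have h1 := NoFF.Basic.conj_le_iff (g := c) |>.2 h.V_le_o2
  rwa [h.conj_o2 hc] at h1

/-- `O₂(C_G(n))` normalises all lines on `n`. -/
theorem FiveL.o2_le_norm {c : G} (hc : c * nn p * c⁻¹ = nn p) : o2 (centralizer ({nn p} : Set G)) ≤
    normalizer ((MulAut.conj c • zl (S : Subgroup G) P : Subgroup G) : Set G) := by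
  have h1 : o2 (centralizer ({nn p} : Set G)) ≤ normalizer (zl (S : Subgroup G) P : Set G) :=
    (h.o2_le_T.trans Std.T_le).trans (h.star.le.trans (le_normalizer_zl _ _))
  rw [NoFF.Main.normalizer_conj]
  have h2 := NoFF.Basic.conj_le_iff (g := c) |>.2 h1
  rwa [h.conj_o2 hc] at h2

/-- **Two lines on a light point commute.** -/
theorem FiveL.comm_light {c d : G} (hc : c * nn p * c⁻¹ = nn p) (hd : d * nn p * d⁻¹ = nn p) :
    MulAut.conj c • zl (S : Subgroup G) P ≤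
      centralizer ((MulAut.conj d • zl (S : Subgroup G) P : Subgroup G) : Set G) :=
  NoFF.Lines.noff_lines h.geo.toSys (Set.mem_singleton P) (Set.mem_singleton P)
    ((h.conj_V_le_o2 hc).trans (h.o2_le_norm hd)) ((h.conj_V_le_o2 hd).trans (h.o2_le_norm hc))

theorem FiveL.DD_le_o2 : DD (zl (S : Subgroup G) P) (nn p) ≤ o2 (centralizer ({nn p} : Set G)) :=
  DD_le fun _ hc => h.conj_V_le_o2 hc

/-- **`D_n` is abelian.** -/
theorem FiveL.DD_comm : DD (zl (S : Subgroup G) P) (nn p) ≤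
    centralizer (DD (zl (S : Subgroup G) P) (nn p) : Set G) := by
  refine DD_le fun c hc => NoFF.Basic.comm_symm (DD_le fun d hd => h.comm_light hd hc)

theorem FiveL.DD_sq : ∀ v ∈ DD (zl (S : Subgroup G) P) (nn p), v ^ 2 = 1 := by
  refine NoFF.Lines.Geo.sq_of_comm h.DD_comm (ι := centralizer ({nn p} : Set G))
    (B := fun c => MulAut.conj (c : G) • zl (S : Subgroup G) P) (fun c => conj_le_DD (mem_cent.1 c.2))
    le_rfl fun c => NoFF.Lines.Geo.conj_sq (fun v hv => zc_sq _ _ (h.zl_le hv)) _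

/-- **`[D_n, O₂(C_G(n))] ≤ ⟨n⟩`.** -/
theorem FiveL.DD_act {q v : G} (hq : q ∈ o2 (centralizer ({nn p} : Set G)))
    (hv : v ∈ DD (zl (S : Subgroup G) P) (nn p)) : q * v * q⁻¹ = v ∨ q * v * q⁻¹ = nn p * v := by
  have hnc : ∀ v ∈ DD (zl (S : Subgroup G) P) (nn p), v * nn p = nn p * v := fun v hv =>
    mem_centralizer_iff.1 (h.DD_comm (le_DD h.n_mem)) v hv
  have hqn : q * nn p * q⁻¹ = nn p := mem_cent.1 (o2_le _ hq)
  induction hv using iSup_induction' with
  | hp c x hx =>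
    rw [NoFF.Basic.mem_conj] at hx
    have hc := mem_cent.1 c.2
    have h1 : (c : G)⁻¹ * q * c ∈ o2 (centralizer ({nn p} : Set G)) := by
      have h2 := h.o2_norm (c := (c : G)⁻¹) (mem_cent.1 (inv_mem c.2)) hq
      rwa [inv_inv] at h2
    rcases h.act h1 hx with h2 | h2
    · left
      calc q * x * q⁻¹ = c * (((c : G)⁻¹ * q * c) * ((c : G)⁻¹ * x * c) * ((c : G)⁻¹ * q * c)⁻¹) * (c : G)⁻¹ := by group
        _ = x := by rw [h2]; group
    · right
      calc q * x * q⁻¹ = c * (((c : G)⁻¹ * q * c) * ((c : G)⁻¹ * x * c) * ((c : G)⁻¹ * q * c)⁻¹) * (c : G)⁻¹ := by group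
        _ = (c * nn p * (c : G)⁻¹) * x := by rw [h2]; group
        _ = nn p * x := by rw [hc]
  | h1 => left; group
  | hmul x y hx hy ihx ihy =>
    have hx' : x ∈ DD (zl (S : Subgroup G) P) (nn p) := hx
    rw [cm]
    rcases ihx with k1 | k1 <;> rcases ihy with k2 | k2
    · left; rw [k1, k2]
    · right; rw [k1, k2, ← mul_assoc, hnc x hx', mul_assoc]
    · right; rw [k1, k2, mul_assoc]
    · left
      rw [k1, k2, mul_assoc, ← mul_assoc x, hnc x hx', mul_assoc (nn p), ← mul_assoc (nn p) (nn p), h.std.nsq, one_mul]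

/-! ### `X_n` -/

/-- `Ω₁(Z(T)) ≤ Ω₁(Z(O₂(C_G(n))))` -/
theorem FiveL.zcT_le : zc (Std.T (S : Subgroup G) p) ≤ zc (o2 (centralizer ({nn p} : Set G))) := by
  intro x hx
  obtain ⟨h1, h2, h3⟩ := mem_zc.1 hx
  refine mem_zc.2 ⟨MinSimple.Basic.char2_centralizer h.ctx.char2 (by rw [sq]; exact h.std.nsq) h.std.n_ne_one
    ⟨mem_cent.2 (Std.mem_T.1 h1).2, mem_centralizer_iff.2 fun q hq => h2 q (h.o2_le_T hq)⟩,
    fun b hb => h2 b (h.o2_le_T hb), h3⟩

/-- **`X_n ≤ Ω₁(Z(O₂(C_G(n))))`**, `X_n = ⟨Ω₁(Z(T))^{C_G(n)}⟩ = ⟨n, a^{C_G(n)}⟩`. -/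
theorem FiveL.XX_le_zc : zl (Std.T (S : Subgroup G) p) (centralizer ({nn p} : Set G)) ≤
    zc (o2 (centralizer ({nn p} : Set G))) :=
  zl_le h.zcT_le ((le_normalizer_o2 _).trans (normalizer_le_normalizer_zc _))

theorem FiveL.XX_le_DD : zl (Std.T (S : Subgroup G) p) (centralizer ({nn p} : Set G)) ≤
    DD (zl (S : Subgroup G) P) (nn p) := by
  refine zl_le (fun x hx => le_DD ?_) cent_le_normalizer_DD
  rcases h.std.mem_zcT.1 hx with rfl | rfl | rfl | rfl
  · exact one_mem _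
  · exact h.n_mem
  · exact h.a_mem
  · exact h.p_mem 4

/-! ### Any two conjugates of `V` with nontrivial intersection -/

/-- no light element is conjugate to a heavy one -/
theorem FiveL.not_conj (g : G) : g * p 4 * g⁻¹ ≠ nn p := by
  intro e
  refine h.light (g • S) fun x hx => ?_
  have h1 := h.std.fix _ (mem_smul.1 hx)
  calc x * nn p * x⁻¹ = g * ((g⁻¹ * x * g) * p 4 * (g⁻¹ * x * g)⁻¹) * g⁻¹ := by rw [← e]; group
    _ = nn p := by rw [h1, e]

/-- **Two conjugates of `V` with nontrivial intersection commute.** -/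
theorem FiveL.comm_of_inf {g x : G} (hx : x ∈ zl (S : Subgroup G) P) (hx1 : x ≠ 1)
    (hxg : x ∈ MulAut.conj g • zl (S : Subgroup G) P) :
    zl (S : Subgroup G) P ≤ centralizer ((MulAut.conj g • zl (S : Subgroup G) P : Subgroup G) : Set G) := by
  -- the case of a common conjugate `y` of a point `w`, whose lines commute
  have key : ∀ w : G, (∀ c d : G, c * w * c⁻¹ = w → d * w * d⁻¹ = w → MulAut.conj c • zl (S : Subgroup G) P ≤
      centralizer ((MulAut.conj d • zl (S : Subgroup G) P : Subgroup G) : Set G)) →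
      (∃ k ∈ P, k * w * k⁻¹ = x) → (∃ l ∈ P, l * w * l⁻¹ = g⁻¹ * x * g) →
      zl (S : Subgroup G) P ≤ centralizer ((MulAut.conj g • zl (S : Subgroup G) P : Subgroup G) : Set G) := by
    rintro w hw ⟨k, hk, hkx⟩ ⟨l, hl, hlx⟩
    have h1 := hw 1 (k⁻¹ * (g * l)) (by group) (by
      calc k⁻¹ * (g * l) * w * (k⁻¹ * (g * l))⁻¹ = k⁻¹ * (g * (l * w * l⁻¹) * g⁻¹) * k := by group
        _ = k⁻¹ * x * k := by rw [hlx]; group
        _ = w := by rw [← hkx]; group)
    rw [map_one, one_smul] at h1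
    have h2 := NoFF.Basic.conj_le_centralizer (g := k) h1
    rw [NoFF.Basic.conj_conj, mul_inv_cancel_left, ← NoFF.Basic.conj_conj, conj_V hk, conj_V hl] at h2
    exact h2
  have hheavy : ∀ c d : G, c * p 4 * c⁻¹ = p 4 → d * p 4 * d⁻¹ = p 4 → MulAut.conj c • zl (S : Subgroup G) P ≤
      centralizer ((MulAut.conj d • zl (S : Subgroup G) P : Subgroup G) : Set G) := by
    intro c d hc hd
    refine NoFF.Basic.comm_mono h.W_comm (conj_zl_le_WW ?_) (conj_zl_le_WW ?_)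
    · change c ∈ centralizer (zc (S : Subgroup G) : Set G)
      rw [cent_zc h.std, mem_cent]
      exact hc
    · change d ∈ centralizer (zc (S : Subgroup G) : Set G)
      rw [cent_zc h.std, mem_cent]
      exact hd
  rw [NoFF.Basic.mem_conj] at hxg
  have hx1' : g⁻¹ * x * g ≠ 1 := by
    intro e
    apply hx1
    calc x = g * (g⁻¹ * x * g) * g⁻¹ := by group
      _ = 1 := by rw [e]; group
  -- heavy or light
  have hcase : ∀ v ∈ zl (S : Subgroup G) P, v ≠ 1 → (∃ k ∈ P, k * p 4 * k⁻¹ = v) ∨ ∃ k ∈ P, k * nn p * k⁻¹ = v := by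
    intro v hv hv1
    rcases h.elts hv with h1 | ⟨i, rfl⟩ | ⟨i, j, hij, rfl⟩
    · exact absurd h1 hv1
    · exact Or.inl (h.heavy i)
    · exact Or.inr (h.lights hij)
  rcases hcase x hx hx1 with h1 | h1 <;> rcases hcase _ hxg hx1' with h2 | h2
  · exact key _ hheavy h1 h2
  · exfalso
    obtain ⟨k, hk, h1⟩ := h1
    obtain ⟨l, hl, h2⟩ := h2
    refine h.not_conj (l⁻¹ * (g⁻¹ * k)) ?_
    calc l⁻¹ * (g⁻¹ * k) * p 4 * (l⁻¹ * (g⁻¹ * k))⁻¹ = l⁻¹ * (g⁻¹ * (k * p 4 * k⁻¹) * g) * l := by group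
      _ = l⁻¹ * (l * nn p * l⁻¹) * l := by rw [h1, h2]
      _ = nn p := by group
  · exfalso
    obtain ⟨k, hk, h1⟩ := h1
    obtain ⟨l, hl, h2⟩ := h2
    refine h.not_conj (k⁻¹ * (g * l)) ?_
    calc k⁻¹ * (g * l) * p 4 * (k⁻¹ * (g * l))⁻¹ = k⁻¹ * (g * (l * p 4 * l⁻¹) * g⁻¹) * k := by group
      _ = k⁻¹ * x * k := by rw [h2]; group
      _ = nn p := by rw [← h1]; group
  · exact key _ (fun c d hc hd => h.comm_light hc hd) h1 h2

end light

/-- `SymTwo K` from `Two K` and the light case. -/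
theorem symTwo_of {K : Cls.{u}} (h2 : Two K)
    (hl : ∀ (G : Type u) [Group G] [Finite G], K G → ∀ (S : Sylow 2 G) (P : Subgroup G), HypJ S P →
      ∀ p : Fin 5 → G, FiveL S P p → IsKnownSimple' G) : SymTwo K :=
  Exit.symTwo_of h2 fun G _ _ hK S P h p hp hn => hl G hK S P h p ⟨hp, hn⟩

end Cfsg.Agent.Omega.NO3S.Sym.Light
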