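import Cfsg.Agent.Omega.NO3S.Sym.LowFive

/-!
# `V_P` = even subsets of five letters: the two pairs of the frame

`FiveL S P p`, `FrL B Q V X ZJ L W Z C A 2` with `V = V_P`, `B = C_S(Z_J)`:

* `pair_of` : `Z i = ⟨n⟩` or `⟨a⟩`, a root element acts as `(0 1)` resp. `(2 3)`;
* `exists_id5` : after a relabelling `e : Fin 2 ≃ ι` the frame is `Id5`;
* `frl_reindex`, `ln_reindex`;
* **`low_five`** : a minimal parabolic of smaller stage over `B` centralises `Ω₁(Z(B))` (any index set).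
-/

set_option autoImplicit false
set_option linter.unusedSectionVars false

namespace Cfsg.Agent.Omega.NO3S.Sym.LowFive

open Subgroup Cfsg Cfsg.Agent.ZN Cfsg.Agent.ZN.ChoiceBase
open Cfsg.Agent.ZN.ChoiceSit (Syl)
open Cfsg.Agent.MinSimple.MinParabolic (IsMinPar)
open Cfsg.Agent.Omega.MinPar (IsLoc IsPar IsParS)
open Cfsg.Agent.Omega.NO3S.Level (lev lev_mono lev_isLev lev_le)
open Cfsg.Agent.Omega.OM.SwapL (Ln ZL)
open Cfsg.Agent.Omega.OM
open Cfsg.Agent.Omega.OM.Lev.Uni (FrL)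
open Cfsg.Agent.Omega.OM.Lev.Low
open Cfsg.Agent.Omega.NTwo (Std nn aa)
open Cfsg.Agent.Omega.NO3S.Sym.Light (FiveL)

universe u

variable {G : Type u} [Group G] [Finite G]

/-! ### Reindexing -/

/-- the frame over another index set -/
theorem frl_reindex {ι κ : Type*} {B Q V X ZJ : Subgroup G} {L W Z C A : ι → Subgroup G} {q : ℕ}
    (h : FrL B Q V X ZJ L W Z C A q) (e : κ ≃ ι) :
    FrL B Q V X ZJ (L ∘ e) (W ∘ e) (Z ∘ e) (C ∘ e) (A ∘ e) q where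
  blk := fun i => h.blk (e i)
  cardZ := fun i => h.cardZ (e i)
  QB := h.QB
  VQ := h.VQ
  elX := h.elX
  VX := h.VX
  mem_Q := h.mem_Q
  zcQ := h.zcQ
  mem_ZJ := h.mem_ZJ
  LV := fun i => h.LV (e i)
  LQ := fun i => h.LQ (e i)
  LX := fun i => h.LX (e i)
  WV := fun i => h.WV (e i)
  CV := fun i => h.CV (e i)
  WC := fun i => h.WC (e i)
  dir := fun i => h.dir (e i)
  C0 := fun x hx hc => h.C0 x hx fun i => by
    have := hc (e.symm i)
    simpa using this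
  WjC := fun i j hij => h.WjC (e i) (e j) (e.injective.ne hij)
  BC := fun i => h.BC (e i)
  LC := fun i => h.LC (e i)
  AB := fun i => h.AB (e i)
  AX := fun i => h.AX (e i)
  best := fun i => h.best (e i)
  Ane := fun i => h.Ane (e i)
  AC := fun i => h.AC (e i)

theorem ln_reindex {ι κ : Type} {S : Sylow 2 G} {P : Subgroup G} {n : ℕ} {L W Z C A : ι → Subgroup G} {q : ℕ}
    (h : Ln S P n L W Z C A q) (e : κ ≃ ι) : Ln S P n (L ∘ e) (W ∘ e) (Z ∘ e) (C ∘ e) (A ∘ e) q where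
  hyp := h.hyp
  le := h.le
  fr := frl_reindex h.fr e
  two := fun i => by
    obtain ⟨j, hj⟩ := h.two (e i)
    exact ⟨e.symm j, fun he => hj (by rw [← he]; simp)⟩

/-! ### Combinatorics -/

theorem perm_cases : ∀ σ : Equiv.Perm (Fin 5), σ 4 = 4 →
    ((σ 0 = 0 ∧ σ 1 = 1) ∨ (σ 0 = 1 ∧ σ 1 = 0) ∨ (σ 0 = 2 ∧ σ 1 = 3) ∨ (σ 0 = 3 ∧ σ 1 = 2)) →
    ∀ k, σ k ≠ k → (∀ k', σ k' ≠ k' → (σ k' = σ k ∧ k' = k) ∨ (σ k' = k ∧ k' = σ k)) →
    (σ = Equiv.swap 0 1 ∧ ((σ k = 0 ∧ k = 1) ∨ (σ k = 1 ∧ k = 0))) ∨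
      (σ = Equiv.swap 2 3 ∧ ((σ k = 2 ∧ k = 3) ∨ (σ k = 3 ∧ k = 2))) := by
  decide +kernel

theorem pt_cases : ∀ a b : Fin 5, a ≠ b →
    ¬ ((Equiv.swap (0 : Fin 5) 1 a = a ∧ Equiv.swap (0 : Fin 5) 1 b = b) ∨
      (Equiv.swap (0 : Fin 5) 1 a = b ∧ Equiv.swap (0 : Fin 5) 1 b = a)) →
    ((Equiv.swap (2 : Fin 5) 3 a = a ∧ Equiv.swap (2 : Fin 5) 3 b = b) ∨
      (Equiv.swap (2 : Fin 5) 3 a = b ∧ Equiv.swap (2 : Fin 5) 3 b = a)) →
    (a = 0 ∧ b = 4) ∨ (a = 1 ∧ b = 4) ∨ (a = 4 ∧ b = 0) ∨ (a = 4 ∧ b = 1) := by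
  decide +kernel

theorem pt_cases' : ∀ a b : Fin 5, a ≠ b →
    ¬ ((Equiv.swap (2 : Fin 5) 3 a = a ∧ Equiv.swap (2 : Fin 5) 3 b = b) ∨
      (Equiv.swap (2 : Fin 5) 3 a = b ∧ Equiv.swap (2 : Fin 5) 3 b = a)) →
    ((Equiv.swap (0 : Fin 5) 1 a = a ∧ Equiv.swap (0 : Fin 5) 1 b = b) ∨
      (Equiv.swap (0 : Fin 5) 1 a = b ∧ Equiv.swap (0 : Fin 5) 1 b = a)) →
    (a = 2 ∧ b = 4) ∨ (a = 3 ∧ b = 4) ∨ (a = 4 ∧ b = 2) ∨ (a = 4 ∧ b = 3) := by
  decide +kernel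

section frame

variable {ι : Type} [Finite ι] {S : Sylow 2 G} {P B Q X ZJ : Subgroup G} {L W Z C A : ι → Subgroup G} {p : Fin 5 → G}
  (h : FiveL S P p) (hf : FrL B Q (zl (S : Subgroup G) P) X ZJ L W Z C A 2) (hBS : B ≤ (S : Subgroup G))
include h hf hBS

/-- the root elements -/
theorem pair_of (i : ι) : ∃ t ∈ A i,
    ((∀ x, x ∈ Z i ↔ x = 1 ∨ x = nn p) ∧ ∀ k, t * p k * t⁻¹ = p (Equiv.swap 0 1 k)) ∨
    ((∀ x, x ∈ Z i ↔ x = 1 ∨ x = aa p) ∧ ∀ k, t * p k * t⁻¹ = p (Equiv.swap 2 3 k)) := by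
  have hne := hf.Ane i
  push Not at hne
  obtain ⟨t, ht, w0, hw0, hne⟩ := hne
  have htS : t ∈ (S : Subgroup G) := hBS (hf.AB i ht)
  obtain ⟨σ, hσ⟩ := h.std.perm t (h.std.le htS)
  have h4 : σ 4 = 4 := by
    have h1 := h.std.fix t htS
    rw [hσ] at h1
    exact h.std.inj h1
  have hpart : ((σ 0 = 0 ∧ σ 1 = 1) ∨ (σ 0 = 1 ∧ σ 1 = 0) ∨ (σ 0 = 2 ∧ σ 1 = 3) ∨ (σ 0 = 3 ∧ σ 1 = 2)) := by
    have hn01 : σ 0 ≠ σ 1 := fun e => absurd (σ.injective e) (by decide)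
    rcases h.std.part t htS with e | e
    · rw [NTwo.cm, hσ, hσ] at e
      rcases h.std.pair_inj hn01 (by decide) e with h1 | h1
      · exact Or.inl h1
      · exact Or.inr (Or.inl h1)
    · rw [NTwo.cm, hσ, hσ] at e
      rcases h.std.pair_inj hn01 (by decide) e with h1 | h1
      · exact Or.inr (Or.inr (Or.inl h1))
      · exact Or.inr (Or.inr (Or.inr h1))
  -- some letter is moved
  obtain ⟨k, hk⟩ : ∃ k, σ k ≠ k := by
    by_contra hcon
    push Not at hcon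
    apply hne
    have h1 : zl (S : Subgroup G) P ≤ centralizer ({t} : Set G) := by
      rw [h.gen, closure_le]
      rintro _ ⟨k, rfl⟩
      rw [SetLike.mem_coe, mem_centralizer_singleton_iff]
      have h2 := hσ k
      rw [hcon k] at h2
      exact (mul_inv_eq_iff_eq_mul.1 h2).symm
    exact (mem_centralizer_singleton_iff.1 (h1 (hf.WV i hw0))).symm
  have hZ : ∀ k, p (σ k) * p k ∈ Z i := by
    intro k
    have h1 := hf.A_comm ht (h.p_mem k)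
    rwa [hσ, h.std.pinv] at h1
  have hk' : ∀ k', σ k' ≠ k' → (σ k' = σ k ∧ k' = k) ∨ (σ k' = k ∧ k' = σ k) := by
    intro k' hk'
    exact h.std.pair_inj hk' hk (Line.Z_two hf (hZ k') (h.std.mul_ne_one hk') (hZ k) (h.std.mul_ne_one hk))
  have hZmem : ∀ z, z ∈ Z i → z ≠ 1 → ∀ x, x ∈ Z i ↔ x = 1 ∨ x = z := by
    intro z hz hz1 x
    constructor
    · intro hx
      by_cases hx1 : x = 1
      · exact Or.inl hx1
      · exact Or.inr (Line.Z_two hf hx hx1 hz hz1)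
    · rintro (rfl | rfl)
      · exact one_mem _
      · exact hz
  have hzk := hZmem _ (hZ k) (h.std.mul_ne_one hk)
  refine ⟨t, ht, ?_⟩
  rcases perm_cases σ h4 hpart k hk hk' with ⟨e, h1⟩ | ⟨e, h1⟩
  · left
    refine ⟨fun x => ?_, fun k => by rw [hσ, e]⟩
    have e1 : p (σ k) * p k = nn p := by
      rcases h1 with ⟨e1, e2⟩ | ⟨e1, e2⟩
      · rw [e1, e2]
      · rw [e1, e2]; exact h.std.comm 1 0
    rw [hzk x, e1]
  · right
    refine ⟨fun x => ?_, fun k => by rw [hσ, e]⟩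
    have e1 : p (σ k) * p k = aa p := by
      rcases h1 with ⟨e1, e2⟩ | ⟨e1, e2⟩
      · rw [e1, e2]
      · rw [e1, e2]; exact h.std.comm 3 2
    rw [hzk x, e1]

omit hBS in
theorem Z_inter {i j : ι} (hij : i ≠ j) {x : G} (hi : x ∈ Z i) (hj : x ∈ Z j) : x = 1 :=
  Line.one_of hf (Line.ZW hf i hi) (hf.WjC i j hij (Line.ZW hf j hj))

/-- `W i` is generated by `Z i` and one more light element -/
theorem exists_light (i : ι) {z : G} (hz : z ∈ Z i) (hz1 : z ≠ 1) (hzl : ∃ y : G, y * nn p * y⁻¹ = z) :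
    ∃ a b, a ≠ b ∧ p a * p b ∈ W i ∧ p a * p b ∉ Z i := by
  obtain ⟨l, hl, hne, -⟩ := (hf.blk i).exists_mv
  have hw : l * z * l⁻¹ ∈ W i := (hf.blk i).nV l hl z (Line.ZW hf i hz)
  have hwZ : l * z * l⁻¹ ∉ Z i := by
    intro h1
    apply hne
    have h2 : l * z * l⁻¹ ≠ 1 := fun e => hz1 (conj_eq_one_iff.1 e)
    have e := Line.Z_two hf h1 h2 hz hz1
    refine Subgroup.eq_of_le_of_card_ge ?_ (card_cj _ _).ge
    rintro _ ⟨x, hx, rfl⟩
    by_cases hx1 : x = 1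
    · rw [hx1]; simp [one_mem]
    · rw [Line.Z_two hf hx hx1 hz hz1]
      exact h1
  obtain ⟨y, hy⟩ := hzl
  rcases h.elts (hf.WV i hw) with e | ⟨a, e⟩ | ⟨a, b, hab, e⟩
  · exact absurd (by rw [e]; exact one_mem _) hwZ
  · exfalso
    obtain ⟨k, -, hk⟩ := h.heavy a
    refine h.not_conj (y⁻¹ * l⁻¹ * k) ?_
    calc y⁻¹ * l⁻¹ * k * p 4 * (y⁻¹ * l⁻¹ * k)⁻¹ = y⁻¹ * (l⁻¹ * (k * p 4 * k⁻¹) * l) * y := by group
      _ = y⁻¹ * (l⁻¹ * (l * z * l⁻¹) * l) * y := by rw [hk, e]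
      _ = y⁻¹ * z * y := by group
      _ = nn p := by rw [← hy]; group
  · exact ⟨a, b, hab, by rw [← e]; exact hw, by rw [← e]; exact hwZ⟩

omit [Finite ι] hBS h in
/-- the elements of `W i` -/
theorem mem_W {i : ι} {z w : G} (hz : ∀ x, x ∈ Z i ↔ x = 1 ∨ x = z) (hz1 : z ≠ 1) (hw : w ∈ W i) (hwZ : w ∉ Z i) (x : G) :
    x ∈ W i ↔ x = 1 ∨ x = z ∨ x = w ∨ x = z * w := by
  have hzm : z ∈ Z i := (hz z).2 (Or.inr rfl)
  have hZW := Line.ZW hf i
  constructor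
  · intro hx
    by_cases hxZ : x ∈ Z i
    · rcases (hz x).1 hxZ with e | e
      · exact Or.inl e
      · exact Or.inr (Or.inl e)
    · have hWc : Nat.card (W i) = 4 := by rw [(hf.blk i).card, hf.cardZ i]
      have hidx : ((Z i).subgroupOf (W i)).index = 2 := by
        have e1 := Subgroup.card_mul_index ((Z i).subgroupOf (W i))
        have e2 : Nat.card ((Z i).subgroupOf (W i)) = 2 := by
          rw [Nat.card_congr (subgroupOfEquivOfLe hZW).toEquiv, hf.cardZ i]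
        rw [e2, hWc] at e1
        omega
      have h5 := Subgroup.mul_mem_iff_of_index_two hidx (a := ⟨x, hx⟩) (b := ⟨w, hw⟩⁻¹)
      have h6 : ((⟨x, hx⟩ * ⟨w, hw⟩⁻¹ : W i) : G) = x * w⁻¹ := rfl
      rw [mem_subgroupOf, mem_subgroupOf, mem_subgroupOf, h6] at h5
      have h7 : x * w⁻¹ ∈ Z i := h5.2 (iff_of_false hxZ fun h7 => hwZ (by simpa using h7))
      rcases (hz _).1 h7 with e | e
      · right; right; left
        exact mul_inv_eq_one.1 e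
      · right; right; right
        exact mul_inv_eq_iff_eq_mul.1 e
  · rintro (rfl | rfl | rfl | rfl)
    · exact one_mem _
    · exact hZW hzm
    · exact hw
    · exact mul_mem (hZW hzm) hw

/-- `W i` for the pair `{0, 1}` -/
theorem W_zero {i j : ι} (hij : i ≠ j) (hZi : ∀ x, x ∈ Z i ↔ x = 1 ∨ x = nn p)
    {t s : G} (ht : t ∈ A i) (hti : ∀ k, t * p k * t⁻¹ = p (Equiv.swap 0 1 k))
    (hs : s ∈ A j) (hsj : ∀ k, s * p k * s⁻¹ = p (Equiv.swap 2 3 k)) (x : G) :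
    x ∈ W i ↔ x = 1 ∨ x = nn p ∨ x = p 0 * p 4 ∨ x = p 1 * p 4 := by
  obtain ⟨a, b, hab, hw, hwZ⟩ := exists_light h hf hBS i ((hZi _).2 (Or.inr rfl)) h.std.n_ne_one ⟨1, by group⟩
  have hmem := mem_W hf hZi h.std.n_ne_one hw hwZ
  -- `t` moves `w`
  have htw : t * (p a * p b) * t⁻¹ ≠ p a * p b := by
    intro e
    have hne := hf.Ane i
    push Not at hne
    obtain ⟨t', ht', w0, hw0, hne⟩ := hne
    -- `t` centralises `W i`
    have hc : ∀ x ∈ W i, t * x * t⁻¹ = x := by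
      intro x hx
      have hn : t * nn p * t⁻¹ = nn p := by
        rw [nn, NTwo.cm, hti, hti, Equiv.swap_apply_left, Equiv.swap_apply_right]
        exact h.std.comm 1 0
      rcases (hmem x).1 hx with rfl | rfl | rfl | rfl
      · group
      · exact hn
      · exact e
      · rw [NTwo.cm, hn, e]
    -- but `t` moves `p 0`
    obtain ⟨w, hw', c, hc', e0⟩ := hf.WC i (p 0) (h.p_mem 0)
    have h1 : t * p 0 * t⁻¹ = p 0 := by
      rw [e0, NTwo.cm, hc w hw', hf.AC i t ht c hc', mul_inv_cancel_right]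
    rw [hti, Equiv.swap_apply_left] at h1
    exact absurd (h.std.inj h1) (by decide)
  have hsw : s * (p a * p b) * s⁻¹ = p a * p b := by
    rw [hf.AC j s hs _ (hf.WjC j i (Ne.symm hij) hw), mul_inv_cancel_right]
  have hA : ¬ ((Equiv.swap (0 : Fin 5) 1 a = a ∧ Equiv.swap (0 : Fin 5) 1 b = b) ∨
      (Equiv.swap (0 : Fin 5) 1 a = b ∧ Equiv.swap (0 : Fin 5) 1 b = a)) := by
    rintro (⟨e1, e2⟩ | ⟨e1, e2⟩)
    · apply htw
      rw [NTwo.cm, hti, hti, e1, e2]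
    · apply htw
      rw [NTwo.cm, hti, hti, e1, e2]
      exact h.std.comm b a
  have hB : ((Equiv.swap (2 : Fin 5) 3 a = a ∧ Equiv.swap (2 : Fin 5) 3 b = b) ∨
      (Equiv.swap (2 : Fin 5) 3 a = b ∧ Equiv.swap (2 : Fin 5) 3 b = a)) := by
    rw [NTwo.cm, hsj, hsj] at hsw
    exact h.std.pair_inj (fun e => hab ((Equiv.swap (2 : Fin 5) 3).injective e)) hab hsw
  have e0 : nn p * (p 0 * p 4) = p 1 * p 4 := by
    rw [nn, h.std.comm 0 1, mul_assoc, ← mul_assoc (p 0) (p 0), h.std.sq, one_mul]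
  have e1 : nn p * (p 1 * p 4) = p 0 * p 4 := by
    rw [nn, mul_assoc, ← mul_assoc (p 1) (p 1), h.std.sq, one_mul]
  rw [hmem x]
  rcases pt_cases a b hab hA hB with ⟨rfl, rfl⟩ | ⟨rfl, rfl⟩ | ⟨rfl, rfl⟩ | ⟨rfl, rfl⟩
  · rw [e0]
  · rw [e1]; tauto
  · rw [h.std.comm 4 0, e0]
  · rw [h.std.comm 4 1, e1]; tauto

/-- `W i` for the pair `{2, 3}` -/
theorem W_one {i j : ι} (hij : i ≠ j) (hZi : ∀ x, x ∈ Z i ↔ x = 1 ∨ x = aa p)
    {t s : G} (ht : t ∈ A i) (hti : ∀ k, t * p k * t⁻¹ = p (Equiv.swap 2 3 k))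
    (hs : s ∈ A j) (hsj : ∀ k, s * p k * s⁻¹ = p (Equiv.swap 0 1 k)) (x : G) :
    x ∈ W i ↔ x = 1 ∨ x = aa p ∨ x = p 2 * p 4 ∨ x = p 3 * p 4 := by
  obtain ⟨y, -, hy⟩ := h.lights (i := 2) (j := 3) (by decide)
  obtain ⟨a, b, hab, hw, hwZ⟩ := exists_light h hf hBS i ((hZi _).2 (Or.inr rfl)) h.std.a_ne_one ⟨y, hy⟩
  have hmem := mem_W hf hZi h.std.a_ne_one hw hwZ
  have htw : t * (p a * p b) * t⁻¹ ≠ p a * p b := by
    intro e
    have hc : ∀ x ∈ W i, t * x * t⁻¹ = x := by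
      intro x hx
      have hn : t * aa p * t⁻¹ = aa p := by
        rw [aa, NTwo.cm, hti, hti, Equiv.swap_apply_left, Equiv.swap_apply_right]
        exact h.std.comm 3 2
      rcases (hmem x).1 hx with rfl | rfl | rfl | rfl
      · group
      · exact hn
      · exact e
      · rw [NTwo.cm, hn, e]
    obtain ⟨w, hw', c, hc', e0⟩ := hf.WC i (p 2) (h.p_mem 2)
    have h1 : t * p 2 * t⁻¹ = p 2 := by
      rw [e0, NTwo.cm, hc w hw', hf.AC i t ht c hc', mul_inv_cancel_right]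
    rw [hti, Equiv.swap_apply_left] at h1
    exact absurd (h.std.inj h1) (by decide)
  have hsw : s * (p a * p b) * s⁻¹ = p a * p b := by
    rw [hf.AC j s hs _ (hf.WjC j i (Ne.symm hij) hw), mul_inv_cancel_right]
  have hA : ¬ ((Equiv.swap (2 : Fin 5) 3 a = a ∧ Equiv.swap (2 : Fin 5) 3 b = b) ∨
      (Equiv.swap (2 : Fin 5) 3 a = b ∧ Equiv.swap (2 : Fin 5) 3 b = a)) := by
    rintro (⟨e1, e2⟩ | ⟨e1, e2⟩)
    · apply htw
      rw [NTwo.cm, hti, hti, e1, e2]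
    · apply htw
      rw [NTwo.cm, hti, hti, e1, e2]
      exact h.std.comm b a
  have hB : ((Equiv.swap (0 : Fin 5) 1 a = a ∧ Equiv.swap (0 : Fin 5) 1 b = b) ∨
      (Equiv.swap (0 : Fin 5) 1 a = b ∧ Equiv.swap (0 : Fin 5) 1 b = a)) := by
    rw [NTwo.cm, hsj, hsj] at hsw
    exact h.std.pair_inj (fun e => hab ((Equiv.swap (0 : Fin 5) 1).injective e)) hab hsw
  have e0 : aa p * (p 2 * p 4) = p 3 * p 4 := by
    rw [aa, h.std.comm 2 3, mul_assoc, ← mul_assoc (p 2) (p 2), h.std.sq, one_mul]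
  have e1 : aa p * (p 3 * p 4) = p 2 * p 4 := by
    rw [aa, mul_assoc, ← mul_assoc (p 3) (p 3), h.std.sq, one_mul]
  rw [hmem x]
  rcases pt_cases' a b hab hA hB with ⟨rfl, rfl⟩ | ⟨rfl, rfl⟩ | ⟨rfl, rfl⟩ | ⟨rfl, rfl⟩
  · rw [e0]
  · rw [e1]; tauto
  · rw [h.std.comm 4 2, e0]
  · rw [h.std.comm 4 3, e1]; tauto

/-- **The two pairs.** -/
theorem exists_id5 (htwo : ∀ i : ι, ∃ j, j ≠ i) (hB : B = (S : Subgroup G) ⊓ centralizer (ZJ : Set G)) :
    ∃ e : Fin 2 ≃ ι, Id5 (S : Subgroup G) B (W ∘ e) (Z ∘ e) p := by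
  classical
  -- an index exists
  have hι : Nonempty ι := by
    by_contra hemp
    rw [not_nonempty_iff] at hemp
    exact h.std.n_ne_one (hf.C0 _ h.n_mem fun i => (hemp.false i).elim)
  have hna := h.std.n_ne_a
  -- both pairs occur
  have key : ∀ i j, i ≠ j → (∀ x, x ∈ Z i ↔ x = 1 ∨ x = nn p) → ¬ ∀ x, x ∈ Z j ↔ x = 1 ∨ x = nn p := by
    intro i j hij h1 h2
    exact h.std.n_ne_one (Z_inter h hf hij ((h1 _).2 (Or.inr rfl)) ((h2 _).2 (Or.inr rfl)))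
  have key' : ∀ i j, i ≠ j → (∀ x, x ∈ Z i ↔ x = 1 ∨ x = aa p) → ¬ ∀ x, x ∈ Z j ↔ x = 1 ∨ x = aa p := by
    intro i j hij h1 h2
    exact h.std.a_ne_one (Z_inter h hf hij ((h1 _).2 (Or.inr rfl)) ((h2 _).2 (Or.inr rfl)))
  obtain ⟨i, j, hij, t, ht, s, hs, hZi, hti, hZj, hsj⟩ : ∃ i j, i ≠ j ∧ ∃ t ∈ A i, ∃ s ∈ A j,
      (∀ x, x ∈ Z i ↔ x = 1 ∨ x = nn p) ∧ (∀ k, t * p k * t⁻¹ = p (Equiv.swap 0 1 k)) ∧
      (∀ x, x ∈ Z j ↔ x = 1 ∨ x = aa p) ∧ (∀ k, s * p k * s⁻¹ = p (Equiv.swap 2 3 k)) := by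
    obtain ⟨i⟩ := hι
    obtain ⟨j, hji⟩ := htwo i
    obtain ⟨t, ht, h1⟩ := pair_of h hf hBS i
    obtain ⟨s, hs, h2⟩ := pair_of h hf hBS j
    rcases h1 with ⟨h1, h1'⟩ | ⟨h1, h1'⟩ <;> rcases h2 with ⟨h2, h2'⟩ | ⟨h2, h2'⟩
    · exact absurd h2 (key i j (Ne.symm hji) h1)
    · exact ⟨i, j, Ne.symm hji, t, ht, s, hs, h1, h1', h2, h2'⟩
    · exact ⟨j, i, hji, s, hs, t, ht, h2, h2', h1, h1'⟩
    · exact absurd h2 (key' i j (Ne.symm hji) h1)
  have hall : ∀ k, k = i ∨ k = j := by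
    intro k
    by_contra hcon
    push Not at hcon
    obtain ⟨u, hu, h1 | h1⟩ := pair_of h hf hBS k
    · exact key i k (Ne.symm hcon.1) hZi h1.1
    · exact key' j k (Ne.symm hcon.2) hZj h1.1
  let f : Fin 2 → ι := ![i, j]
  have hbij : Function.Bijective f := by
    constructor
    · intro a b hab
      fin_cases a <;> fin_cases b <;> simp [f] at hab ⊢
      · exact absurd hab hij
      · exact absurd hab.symm hij
    · intro k
      rcases hall k with rfl | rfl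
      · exact ⟨0, rfl⟩
      · exact ⟨1, rfl⟩
  refine ⟨Equiv.ofBijective f hbij, ?_, ?_, ?_, ?_, ?_⟩
  · apply le_antisymm
    · intro b hb
      refine Std.mem_T.2 ⟨hBS hb, ?_⟩
      have h1 : nn p ∈ ZJ := hf.Z_le i ((hZi _).2 (Or.inr rfl))
      rw [((hf.mem_ZJ _).1 h1).2 b hb, mul_inv_cancel_right]
    · intro b hb
      obtain ⟨hbS, hbn⟩ := Std.mem_T.1 hb
      have hba := h.std.T_a hb
      rw [hB]
      refine mem_inf.2 ⟨hbS, ?_⟩
      have h1 : ZJ ≤ centralizer ({b} : Set G) := by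
        refine zj_le hf fun k => ?_
        intro x hx
        rw [mem_centralizer_singleton_iff]
        rcases hall k with rfl | rfl
        · rcases (hZi x).1 hx with rfl | rfl
          · simp
          · exact (mul_inv_eq_iff_eq_mul.1 hbn).symm
        · rcases (hZj x).1 hx with rfl | rfl
          · simp
          · exact (mul_inv_eq_iff_eq_mul.1 hba).symm
      rw [mem_centralizer_iff]
      intro x hx
      exact mem_centralizer_singleton_iff.1 (h1 hx)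
  · exact hZi
  · exact hZj
  · exact W_zero h hf hBS hij hZi ht hti hs hsj
  · exact W_one h hf hBS (Ne.symm hij) hZj hs hsj ht hti

end frame

/-- **A minimal parabolic of smaller stage over `B` centralises `Ω₁(Z(B))`.** -/
theorem low_five {ι : Type} [Finite ι] {S : Sylow 2 G} {P : Subgroup G} {n : ℕ} {L W Z C A : ι → Subgroup G}
    {p : Fin 5 → G} {R : Subgroup G} (h : FiveL S P p) (hln : Ln S P n L W Z C A 2)
    (hall : ∀ R, IsParS (S : Subgroup G) R → lev (S : Subgroup G) n ≤ o2 R)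
    (hP : IsMinPar (SwapL.BL (S : Subgroup G) n) R) (hR : Syl (SwapL.BL (S : Subgroup G) n) R)
    (hc : R ⊓ centralizer (o2 R : Set G) ≤ o2 R) (hn : ¬ lev (S : Subgroup G) n ≤ o2 R) :
    R ≤ centralizer (zc (SwapL.BL (S : Subgroup G) n) : Set G) := by
  obtain ⟨e, hid⟩ := exists_id5 h hln.fr (SwapL.lb S n).BS hln.two rfl
  exact low_five_two h hid (ln_reindex hln e) hall hP hR hc hn

end Cfsg.Agent.Omega.NO3S.Sym.LowFive
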