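import Cfsg.Agent.Omega.NTwo.TT
import Cfsg.Agent.Omega.S5.Plug

/-!
# NO-3S, `V_P` = even subsets of five letters: the light involution is not 2-central (helper215 #14965 (A))

`Hyp S P`, `p : Fin 5 → G` the five singular vectors of `V = V_P` in standard position (`NTwo.Std`),
`nn p = p 0 * p 1` a light vector.

* `exit` : if `nn p` is 2-central there is `P' ∈ P*(S)` with `|V_{P'}| = 4` and `⟨P', C_G(Z)⟩` nonlocal;
* `known_of_central` : then `Two K` applies;
* `symTwo_of` : `SymTwo K` from `Two K` and the case "no Sylow 2-subgroup centralises `nn p`".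
-/

set_option autoImplicit false

namespace Cfsg.Agent.Omega.NO3S.Sym.Exit

open Subgroup Cfsg Cfsg.Agent.ZN Cfsg.Agent.Omega.MinPar Cfsg.Agent.Omega.Frame Cfsg.Agent.Omega.FrameNOFF
open Cfsg.Agent.Omega.NO3S Cfsg.Agent.Omega.NTwo
open Cfsg.Agent.Omega.FrameFF (cv)
open Cfsg.Agent.Omega.FFThm (SymK)
open Cfsg.Agent.MinSimple.VModule
open scoped Pointwise

universe u

/-- **Setting**: `Hyp S P` and the five singular vectors of `V_P` in standard position. -/
structure Five {G : Type u} [Group G] [Finite G] (S : Sylow 2 G) (P : Subgroup G) (p : Fin 5 → G) : Prop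
    extends Hyp S P where
  std : Std (S : Subgroup G) P p
  gen : zl (S : Subgroup G) P = closure (Set.range p)

variable {G : Type u} [Group G]

/-- `Z ≤ V_{P'}` is moved onto `n`: `⟨P', C(z)⟩` is nonlocal if `⟨P, C(z)⟩` is. -/
theorem nonLoc {S P P' : Subgroup G} {p : Fin 5 → G} (h : Std S P p)
    (hn : NonLoc P (centralizer ({p 4} : Set G))) (hP' : ∃ y ∈ P', y * p 4 * y⁻¹ = nn p) :
    NonLoc P' (centralizer ({p 4} : Set G)) := by
  intro B hB hPB hCB
  obtain ⟨y, hy, hyn⟩ := hP'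
  obtain ⟨M, hM⟩ : ∃ M : Subgroup G, M = normalizer (B : Set G) := ⟨_, rfl⟩
  rw [← hM] at hPB hCB
  have hyM : y ∈ M := hPB hy
  have hnM : centralizer ({nn p} : Set G) ≤ M := by
    intro g hg
    rw [mem_cent] at hg
    have h1 : y⁻¹ * g * y ∈ centralizer ({p 4} : Set G) := by
      rw [mem_cent]
      calc y⁻¹ * g * y * p 4 * (y⁻¹ * g * y)⁻¹ = y⁻¹ * (g * (y * p 4 * y⁻¹) * g⁻¹) * y := by group
        _ = y⁻¹ * (y * p 4 * y⁻¹) * y := by rw [hyn, hg]
        _ = p 4 := by group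
    have h2 := mul_mem (mul_mem hyM (hCB h1)) (inv_mem hyM)
    have e : y * (y⁻¹ * g * y) * y⁻¹ = g := by group
    rwa [e] at h2
  have hPM : P ≤ M := by
    have h1 : ∀ σ : Equiv.Perm (Fin 5), ∃ g ∈ M, g ∈ P ∧ ∀ i, g * p i * g⁻¹ = p (σ i) := by
      refine perm_gen {σ | ∃ g ∈ M, g ∈ P ∧ ∀ i, g * p i * g⁻¹ = p (σ i)} ?_ ?_ ?_
      · rintro σ ⟨g, hg, hgP, h1⟩ τ ⟨k, hk, hkP, h2⟩
        refine ⟨g * k, mul_mem hg hk, mul_mem hgP hkP, fun i => ?_⟩
        rw [← cc, h2, h1]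
        rfl
      · intro σ hσ
        obtain ⟨g, hg, h1⟩ := h.full σ
        refine ⟨g, hCB ?_, hg, h1⟩
        rw [mem_cent, h1, hσ]
      · obtain ⟨g, hg, h1⟩ := h.full (Equiv.swap 2 4)
        refine ⟨g, hnM ?_, hg, h1⟩
        rw [mem_cent, nn, cm, h1, h1]
        rfl
    intro g hg
    obtain ⟨σ, hσ⟩ := h.perm g hg
    obtain ⟨g', hg', -, h2⟩ := h1 σ
    exact Fv.mem_of_same hCB hg' fun i => by rw [hσ, h2]
  rw [hM] at hPM hCB
  exact hn B hB hPM hCB

variable [Finite G] {S : Sylow 2 G} {P : Subgroup G} {p : Fin 5 → G}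

theorem Five.nonLoc' (h : Five S P p) : NonLoc P (centralizer ({p 4} : Set G)) := by
  rw [← cent_zc h.std]
  exact h.nonLoc

/-- **(A)** `n` 2-central gives a natural member of `P**`. -/
theorem Five.exit (h : Five S P p) (T₀ : Sylow 2 G) (hT₀ : ∀ x ∈ (T₀ : Subgroup G), x * nn p * x⁻¹ = nn p) :
    ∃ P' : Subgroup G, IsParS (S : Subgroup G) P' ∧ NonLoc P' (CZ (S : Subgroup G)) ∧
      Nat.card (zl (S : Subgroup G) P') = 4 ∧ zl (S : Subgroup G) P' ≤ zl (S : Subgroup G) P := by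
  obtain ⟨P', hP', hy, hz, -⟩ := exists_par S h.std T₀ hT₀
  refine ⟨P', hP', ?_, card_four h.std hz, ?_⟩
  · change NonLoc P' (centralizer (zc (S : Subgroup G) : Set G))
    rw [cent_zc h.std]
    exact nonLoc h.std h.nonLoc' hy
  · have hp : ∀ i, p i ∈ zl (S : Subgroup G) P := fun i => h.gen ▸ subset_closure (Set.mem_range_self i)
    intro x hx
    rcases (hz x).1 hx with rfl | rfl | rfl | rfl
    · exact one_mem _
    · exact mul_mem (hp _) (hp _)
    · exact mul_mem (hp _) (hp _)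
    · exact hp _

omit [Finite G] in
theorem WW_mono {S P P' : Subgroup G} (h : zl S P' ≤ zl S P) : WW S P' ≤ WW S P := by
  refine NoFF.Lines.W_le fun Q hQ c hc => ?_
  obtain rfl : Q = P' := hQ
  exact (NoFF.Basic.conj_le_iff.2 h).trans (NoFF.Lines.line_le (Set.mem_singleton P) hc)

/-- **(A), plugged**. -/
theorem known_of_central {K : Cls.{u}} (h2 : Two K) {G : Type u} [Group G] [Finite G] (hK : K G)
    {S : Sylow 2 G} {P : Subgroup G} {p : Fin 5 → G} (h : Five S P p) (T₀ : Sylow 2 G)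
    (hT₀ : ∀ x ∈ (T₀ : Subgroup G), x * nn p * x⁻¹ = nn p) : IsKnownSimple' G := by
  obtain ⟨P', hP', hn, hc, hle⟩ := h.exit T₀ hT₀
  refine h2 G hK S P' (Hyp.of_four h.ctx hP' hn hc h.full ?_) hc
  exact NoFF.Basic.comm_mono h.W_comm (WW_mono hle) (WW_mono hle)

/-- The setting from `SymK`, `k = 1`, `m = 2`. -/
theorem exists_five {G : Type u} [Group G] [Finite G] {S : Sylow 2 G} {P : Subgroup G} (h : Hyp S P)
    (M : SymK (S : Subgroup G) P (zl (S : Subgroup G) P) (cv (S : Subgroup G) P) 1 2) :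
    ∃ p : Fin 5 → G, Five S P p := by
  have hev := S5.Of.evenSet M h.cen (by norm_num) (le_normalizer_zl _ _)
  have hfv := S5.Plug.fv hev
  have hcl := S5.Plug.closure_eq hev
  have hle : zl (S : Subgroup G) P ≤ (S : Subgroup G) :=
    (h.zl_le.trans (zc_le _)).trans (h.star.isLoc.o2_le S)
  obtain ⟨ρ, hρ⟩ := hfv.exists_std S h.star.le (fun i => hle (hev.mem _))
    (fun x hx => by rw [← hcl]; exact zc_le_zl _ _ hx)
  refine ⟨_, { toHyp := h, std := hρ, gen := ?_ }⟩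
  rw [ρ.surjective.range_comp]
  exact hcl

/-- `SymTwo K` from `Two K` and the light case. -/
theorem symTwo_of {K : Cls.{u}} (h2 : Two K)
    (hl : ∀ (G : Type u) [Group G] [Finite G], K G → ∀ (S : Sylow 2 G) (P : Subgroup G), HypJ S P →
      ∀ p : Fin 5 → G, Five S P p →
        (∀ T₀ : Sylow 2 G, ¬ ∀ x ∈ (T₀ : Subgroup G), x * nn p * x⁻¹ = nn p) → IsKnownSimple' G) :
    SymTwo K := by
  intro G _ _ hK S P h M
  obtain ⟨p, hp⟩ := exists_five h.toHyp M
  by_cases hc : ∃ T₀ : Sylow 2 G, ∀ x ∈ (T₀ : Subgroup G), x * nn p * x⁻¹ = nn p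
  · obtain ⟨T₀, hT₀⟩ := hc
    exact known_of_central h2 hK hp T₀ hT₀
  · push Not at hc
    exact hl G hK S P h p hp fun T₀ h0 => by
      obtain ⟨x, hx, h1⟩ := hc T₀
      exact h1 (h0 x hx)

end Cfsg.Agent.Omega.NO3S.Sym.Exit
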