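import Cfsg.Agent.Omega.NO3S.Sym.FieldLin
import Cfsg.Agent.Omega.NO3S.Sym.Exit

/-!
# NO-3S, `V_P` = even subsets of five letters: the field type is dead (helper755, #16817 (1), (2), (4))

* `FT F e Y X T a x` : the input from the list: `X` is a sum of blocks over `F` for `T`, with lifting of fixed points;
  the coordinates of `x` are multiples of those of `a`;
* `FT.blk` : (2) a largest elementary abelian subgroup `A ≤ T` of `S` gives the structure `FieldLin.Blk`;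
* `FT.false` : no element of such an `A` fixes `a` and maps `x` to `x a`;
* `exists_AA` : (1) `J(S) ≰ O₂(P)`: some `A ∈ A(S)`, `A ≤ T = C_S(n)`, contains an element which swaps
  `p 2` and `p 3`;
* `false_of_FT` : the end.
-/

set_option autoImplicit false
set_option linter.unusedSectionVars false

namespace Cfsg.Agent.Omega.NO3S.Sym.FieldEnd

open Subgroup Cfsg Cfsg.Agent.ZN Cfsg.Agent.ZN.ChoiceBase Cfsg.Agent.Omega.MinPar
open Cfsg.Agent.Omega.NO3S Cfsg.Agent.Omega.NTwo Cfsg.Agent.Omega.NO3S.Sym.Exit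
open Cfsg.Agent.Omega.NO3S.Sym.FieldLin
open Cfsg.Agent.MinSimple.VModule

universe u

variable {G : Type u} [Group G]

/-- `X` has coordinates `e` in blocks over `F` which the 2-group `T` permutes semilinearly, with subgroups `Y i ≤ X`
to which the fixed points of the elementary abelian subgroups of `T` lift; the coordinates of `x` are multiples of
those of `a`. -/
structure FT (F : Type*) {N ι : Type*} [Field F] [AddCommGroup N] [Module F N] (e : G → ι → N)
    (Y : ι → Subgroup G) (X T : Subgroup G) (a x : G) : Prop where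
  mul : ∀ y ∈ X, ∀ z ∈ X, e (y * z) = e y + e z
  act : ∀ t ∈ T, ∀ i, ∃ j, ∃ φ : F ≃+* F, Mv e X t i j φ
  le : ∀ i, Y i ≤ X
  only : ∀ i, ∀ y ∈ Y i, ∀ j, j ≠ i → e y j = 0
  lift : ∀ i, ∀ B ≤ T, IsElementaryAbelian 2 B → (∀ b ∈ B, Mv e X b i i (RingEquiv.refl F)) → ∀ v : N,
    (∀ b ∈ B, ∀ y ∈ X, e y i = v → e (b * y * b⁻¹) i = v) → ∃ y ∈ Y i, e y i = v ∧ ∀ b ∈ B, b * y = y * b
  a_mem : a ∈ X
  x_mem : x ∈ X
  line : ∀ i, ∃ c : F, e x i = c • e a i
  ne : e a ≠ 0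

theorem elem_mono {A B : Subgroup G} (hA : IsElementaryAbelian 2 A) (h : B ≤ A) : IsElementaryAbelian 2 B :=
  ⟨⟨⟨fun a b => Subtype.ext (congrArg (fun t : A => (t : G)) (hA.1.is_comm.comm ⟨a, h a.2⟩ ⟨b, h b.2⟩))⟩⟩,
    fun a ha => hA.2 a (h ha)⟩

theorem elem_comm {A : Subgroup G} (hA : IsElementaryAbelian 2 A) {a b : G} (ha : a ∈ A) (hb : b ∈ A) :
    a * b = b * a := congrArg Subtype.val (hA.1.is_comm.comm ⟨a, ha⟩ ⟨b, hb⟩)

theorem elem_sq {A : Subgroup G} (hA : IsElementaryAbelian 2 A) {a : G} (ha : a ∈ A) : a * a = 1 := by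
  rw [← pow_two]; exact hA.2 a ha

section two

variable [Finite G] {S X A T : Subgroup G}

/-- (2) -/
theorem ff_of_AA (hX : IsElementaryAbelian 2 X) (hXS : X ≤ S) (hA : A ∈ AA S) {B : Subgroup G} (hB : B ≤ A) :
    Nat.card B * Nat.card ↥(X ⊓ centralizer (B : Set G)) ≤
      Nat.card A * Nat.card ↥(X ⊓ centralizer (A : Set G)) := by
  have hc : X ⊓ centralizer (B : Set G) ≤ centralizer (B : Set G) := inf_le_right
  have h1 := PLocal.ElemAbSup.isElementaryAbelian_sup (elem_mono hA.1 hB) (elem_mono hX inf_le_left) hc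
  have h2 := hA.2.2 _ h1 (sup_le (hB.trans hA.2.1) (inf_le_left.trans hXS))
  rw [← PLocal.ElemAbSup.card_sup_mul_card_inf hc]
  refine Nat.mul_le_mul h2 (card_le_of_le fun y hy => ⟨hy.2.1, mem_centralizer_iff.2 fun a ha => ?_⟩)
  exact elem_comm hA.1 ha (hB hy.1)

variable {F N ι : Type*} [Field F] [AddCommGroup N] [Module F N] {e : G → ι → N} {Y : ι → Subgroup G} {a x : G}

theorem FT.blk (D : FT F e Y X T a x) (hX : IsElementaryAbelian 2 X) (hXS : X ≤ S)
    (hT : T ≤ normalizer (X : Set G)) (hA : A ∈ AA S) (hAT : A ≤ T) : Blk F e Y X A where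
  comm _ ha _ hb := elem_comm hA.1 ha hb
  sq _ ha := elem_sq hA.1 ha
  xcomm _ ha _ hb := elem_comm hX ha hb
  norm _ ha x hx := (mem_normalizer_iff.1 (hT (hAT ha)) x).1 hx
  mul := D.mul
  act a ha := D.act a (hAT ha)
  le := D.le
  only := D.only
  lift i B hB := D.lift i B (hB.trans hAT) (elem_mono hA.1 hB)
  ff _ hB := ff_of_AA hX hXS hA hB

/-- **(4)**: no element of `A` fixes `a` and maps `x` to `x a`. -/
theorem FT.false [Finite F] [Finite N] [CharP F 2] (D : FT F e Y X T a x) (hF : 4 ≤ Nat.card F)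
    (hN : 4 < Nat.card N) (hX : IsElementaryAbelian 2 X) (hXS : X ≤ S) (hT : T ≤ normalizer (X : Set G))
    (hA : A ∈ AA S) (hAT : A ≤ T) {b : G} (hb : b ∈ A) (hba : b * a = a * b) (hbx : b * x * b⁻¹ = x * a) :
    False :=
  (D.blk hX hXS hT hA hAT).false hF hN hb D.a_mem D.x_mem hba hbx D.line D.ne

end two

/-! ### (1) -/

theorem card_le_of_fiber [Finite G] {A K : Subgroup G} {α : Type*} [Finite α] (f : A → α)
    (hf : ∀ a b, f a = f b → (a : G)⁻¹ * b ∈ K) : Nat.card A ≤ Nat.card K * Nat.card α := by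
  classical
  have hsec : ∀ t : α, ∃ b : A, (∃ c, f c = t) → f b = t := by
    intro t
    by_cases ht : ∃ c, f c = t
    · obtain ⟨c, hc⟩ := ht
      exact ⟨c, fun _ => hc⟩
    · exact ⟨1, fun h0 => absurd h0 ht⟩
  choose sec hsec using hsec
  rw [← Nat.card_prod]
  refine Nat.card_le_card_of_injective (fun a : A =>
    ((⟨(sec (f a) : G)⁻¹ * a, hf _ _ (hsec (f a) ⟨a, rfl⟩)⟩ : K), f a)) ?_
  intro a b hab
  have h1 : f a = f b := congrArg Prod.snd hab
  have h2 : (sec (f a) : G)⁻¹ * a = (sec (f b) : G)⁻¹ * b := congrArg (fun t => ((t.1 : K) : G)) hab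
  rw [h1] at h2
  exact Subtype.ext (mul_left_cancel h2)

theorem card_le_finset {K : Subgroup G} {s : Finset G} (h : ∀ v ∈ K, v ∈ s) : Nat.card K ≤ s.card := by
  have h1 : Nat.card s = s.card := by rw [Nat.card_eq_fintype_card, Fintype.card_coe]
  rw [← h1]
  exact Nat.card_le_card_of_injective (fun v : K => (⟨v, h v v.2⟩ : s)) fun v w hvw =>
    Subtype.ext (congrArg (fun t : s => (t : G)) hvw)

/-- the elements of `D8` which commute with `σ`, of exponent 2 -/
def cset (σ : Equiv.Perm (Fin 5)) : Finset (Equiv.Perm (Fin 5)) :=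
  Finset.univ.filter fun τ => τ ∈ D8 ∧ (∀ i, τ (σ i) = σ (τ i)) ∧ ∀ i, τ (τ i) = i

theorem card_cset : ∀ σ ∈ D8, (σ 0 ≠ 0 ∧ σ 0 ≠ 1) → (∀ i, σ (σ i) = i) → (cset σ).card ≤ 4 := by
  decide +kernel

theorem fix_pair : ∀ σ ∈ D8, (σ 0 ≠ 0 ∧ σ 0 ≠ 1) → (∀ i, σ (σ i) = i) → ∀ i j, i ≠ j →
    ((σ i = i ∧ σ j = j) ∨ (σ i = j ∧ σ j = i)) →
      (i = 0 ∧ j = σ 0) ∨ (i = σ 0 ∧ j = 0) ∨ (i = 1 ∧ j = σ 1) ∨ (i = σ 1 ∧ j = 1) := by
  decide +kernel

theorem fix_pt : ∀ σ ∈ D8, (σ 0 ≠ 0 ∧ σ 0 ≠ 1) → ∀ i, σ i = i → i = 4 := by decide +kernel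

theorem fix_two' : ∀ σ ∈ D8, (σ 0 ≠ 0 ∧ σ 0 ≠ 1) → (∀ i, σ (σ i) = i) → ∀ τ ∈ D8,
    ((∀ i, τ (σ i) = σ (τ i)) ∧ ∀ i, τ (τ i) = i) → (τ = 1 ∨ τ = σ) ∨
      ((¬ ((τ 0 = 0 ∧ τ (σ 0) = σ 0) ∨ (τ 0 = σ 0 ∧ τ (σ 0) = 0))) ∧
      ¬ ((τ 1 = 1 ∧ τ (σ 1) = σ 1) ∨ (τ 1 = σ 1 ∧ τ (σ 1) = 1))) := by
  decide +kernel

section one

variable {S P : Subgroup G} {p : Fin 5 → G} (h : Std S P p)
include h

/-- the permutation of `g ∈ S` is in `D8` -/
theorem mem_D8 {g : G} (hg : g ∈ S) {σ : Equiv.Perm (Fin 5)} (hσ : ∀ i, g * p i * g⁻¹ = p (σ i)) : σ ∈ D8 := by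
  have h4 : σ 4 = 4 := by
    have h1 := h.fix g hg
    rw [hσ] at h1
    exact h.inj h1
  have key : ∀ σ : Equiv.Perm (Fin 5), σ 4 = 4 → (((σ 0 = 0 ∧ σ 1 = 1) ∨ (σ 0 = 1 ∧ σ 1 = 0)) ∨
      ((σ 0 = 2 ∧ σ 1 = 3) ∨ (σ 0 = 3 ∧ σ 1 = 2))) → σ ∈ D8 := by decide +kernel
  refine key σ h4 ?_
  rcases h.part g hg with h1 | h1
  · left
    rw [cm, hσ, hσ] at h1
    exact h.pair_inj (fun e => absurd (σ.injective e) (by decide)) (by decide) h1
  · right
    rw [cm, hσ, hσ] at h1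
    exact h.pair_inj (fun e => absurd (σ.injective e) (by decide)) (by decide) h1

theorem card_V_ge [Finite G] : 9 ≤ Nat.card (closure (Set.range p)) := by
  classical
  have hp : ∀ i, p i ∈ closure (Set.range p) := fun i => subset_closure (Set.mem_range_self i)
  let f : Fin 5 ⊕ Fin 4 → closure (Set.range p) := fun t => match t with
    | .inl i => ⟨p i, hp i⟩
    | .inr j => ⟨p j.castSucc * p 4, mul_mem (hp _) (hp _)⟩
  have hf : Function.Injective f := by
    rintro (i | i) (j | j) hij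
    · have h1 : p i = p j := congrArg Subtype.val hij
      rw [h.inj h1]
    · have h1 : p i = p j.castSucc * p 4 := congrArg Subtype.val hij
      exact absurd h1.symm (h.mul_ne (by
        intro e
        have := congrArg Fin.val e
        simp only [Fin.val_castSucc] at this
        have h2 := j.2
        change (j : ℕ) = 4 at this
        omega) i)
    · have h1 : p i.castSucc * p 4 = p j := congrArg Subtype.val hij
      exact absurd h1 (h.mul_ne (by
        intro e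
        have := congrArg Fin.val e
        simp only [Fin.val_castSucc] at this
        have h2 := i.2
        change (i : ℕ) = 4 at this
        omega) j)
    · have h1 : p i.castSucc * p 4 = p j.castSucc * p 4 := congrArg Subtype.val hij
      have h2 := h.inj (mul_right_cancel h1)
      rw [Fin.castSucc_injective _ h2]
  have h1 := Nat.card_le_card_of_injective f hf
  rw [Nat.card_sum, Nat.card_eq_fintype_card, Nat.card_eq_fintype_card, Fintype.card_fin, Fintype.card_fin] at h1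
  exact h1

/-- (1): an offender in `S` is in `T` -/
theorem off_le_T [Finite G] {A : Subgroup G} (hAS : A ≤ S) (hA : FFThm.Off (closure (Set.range p)) A) :
    A ≤ Std.T S p := by
  classical
  intro a ha
  by_contra hcon
  have haS := hAS ha
  have hperm : ∀ b : A, ∃ σ : Equiv.Perm (Fin 5), ∀ i, (b : G) * p i * (b : G)⁻¹ = p (σ i) := fun b =>
    h.perm b (h.le (hAS b.2))
  choose sg hsg using hperm
  obtain ⟨σ, hσ⟩ : ∃ σ, σ = sg ⟨a, ha⟩ := ⟨_, rfl⟩
  have hσa : ∀ i, a * p i * a⁻¹ = p (σ i) := fun i => by rw [hσ]; exact hsg ⟨a, ha⟩ i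
  have hσD : σ ∈ D8 := mem_D8 h haS hσa
  have hcomm : ∀ {x y : G}, x ∈ A → y ∈ A → x * y = y * x := fun hx hy => elem_comm hA.elem hx hy
  have hsq : ∀ (b : A) i, sg b (sg b i) = i := by
    intro b i
    apply h.inj
    rw [← hsg b, ← hsg b, cc, elem_sq hA.elem b.2]
    group
  have hcm : ∀ (b : A) i, sg b (σ i) = σ (sg b i) := by
    intro b i
    apply h.inj
    rw [← hsg b, ← hσa, ← hσa, ← hsg b, cc, cc, hcomm b.2 ha]
  have hσ0 : σ 0 ≠ 0 ∧ σ 0 ≠ 1 := by
    have h1 : ¬ (a * nn p * a⁻¹ = nn p) := fun e => hcon (Std.mem_T.2 ⟨haS, e⟩)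
    rcases D8_part σ hσD with (h2 | h2) | (h2 | h2)
    · exact absurd (by rw [cm, hσa, hσa, h2.1, h2.2]) h1
    · exact absurd (by rw [cm, hσa, hσa, h2.1, h2.2, h.comm 1 0]) h1
    · rw [h2.1]; decide
    · rw [h2.1]; decide
  have hσσ : ∀ i, σ (σ i) = i := fun i => by rw [hσ]; exact hsq _ i
  have hset : ∀ b : A, sg b ∈ cset σ := fun b =>
    Finset.mem_filter.2 ⟨Finset.mem_univ _, mem_D8 h (hAS b.2) (hsg b), hcm b, hsq b⟩
  have hker : ∀ b c : A, sg b = sg c → (b : G)⁻¹ * c ∈ A ⊓ centralizer (closure (Set.range p) : Set G) := by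
    intro b c hbc
    refine mem_inf.2 ⟨mul_mem (inv_mem b.2) c.2, ?_⟩
    have hcl : closure (Set.range p) ≤ centralizer ({(b : G)⁻¹ * c} : Set G) := (closure_le _).2 ?_
    · exact mem_centralizer_iff.2 fun v hv => (mem_centralizer_singleton_iff.1 (hcl hv))
    rintro _ ⟨i, rfl⟩
    have h1 := hsg c i
    rw [← hbc, ← hsg b] at h1
    have h2 : (b : G)⁻¹ * c * p i * ((b : G)⁻¹ * c)⁻¹ = p i := by
      calc (b : G)⁻¹ * c * p i * ((b : G)⁻¹ * c)⁻¹ = (b : G)⁻¹ * (c * p i * (c : G)⁻¹) * b := by group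
        _ = p i := by rw [h1]; group
    exact mem_centralizer_singleton_iff.2 (comm_iff.1 h2).symm
  -- fixed vectors
  have hfix : ∀ v ∈ closure (Set.range p) ⊓ centralizer (A : Set G),
      v = 1 ∨ v = p 4 ∨ v = p 0 * p (σ 0) ∨ v = p 1 * p (σ 1) := by
    intro v hv
    have hva : a * v * a⁻¹ = v := comm_iff.2 (mem_centralizer_iff.1 hv.2 a ha)
    rcases h.mem_closure hv.1 with rfl | ⟨i, rfl⟩ | ⟨i, j, hij, rfl⟩
    · exact Or.inl rfl
    · rw [hσa] at hva
      rw [fix_pt σ hσD hσ0 i (h.inj hva)]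
      exact Or.inr (Or.inl rfl)
    · rw [cm, hσa, hσa] at hva
      have h1 := h.pair_inj (fun e => hij (σ.injective e)) hij hva
      rcases fix_pair σ hσD hσ0 hσσ i j hij h1 with ⟨rfl, rfl⟩ | ⟨rfl, rfl⟩ | ⟨rfl, rfl⟩ | ⟨rfl, rfl⟩
      · exact Or.inr (Or.inr (Or.inl rfl))
      · exact Or.inr (Or.inr (Or.inl (h.comm _ _)))
      · exact Or.inr (Or.inr (Or.inr rfl))
      · exact Or.inr (Or.inr (Or.inr (h.comm _ _)))
  have hV := card_V_ge h
  have hle := hA.le
  generalize hK : Nat.card ↥(A ⊓ centralizer (closure (Set.range p) : Set G)) = K at hle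
  generalize hC : Nat.card ↥(closure (Set.range p) ⊓ centralizer (A : Set G)) = C at hle
  have hKpos : 0 < K := by rw [← hK]; exact Nat.card_pos
  by_cases hb : ∃ b : A, sg b ≠ 1 ∧ sg b ≠ σ
  · obtain ⟨b, hb1, hb2⟩ := hb
    have h1 : Nat.card A ≤ K * 4 := by
      have h2 := card_le_of_fiber (fun b : A => (⟨sg b, hset b⟩ : cset σ)) fun b c hbc =>
        hker b c (congrArg Subtype.val hbc)
      rw [hK, Nat.card_eq_fintype_card (α := cset σ), Fintype.card_coe] at h2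
      exact h2.trans (Nat.mul_le_mul_left _ (card_cset σ hσD hσ0 hσσ))
    have h2 : C ≤ 2 := by
      rw [← hC]
      refine (card_le_finset (s := {1, p 4}) ?_).trans Finset.card_le_two
      · intro v hv
        have hvb : (b : G) * v * (b : G)⁻¹ = v := comm_iff.2 (mem_centralizer_iff.1 hv.2 b b.2)
        have h5 := (fix_two' σ hσD hσ0 hσσ (sg b) (mem_D8 h (hAS b.2) (hsg b)) ⟨hcm b, hsq b⟩).resolve_left
          fun e => e.elim hb1 hb2
        have hne0 : (0 : Fin 5) ≠ σ 0 := fun e => hσ0.1 e.symm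
        have hne1 : (1 : Fin 5) ≠ σ 1 := fun e => by
          have h6 := fix_pt σ hσD hσ0 1 e.symm
          exact absurd h6 (by decide)
        rw [Finset.mem_insert, Finset.mem_singleton]
        rcases hfix v hv with rfl | rfl | rfl | rfl
        · exact Or.inl rfl
        · exact Or.inr rfl
        · exfalso
          rw [cm, hsg b, hsg b] at hvb
          exact h5.1 (h.pair_inj (fun e => hne0 ((sg b).injective e)) hne0 hvb)
        · exfalso
          rw [cm, hsg b, hsg b] at hvb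
          exact h5.2 (h.pair_inj (fun e => hne1 ((sg b).injective e)) hne1 hvb)
    nlinarith
  · push Not at hb
    have h1 : Nat.card A ≤ K * 2 := by
      have h2 := card_le_of_fiber (fun b : A => decide (sg b = 1)) fun b c hbc => by
        apply hker b c
        by_cases h3 : sg b = 1
        · have h4 : sg c = 1 := by simpa [h3] using hbc
          rw [h3, h4]
        · have h4 : sg c ≠ 1 := by simpa [h3] using hbc
          rw [hb b h3, hb c h4]
      rw [hK, Nat.card_eq_fintype_card (α := Bool), Fintype.card_bool] at h2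
      exact h2
    have h2 : C ≤ 4 := by
      rw [← hC]
      refine (card_le_finset (s := {1, p 4, p 0 * p (σ 0), p 1 * p (σ 1)}) fun v hv => ?_).trans
        Finset.card_le_four
      rw [Finset.mem_insert, Finset.mem_insert, Finset.mem_insert, Finset.mem_singleton]
      exact hfix v hv
    nlinarith

/-- an element of `T` which swaps `p 2` and `p 3` maps `p 2 p 4` to `p 2 p 4 a` -/
theorem swap_conj {b : G} (hb : b ∈ S) (h2 : b * p 2 * b⁻¹ = p 3) : b * (p 2 * p 4) * b⁻¹ = p 2 * p 4 * aa p := by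
  rw [cm, h2, h.fix b hb]
  change p 3 * p 4 = p 2 * p 4 * (p 2 * p 3)
  symm
  calc p 2 * p 4 * (p 2 * p 3) = p 2 * (p 4 * p 2) * p 3 := by group
    _ = (p 2 * p 2) * (p 4 * p 3) := by rw [h.comm 4 2]; group
    _ = p 3 * p 4 := by rw [h.sq, one_mul, h.comm 4 3]

end one

/-- **(1)**: `J(S) ≰ O₂(P)`: some `A ∈ A(S)` is in `T` and contains an element which swaps `p 2` and `p 3`. -/
theorem exists_AA [Finite G] {S : Sylow 2 G} {P : Subgroup G} {p : Fin 5 → G} (h : Five S P p)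
    (hJ : ¬ jj (S : Subgroup G) ≤ o2 P) : ∃ A ∈ AA (S : Subgroup G), A ≤ Std.T (S : Subgroup G) p ∧
      ∃ b ∈ A, b * p 2 * b⁻¹ = p 3 := by
  obtain ⟨A, hA, hoff⟩ : ∃ A ∈ AA (S : Subgroup G), FFThm.Off (zl (S : Subgroup G) P) A := by
    by_contra hcon
    push Not at hcon
    apply hJ
    rw [jj_eq]
    refine sSup_le fun A hA => ?_
    by_contra hAc
    refine hcon A hA (FFThm.off_of_AA h.toHyp.elem h.toHyp.V_le_S hA fun hc => hAc ?_)
    rw [← h.toHyp.inf_centralizer]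
    exact le_inf hA.2.1 hc
  rw [h.gen] at hoff
  have hAT := off_le_T h.std hA.2.1 hoff
  obtain ⟨b, hb, i, hbi⟩ : ∃ b ∈ A, ∃ i, b * p i * b⁻¹ ≠ p i := by
    by_contra hcon
    push Not at hcon
    refine hoff.ne fun b hb => ?_
    have hcl : closure (Set.range p) ≤ centralizer ({b} : Set G) := (closure_le _).2 (by
      rintro _ ⟨i, rfl⟩
      exact mem_centralizer_singleton_iff.2 (comm_iff.1 (hcon b hb i)).symm)
    exact mem_centralizer_iff.2 fun v hv => mem_centralizer_singleton_iff.1 (hcl hv)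
  obtain ⟨σ, hσ⟩ := h.std.perm b (h.std.le (hA.2.1 hb))
  have hσD := mem_D8 h.std (hA.2.1 hb) hσ
  have hσi : σ i ≠ i := fun e => hbi (by rw [hσ, e])
  have hn := (Std.mem_T.1 (hAT hb)).2
  rw [cm, hσ, hσ] at hn
  have hn' := h.std.pair_inj (fun e => absurd (σ.injective e) (by decide)) (by decide) hn
  have key : ∀ σ ∈ D8, ((σ 0 = 0 ∧ σ 1 = 1) ∨ (σ 0 = 1 ∧ σ 1 = 0)) → ∀ i, σ i ≠ i → σ 2 = 3 ∨ σ 0 = 1 := by
    decide +kernel
  rcases key σ hσD hn' i hσi with h1 | h1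
  · exact ⟨A, hA, hAT, b, hb, by rw [hσ, h1]⟩
  · obtain ⟨τ, hτ, h2⟩ := h.std.tau
    obtain ⟨ρ, hρ⟩ := h.std.perm τ (h.std.le hτ)
    have hρD := mem_D8 h.std hτ hρ
    have hρ0 : ρ 0 ≠ 0 ∧ ρ 0 ≠ 1 := by
      rw [cm, hρ, hρ] at h2
      rcases h.std.pair_inj (fun e => absurd (ρ.injective e) (by decide)) (by decide) h2 with h3 | h3
      · rw [h3.1]; decide
      · rw [h3.1]; decide
    have key2 : ∀ ρ ∈ D8, (ρ 0 ≠ 0 ∧ ρ 0 ≠ 1) → ∀ σ ∈ D8, σ 0 = 1 → ρ (σ (ρ⁻¹ 2)) = 3 := by decide +kernel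
    have h3 := key2 ρ hρD hρ0 σ hσD h1
    refine ⟨cj τ A, ?_, ?_, τ * b * τ⁻¹, ?_, ?_⟩
    · have h4 := cj_mem_AA τ hA
      rwa [cj_eq_of_mem_normalizer (le_normalizer hτ)] at h4
    · rintro _ ⟨c, hc, rfl⟩
      exact (mem_normalizer_iff.1 (h.std.le_norm_T hτ) c).1 (hAT hc)
    · exact ⟨b, hb, rfl⟩
    · have h5 : τ⁻¹ * p 2 * τ = p (ρ⁻¹ 2) := by
        have h6 := hρ (ρ⁻¹ 2)
        rw [show ρ (ρ⁻¹ 2) = 2 from ρ.apply_symm_apply 2] at h6
        rw [← h6]
        group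
      calc τ * b * τ⁻¹ * p 2 * (τ * b * τ⁻¹)⁻¹ = τ * (b * (τ⁻¹ * p 2 * τ) * b⁻¹) * τ⁻¹ := by group
        _ = p 3 := by rw [h5, hσ, hρ, h3]

/-- **The field type is dead** (#16817), `k = 1`, `m = 2`: `X` an elementary abelian subgroup of `S`, normalised by
`T = C_S(n)`, with coordinates over `F`, `|F| ≥ 4`, such that `p 2 p 4` is on the line of `a = p 2 p 3`. -/
theorem false_of_FT [Finite G] {S : Sylow 2 G} {P : Subgroup G} {p : Fin 5 → G} (h : Five S P p)
    (hJ : ¬ jj (S : Subgroup G) ≤ o2 P) {F N ι : Type*} [Field F] [Finite F] [CharP F 2] [AddCommGroup N]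
    [Module F N] [Finite N] (hF : 4 ≤ Nat.card F) (hN : 4 < Nat.card N) {e : G → ι → N} {Y : ι → Subgroup G}
    {X : Subgroup G} (hX : IsElementaryAbelian 2 X) (hXS : X ≤ (S : Subgroup G))
    (hT : Std.T (S : Subgroup G) p ≤ normalizer (X : Set G))
    (D : FT F e Y X (Std.T (S : Subgroup G) p) (aa p) (p 2 * p 4)) : False := by
  obtain ⟨A, hA, hAT, b, hb, h1⟩ := exists_AA h hJ
  refine D.false hF hN hX hXS hT hA hAT hb ?_ (swap_conj h.std (hA.2.1 hb) h1)
  exact comm_iff.1 (h.std.T_a (hAT hb))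

end Cfsg.Agent.Omega.NO3S.Sym.FieldEnd
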