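import Cfsg.Agent.Omega.TV.Full
import Cfsg.Agent.Omega.OM.Delta.Orth

/-!
# THEOREM TV without fixed vector: every transvection is induced, or `Sp_{2n}(2)`

`h : GSys C N r`, a 2-group `T ≤ C` with `C_N(T) ≤ {1, r}`, a nontrivial transvection `t` with centre `r` which
centralises `p`, where `p`, `r p` are conjugate to `r`: all elements `≠ 1` of `N` are conjugate to `r`, and
`AllTv C N` or `Symp C N B`.

* `symp_or`; `tv_of` : in `Symp C N B` an element of `C` with `[N, g] ≤ ⟨s⟩` acts as the transvection with centre `s`;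
* `symp_conj`.
-/

set_option autoImplicit false

namespace Cfsg.Agent.Omega.NO3S.Sym.SympOf

open Subgroup Module Cfsg.Agent.Omega.TV
open Cfsg.Agent.Omega.OM.KTwo (Tv)
open Cfsg.Agent.Omega.OM.Delta (Symp zt)

universe u

variable {G : Type u} [Group G]

theorem symp_or [Finite G] {C N T : Subgroup G} {r p t : G} (h : GSys C N r) (hTC : T ≤ C) (hT : IsPGroup 2 T)
    (hfix : ∀ n ∈ N, (∀ t ∈ T, t * n * t⁻¹ = n) → n = 1 ∨ n = r)
    (ht : t ∈ C) (htn : ∀ n ∈ N, t * n * t⁻¹ = n ∨ t * n * t⁻¹ = n * r) (hne : ∃ n ∈ N, t * n * t⁻¹ ≠ n)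
    (hp : ∃ c ∈ C, p = c * r * c⁻¹) (hrp : ∃ c ∈ C, r * p = c * r * c⁻¹) (htp : t * p * t⁻¹ = p) :
    (∀ x ∈ N, x ≠ 1 → ∃ c ∈ C, c * r * c⁻¹ = x) ∧
      (AllTv C N ∨ ∃ B : G → G → ZMod 2, Symp C N B) := by
  classical
  have hsys := h.toSys ht htn hne
  have hne0 := hne
  obtain ⟨c, hc, rfl⟩ := hp
  obtain ⟨d, hd, hd'⟩ := hrp
  have hpN : c * r * c⁻¹ ∈ N := h.nor c hc r h.mem
  obtain ⟨φ, hφ, hfn⟩ := h.exists_fn h.mem h.ne ht htn
  have hne' : φ ≠ 0 := by
    rintro rfl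
    obtain ⟨n, hn, e⟩ := hne
    apply e
    have h1 := hφ (EA.mk h.sq n hn)
    rw [LinearMap.zero_apply, zero_smul, add_zero] at h1
    exact congrArg EA.val h1
  have h0 : φ (EA.mk h.sq _ hpN) = 0 := by
    by_contra hcon
    have h1 := hφ (EA.mk h.sq _ hpN)
    rw [z2_ne_zero hcon, one_smul] at h1
    have h2 := congrArg EA.val h1
    rw [h.val_rep, EA.val_add, EA.val_mk, EA.val_mk] at h2
    have h3 : t * (c * r * c⁻¹) * t⁻¹ = c * r * c⁻¹ * r := h2
    rw [htp] at h3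
    exact h.ne (by simpa using h3)
  have hadd := hsys.add_mem_of_near h.mem_pts_r (p := EA.mk h.sq _ hpN) ⟨c, hc, rfl⟩
    ⟨d, hd, hd'⟩ hfn hne' h0
  have hclo := hsys.clo_of hadd
  have hS : IsPGroup 2 (T.subgroupOf C) := hT.comap_of_injective C.subtype C.subtype_injective
  have hall := hsys.near_all hclo hS h.mem_pts_r (fun v hv => by
    rcases hfix v.val v.val_mem (fun x hx => congrArg EA.val (hv ⟨x, hTC hx⟩ hx)) with e | e
    · exact Or.inl (EA.ext e)
    · exact Or.inr (EA.ext e))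
  have hpt : ∀ v : EA N h.sq, v ≠ 0 → v ∈ h.pts := fun v hv => hsys.all_mem hclo h.mem_pts_r hall hv
  refine ⟨fun x hx hx1 => ?_, ?_⟩
  · obtain ⟨c, hc, e⟩ := hpt (EA.mk h.sq x hx) (fun e => hx1 (EA.val_eq_one.2 e))
    exact ⟨c, hc, e.symm⟩
  rcases hsys.small_or_big with hs | hb
  swap
  · exact Or.inl (h.allTv ht htn hne0 hb hclo hall)
  right
  obtain ⟨f, hf⟩ := hsys.exists_form hs
  let B : G → G → ZMod 2 := fun x y =>
    if hxy : x ∈ N ∧ y ∈ N then f (EA.mk h.sq x hxy.1) (EA.mk h.sq y hxy.2) else 0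
  have hB : ∀ x (hx : x ∈ N) y (hy : y ∈ N), B x y = f (EA.mk h.sq x hx) (EA.mk h.sq y hy) :=
    fun x hx y hy => dif_pos ⟨hx, hy⟩
  refine ⟨B, ?_⟩
  exact
    { nor := h.nor
      comm := fun x hx y hy => EA.comm_of h.sq hx hy
      sq := h.sq
      B_mul := fun x hx y hy w hw => by
        rw [hB _ (mul_mem hx hy) w hw, hB x hx w hw, hB y hy w hw]
        have e : EA.mk h.sq (x * y) (mul_mem hx hy) = EA.mk h.sq x hx + EA.mk h.sq y hy := rfl
        rw [e, map_add, LinearMap.add_apply]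
      symm := fun x hx y hy => by rw [hB x hx y hy, hB y hy x hx, hf.comm]
      B_self := fun x hx => by rw [hB x hx x hx, hf.alt]
      B_conj := fun c hc x hx y hy => by
        rw [hB _ (h.nor c hc x hx) _ (h.nor c hc y hy), hB x hx y hy]
        exact hf.inv ⟨c, hc⟩ (EA.mk h.sq x hx) (EA.mk h.sq y hy)
      rad := fun x hx h1 => by
        by_contra hx1
        apply hf.ne (EA.mk h.sq x hx) (hpt _ fun e => hx1 (EA.val_eq_one.2 e))
        refine LinearMap.ext fun y => ?_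
        rw [LinearMap.zero_apply]
        have h2 := h1 y.val y.val_mem
        rw [hB x hx y.val y.val_mem] at h2
        exact h2
      tv := fun u hu hu1 => by
        obtain ⟨-, g, hg⟩ := hf.fn (EA.mk h.sq u hu) (hpt _ fun e => hu1 (EA.val_eq_one.2 e))
        refine ⟨g, g.2, fun x hx => ?_⟩
        have h1 := hg (EA.mk h.sq x hx)
        have h2 : f (EA.mk h.sq u hu) (EA.mk h.sq x hx) = B x u := by
          rw [hf.comm, hB x hx u hu]
        rw [h2] at h1
        refine ⟨fun h3 => ?_, fun h3 => ?_⟩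
        · rw [h3, zero_smul, add_zero] at h1
          exact congrArg EA.val h1
        · rw [h3, one_smul] at h1
          rw [mul_one]
          exact congrArg EA.val h1 }

section symp

variable {C N : Subgroup G} {B : G → G → ZMod 2} (O : Symp C N B)

include O

/-- a nontrivial element of `C` with `[N, g] ≤ ⟨s⟩` is the transvection with centre `s` -/
theorem tv_of {s g : G} (hs : s ∈ N) (hg : g ∈ C) (hact : ∀ n ∈ N, g * n * g⁻¹ = n ∨ g * n * g⁻¹ = n * s)
    (hne : ∃ n ∈ N, g * n * g⁻¹ ≠ n) : Tv N 1 B s g := by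
  have hF := O.frm
  obtain ⟨a, ha, hga⟩ := hne
  have hga' := (hact a ha).resolve_left hga
  have hs1 : s ≠ 1 := fun e => hga (by rw [hga', e, mul_one])
  have h1 : ∀ x ∈ N, g * x * g⁻¹ = x → B x s = 0 := by
    intro x hx e
    have h2 := O.B_conj g hg x hx a ha
    rw [e, hga', hF.B_mul' ha hs hx] at h2
    have h3 : B x a + B x s = B x a + 0 := by rw [h2, add_zero]
    exact add_left_cancel h3
  have h2 : ∀ x ∈ N, g * x * g⁻¹ = x * s → B x s = B a s := by
    intro x hx e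
    have h3 := h1 _ (mul_mem hx ha) (by
      calc g * (x * a) * g⁻¹ = (g * x * g⁻¹) * (g * a * g⁻¹) := by group
        _ = x * (s * a) * s := by rw [e, hga']; group
        _ = x * a * (s * s) := by rw [O.comm s hs a ha]; group
        _ = x * a := by rw [O.sq s hs, mul_one])
    rw [O.B_mul x hx a ha s hs] at h3
    rcases zt (B x s) with e1 | e1 <;> rcases zt (B a s) with e2 | e2 <;> rw [e1, e2] at h3 <;>
      first | exact absurd h3 (by decide) | rw [e1, e2]
  have h3 : B a s = 1 := by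
    rcases zt (B a s) with e | e
    · exfalso
      apply hs1
      refine O.rad s hs fun y hy => ?_
      rw [O.symm s hs y hy]
      rcases hact y hy with e1 | e1
      · exact h1 y hy e1
      · rw [h2 y hy e1, e]
    · exact e
  refine fun x hx => ⟨fun e => ?_, fun e => ?_⟩
  · rcases hact x hx with e1 | e1
    · exact e1
    · rw [h2 x hx e1, h3] at e
      exact absurd e (by decide)
  · rw [mul_one]
    rcases hact x hx with e1 | e1
    · rw [h1 x hx e1] at e
      exact absurd e (by decide)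
    · exact e1

end symp

/-- conjugation -/
theorem symp_conj {C N C' N' : Subgroup G} {B : G → G → ZMod 2} (O : Symp C N B) {g : G}
    (hC : ∀ c, c ∈ C' ↔ g⁻¹ * c * g ∈ C) (hN : ∀ x, x ∈ N' ↔ g⁻¹ * x * g ∈ N) :
    Symp C' N' fun x y => B (g⁻¹ * x * g) (g⁻¹ * y * g) where
  nor := fun c hc x hx => by
    rw [hN] at hx ⊢
    have h1 := O.nor _ ((hC c).1 hc) _ hx
    have e : g⁻¹ * (c * x * c⁻¹) * g = g⁻¹ * c * g * (g⁻¹ * x * g) * (g⁻¹ * c * g)⁻¹ := by group
    rwa [e]
  comm := fun x hx y hy => by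
    have h1 := O.comm _ ((hN x).1 hx) _ ((hN y).1 hy)
    calc x * y = g * ((g⁻¹ * x * g) * (g⁻¹ * y * g)) * g⁻¹ := by group
      _ = g * ((g⁻¹ * y * g) * (g⁻¹ * x * g)) * g⁻¹ := by rw [h1]
      _ = y * x := by group
  sq := fun x hx => by
    have h1 := O.sq _ ((hN x).1 hx)
    calc x * x = g * ((g⁻¹ * x * g) * (g⁻¹ * x * g)) * g⁻¹ := by group
      _ = 1 := by rw [h1]; group
  B_mul := fun x hx y hy w hw => by
    have h1 := O.B_mul _ ((hN x).1 hx) _ ((hN y).1 hy) _ ((hN w).1 hw)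
    have e : g⁻¹ * (x * y) * g = g⁻¹ * x * g * (g⁻¹ * y * g) := by group
    rw [e]; exact h1
  symm := fun x hx y hy => O.symm _ ((hN x).1 hx) _ ((hN y).1 hy)
  B_self := fun x hx => O.B_self _ ((hN x).1 hx)
  B_conj := fun c hc x hx y hy => by
    have h1 := O.B_conj _ ((hC c).1 hc) _ ((hN x).1 hx) _ ((hN y).1 hy)
    have e : ∀ x, g⁻¹ * (c * x * c⁻¹) * g = g⁻¹ * c * g * (g⁻¹ * x * g) * (g⁻¹ * c * g)⁻¹ := fun x => by group
    rw [e x, e y]; exact h1
  rad := fun x hx h1 => by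
    have h2 := O.rad _ ((hN x).1 hx) (fun y hy => by
      have h3 := h1 (g * y * g⁻¹) ((hN _).2 (by
        have e : g⁻¹ * (g * y * g⁻¹) * g = y := by group
        rwa [e]))
      have e : g⁻¹ * (g * y * g⁻¹) * g = y := by group
      rwa [e] at h3)
    calc x = g * (g⁻¹ * x * g) * g⁻¹ := by group
      _ = 1 := by rw [h2]; group
  tv := fun u hu hu1 => by
    obtain ⟨c, hc, h1⟩ := O.tv _ ((hN u).1 hu) (fun e => hu1 (by
      calc u = g * (g⁻¹ * u * g) * g⁻¹ := by group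
        _ = 1 := by rw [e]; group))
    refine ⟨g * c * g⁻¹, (hC _).2 (by
      have e : g⁻¹ * (g * c * g⁻¹) * g = c := by group
      rwa [e]), fun x hx => ?_⟩
    have h2 := h1 _ ((hN x).1 hx)
    have e : g * c * g⁻¹ * x * (g * c * g⁻¹)⁻¹ = g * (c * (g⁻¹ * x * g) * c⁻¹) * g⁻¹ := by group
    refine ⟨fun h3 => ?_, fun h3 => ?_⟩
    · rw [e, h2.1 h3]; group
    · rw [e, h2.2 h3]; group

end Cfsg.Agent.Omega.NO3S.Sym.SympOf
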