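import Cfsg.Agent.Omega.NO3S.Sym.Graph
import Cfsg.Agent.Omega.NO3S.Sym.SympOf
import Cfsg.Agent.Omega.IId.OneJ
import Cfsg.Agent.MinSimple.SecRep

/-!
# NO-3S, `V_P` = even subsets of five letters, case (E): (F1), (F2), (F3) (helper955, omega job 527)

`D_x = JJ (zl S P) (nn p) x`, `N_x = NN p x`.

* (F1) `nonLoc_of`;
* `le_o2_of_adj` : `A ≤ O₂(C(y))`, `A` centralises `x` and `N_x`, `x ~ y`: `A ≤ O₂(C(x))`;
* (F2) `D_comm_NN` : if `N_x`, `N_y` commute for all `x ~ y` then `D_x` and `N_y` commute for all `x ~ y`;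
* (F3) `D_comm_D` : then `D_x`, `D_y` commute for all `x ~ y`.
-/

set_option autoImplicit false

namespace Cfsg.Agent.Omega.NO3S.Sym.Fan

open Subgroup Cfsg Cfsg.Agent.ZN Cfsg.Agent.Omega.MinPar Cfsg.Agent.Omega.Frame Cfsg.Agent.Omega.FrameNOFF
open Cfsg.Agent.Omega.NO3S Cfsg.Agent.Omega.NTwo Cfsg.Agent.Omega.NO3S.Sym.Exit Cfsg.Agent.Omega.NO3S.Sym.Light
open Cfsg.Agent.Omega.NO3S.Sym.Graph Cfsg.Agent.Omega.NO3S.Sym.SympOf
open Cfsg.Agent.MinSimple.VModule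
open Cfsg.Agent.Omega.OM.KTwo (Tv)
open Cfsg.Agent.Omega.OM.Delta (Symp zt)
open scoped Pointwise

universe u

variable {G : Type u} [Group G]

/-- `D_x` moves `N_y` for all `x ~ y` -/
def Mv (V : Subgroup G) (p : Fin 5 → G) : Prop :=
  ∀ x y : G, Adj p x y → ∃ d ∈ JJ V (nn p) x, ∃ s ∈ NN p y, d * s * d⁻¹ = s * x

/-- the Klein four-group `{1, a, u, a u}` -/
def four (a u : G) (haa : a * a = 1) (huu : u * u = 1) (hau : u * a = a * u) : Subgroup G where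
  carrier := {x | x = 1 ∨ x = a ∨ x = u ∨ x = a * u}
  one_mem' := Or.inl rfl
  mul_mem' := by
    have h1 : ∀ x, a * (a * x) = x := fun x => by rw [← mul_assoc, haa, one_mul]
    have h3 : ∀ x, u * (a * x) = a * (u * x) := fun x => by rw [← mul_assoc, hau, mul_assoc]
    rintro x y (rfl | rfl | rfl | rfl) (rfl | rfl | rfl | rfl) <;>
      simp [mul_assoc, haa, huu, hau, h1, h3]
  inv_mem' := by
    have h1 : a⁻¹ = a := inv_eq_of_mul_eq_one_left haa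
    have h2 : u⁻¹ = u := inv_eq_of_mul_eq_one_left huu
    rintro x (rfl | rfl | rfl | rfl) <;> simp [h1, h2, hau]

/-- `N_y ∩ C(D_x)` -/
def HH (V : Subgroup G) (p : Fin 5 → G) (x y : G) : Subgroup G :=
  NN p y ⊓ centralizer (JJ V (nn p) x : Set G)

/-- `D_x ∩ C(N_q)` -/
def KK (V : Subgroup G) (p : Fin 5 → G) (x q : G) : Subgroup G :=
  JJ V (nn p) x ⊓ centralizer (NN p q : Set G)

theorem mem_HH {V : Subgroup G} {p : Fin 5 → G} {x y s : G} :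
    s ∈ HH V p x y ↔ s ∈ NN p y ∧ ∀ d ∈ JJ V (nn p) x, d * s = s * d := by
  rw [HH, mem_inf, mem_centralizer_iff]
  rfl

theorem mem_KK {V : Subgroup G} {p : Fin 5 → G} {x q d : G} :
    d ∈ KK V p x q ↔ d ∈ JJ V (nn p) x ∧ ∀ s ∈ NN p q, s * d = d * s := by
  rw [KK, mem_inf, mem_centralizer_iff]
  rfl

theorem conj_mem_JJ {V : Subgroup G} {x₀ x g v : G} (hv : v ∈ JJ V x₀ x) :
    g * v * g⁻¹ ∈ JJ V x₀ (g * x * g⁻¹) := by
  rw [← conj_JJ]
  exact smul_mem_pointwise_smul _ _ _ hv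

theorem HH_conj {V : Subgroup G} {p : Fin 5 → G} {x y s g x' y' : G} (hs : s ∈ HH V p x y)
    (hx : g * x * g⁻¹ = x') (hy : g * y * g⁻¹ = y') : g * s * g⁻¹ ∈ HH V p x' y' := by
  subst hx hy
  rw [mem_HH] at hs ⊢
  refine ⟨NN_conj hs.1, fun d hd => ?_⟩
  have h1 := conj_mem_JJ (g := g⁻¹) hd
  have e : g⁻¹ * (g * x * g⁻¹) * g⁻¹⁻¹ = x := by group
  rw [e] at h1
  have h2 := hs.2 _ h1
  calc d * (g * s * g⁻¹) = g * ((g⁻¹ * d * g⁻¹⁻¹) * s) * g⁻¹ := by group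
    _ = g * (s * (g⁻¹ * d * g⁻¹⁻¹)) * g⁻¹ := by rw [h2]
    _ = g * s * g⁻¹ * d := by group

theorem KK_conj {V : Subgroup G} {p : Fin 5 → G} {x q d g x' q' : G} (hd : d ∈ KK V p x q)
    (hx : g * x * g⁻¹ = x') (hq : g * q * g⁻¹ = q') : g * d * g⁻¹ ∈ KK V p x' q' := by
  subst hx hq
  rw [mem_KK] at hd ⊢
  refine ⟨conj_mem_JJ hd.1, fun s hs => ?_⟩
  have h1 := NN_conj (g := g⁻¹) hs
  have e : g⁻¹ * (g * q * g⁻¹) * g⁻¹⁻¹ = q := by group
  rw [e] at h1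
  have h2 := hd.2 _ h1
  calc s * (g * d * g⁻¹) = g * ((g⁻¹ * s * g⁻¹⁻¹) * d) * g⁻¹ := by group
    _ = g * (d * (g⁻¹ * s * g⁻¹⁻¹)) * g⁻¹ := by rw [h2]
    _ = g * d * g⁻¹ * s := by group

/-- back conjugation -/
theorem conj_inv_eq {g x x' : G} (h : g * x * g⁻¹ = x') : g⁻¹ * x' * g⁻¹⁻¹ = x := by
  rw [← h]; group

section gen

variable [Finite G] {S : Sylow 2 G} {P : Subgroup G} {p : Fin 5 → G}

/-! ### (F1) -/

/-- **(F1)**: no nontrivial 2-subgroup is normalised by `C(n)` and `C(a)`. -/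
theorem nonLoc_of (h : FiveL S P p)
    (hML : ∀ H : Subgroup G, IsLoc (S : Subgroup G) H → P ≤ H → H ≤ normalizer (zl (S : Subgroup G) P : Set G))
    (hC : ¬ centralizer ({nn p} : Set G) ≤ normalizer (zl (S : Subgroup G) P : Set G)) :
    NonLoc (centralizer ({nn p} : Set G)) (centralizer ({aa p} : Set G)) := by
  intro U hU hn ha
  by_contra hne
  have hN : ∀ σ : Equiv.Perm (Fin 5), ((σ 0 = 0 ∧ σ 1 = 1) ∨ (σ 0 = 1 ∧ σ 1 = 0)) →
      ∃ g ∈ normalizer (U : Set G), ∀ i, g * p i * g⁻¹ = p (σ i) := by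
    intro σ hσ
    obtain ⟨g, -, h1⟩ := h.std.full σ
    refine ⟨g, hn (mem_cent.2 ?_), h1⟩
    rw [nn, cm, h1, h1]
    rcases hσ with ⟨e0, e1⟩ | ⟨e0, e1⟩
    · rw [e0, e1]
    · rw [e0, e1, h.std.comm]
  have hA : ∀ σ : Equiv.Perm (Fin 5), ((σ 2 = 2 ∧ σ 3 = 3) ∨ (σ 2 = 3 ∧ σ 3 = 2)) →
      ∃ g ∈ normalizer (U : Set G), ∀ i, g * p i * g⁻¹ = p (σ i) := by
    intro σ hσ
    obtain ⟨g, -, h1⟩ := h.std.full σ
    refine ⟨g, ha (mem_cent.2 ?_), h1⟩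
    rw [aa, cm, h1, h1]
    rcases hσ with ⟨e0, e1⟩ | ⟨e0, e1⟩
    · rw [e0, e1]
    · rw [e0, e1, h.std.comm]
  have hmul : ∀ σ τ : Equiv.Perm (Fin 5), (∃ g ∈ normalizer (U : Set G), ∀ i, g * p i * g⁻¹ = p (σ i)) →
      (∃ g ∈ normalizer (U : Set G), ∀ i, g * p i * g⁻¹ = p (τ i)) →
      ∃ g ∈ normalizer (U : Set G), ∀ i, g * p i * g⁻¹ = p ((σ * τ) i) := by
    rintro σ τ ⟨g, hg, h1⟩ ⟨k, hk, h2⟩
    exact ⟨g * k, mul_mem hg hk, fun i => by rw [← cc, h2, h1]; rfl⟩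
  have key : ∀ σ : Equiv.Perm (Fin 5), ∃ g ∈ normalizer (U : Set G), ∀ i, g * p i * g⁻¹ = p (σ i) := by
    intro σ
    have hσ : σ ∈ Submonoid.closure (Set.range fun i : Fin 4 ↦ Equiv.swap i.castSucc i.succ) := by
      rw [Equiv.Perm.mclosure_swap_castSucc_succ 4]; trivial
    induction hσ using Submonoid.closure_induction with
    | mem τ hτ =>
      obtain ⟨i, rfl⟩ := hτ
      have key : ∀ i : Fin 4, i = 0 ∨ i = 1 ∨ i = 2 ∨ i = 3 := by decide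
      rcases key i with rfl | rfl | rfl | rfl
      · exact hN _ (by decide)
      · have h1 := hmul _ _ (hmul _ _ (hA (Equiv.swap 1 4) (by decide)) (hN (Equiv.swap 2 4) (by decide)))
          (hA (Equiv.swap 1 4) (by decide))
        have e : Equiv.swap (1 : Fin 5) 4 * Equiv.swap 2 4 * Equiv.swap 1 4 =
            Equiv.swap (Fin.castSucc (1 : Fin 4)) (Fin.succ 1) := by decide
        rwa [e] at h1
      · exact hN _ (by decide)
      · exact hN _ (by decide)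
    | one => exact ⟨1, one_mem _, fun i => by rw [Equiv.Perm.one_apply]; group⟩
    | mul σ τ _ _ ihσ ihτ => exact hmul σ τ ihσ ihτ
  have hPM : P ≤ normalizer (U : Set G) := by
    intro g hg
    obtain ⟨σ, hσ⟩ := h.std.perm g hg
    obtain ⟨g', hg', h2⟩ := key σ
    have h3 : g'⁻¹ * g ∈ centralizer ({nn p} : Set G) := by
      rw [mem_cent]
      calc g'⁻¹ * g * nn p * (g'⁻¹ * g)⁻¹ = g'⁻¹ * (g * (p 0 * p 1) * g⁻¹) * g' := by rw [nn]; group
        _ = g'⁻¹ * (g' * (p 0 * p 1) * g'⁻¹) * g' := by rw [cm, hσ, hσ, cm g', h2, h2]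
        _ = nn p := by rw [nn]; group
    have h4 := mul_mem hg' (hn h3)
    rwa [mul_inv_cancel_left] at h4
  have hloc : IsLoc (S : Subgroup G) (normalizer (U : Set G)) :=
    ⟨h.std.le.trans hPM, fun e => hne (le_bot_iff.1 (e ▸ ZN.le_o2 le_normalizer hU le_rfl))⟩
  exact hC (hn.trans (hML _ hloc hPM))

end gen

section light

variable [Finite G] {S : Sylow 2 G} {P : Subgroup G} {p : Fin 5 → G} (h : FiveL S P p)

local notation "DJ" => JJ (zl (S : Subgroup G) P) (nn p)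

include h

/-! ### Basic facts on `D_x` and `N_x` -/

theorem mem_D {x : G} (hx : IsPt p x) : x ∈ DJ x := by
  obtain ⟨g, hg⟩ := hx
  refine conj_le_JJ hg ?_
  have h1 := smul_mem_pointwise_smul (nn p) (MulAut.conj g) _ h.n_mem
  have e : MulAut.conj g • nn p = x := hg
  rwa [e] at h1

theorem D_le_cent {x : G} (hx : IsPt p x) : DJ x ≤ centralizer ({x} : Set G) := fun v hv => by
  rw [mem_cent, comm_iff]
  exact D_comm h hx hv (mem_D h hx)

theorem mem_NN_of_adj {x y : G} (ha : Adj p x y) : x ∈ NN p y := (Adj.symm h.std ha).mem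

/-- `D_x` centralises `N_x` -/
theorem DN_comm {x v a : G} (hx : IsPt p x) (hv : v ∈ DJ x) (ha : a ∈ NN p x) : v * a = a * v :=
  D_comm h hx hv (NN_le_D h ha)

theorem D_le_cent' {x y : G} (ha : Adj p x y) : DJ x ≤ centralizer ({y} : Set G) := fun v hv => by
  rw [mem_cent, comm_iff]
  exact DN_comm h ha.pt hv ha.mem

theorem NN_le_o2 {x : G} (hx : IsPt p x) : NN p x ≤ o2 (centralizer ({x} : Set G)) :=
  (NN_le_D h).trans (D_le_o2 h hx)

omit [Finite G] h in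
/-- **`A ≤ O₂(C(y))`, `A` centralises `x` and `N_x`, `x ~ y`: `A ≤ O₂(C(x))`.** -/
theorem le_o2_of_adj {x y : G} (ha : Adj p x y) {A : Subgroup G} (hA : A ≤ o2 (centralizer ({y} : Set G)))
    (hx : A ≤ centralizer ({x} : Set G)) (hN : A ≤ centralizer (NN p x : Set G)) :
    A ≤ o2 (centralizer ({x} : Set G)) := by
  obtain ⟨K, hK⟩ : ∃ K : Subgroup G, K = centralizer ({x} : Set G) ⊓ centralizer (NN p x : Set G) := ⟨_, rfl⟩
  have hKy : K ≤ centralizer ({y} : Set G) := by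
    rw [hK]
    refine inf_le_right.trans (centralizer_le ?_)
    rw [Set.singleton_subset_iff]
    exact ha.mem
  have hKn : centralizer ({x} : Set G) ≤ normalizer (K : Set G) := by
    intro c hc
    have key : ∀ c ∈ centralizer ({x} : Set G), ∀ k ∈ K, c * k * c⁻¹ ∈ K := by
      intro c hc k hk
      rw [hK, mem_inf] at hk ⊢
      refine ⟨mul_mem (mul_mem hc hk.1) (inv_mem hc), mem_centralizer_iff.2 fun v hv => ?_⟩
      have h1 := (mem_normalizer_iff.1 (cent_le_normalizer_NN (inv_mem hc)) v).1 hv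
      rw [inv_inv] at h1
      have h2 := mem_centralizer_iff.1 hk.2 _ h1
      calc v * (c * k * c⁻¹) = c * ((c⁻¹ * v * c) * k) * c⁻¹ := by group
        _ = c * (k * (c⁻¹ * v * c)) * c⁻¹ := by rw [h2]
        _ = c * k * c⁻¹ * v := by group
    rw [mem_normalizer_iff]
    refine fun k => ⟨key c hc k, fun hk => ?_⟩
    have h1 := key c⁻¹ (inv_mem hc) _ hk
    have e : c⁻¹ * (c * k * c⁻¹) * c⁻¹⁻¹ = k := by group
    rwa [e] at h1
  have h1 : o2 (centralizer ({y} : Set G)) ⊓ K ≤ o2 K := by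
    refine ZN.le_o2 inf_le_right ((isPGroup_o2 _).to_le inf_le_left) ?_
    refine (le_inf (hKy.trans (ZN.le_normalizer_o2 _)) le_normalizer).trans ?_
    exact inf_normalizer_le_normalizer_inf
  have h2 : o2 K ≤ o2 (centralizer ({x} : Set G)) := by
    refine ZN.le_o2 ((ZN.o2_le _).trans (hK ▸ inf_le_left)) (isPGroup_o2 _) ?_
    exact hKn.trans (normalizer_le_normalizer_o2 _)
  have h3 : A ≤ K := by rw [hK]; exact le_inf hx hN
  exact ((le_inf hA h3).trans h1).trans h2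

/-! ### The action of `D_x` on `N_y` -/

theorem NN_cent {x y : G} (ha : Adj p x y) : NN p y ≤ centralizer ({x} : Set G) := fun v hv => by
  rw [mem_cent, comm_iff]
  exact NN_comm h (ha.pt' h.std) hv (mem_NN_of_adj h ha)

variable (H : ∀ x y : G, Adj p x y → ∀ a ∈ NN p x, ∀ b ∈ NN p y, a * b = b * a)

include H

theorem NN_le_o2' {x y : G} (ha : Adj p x y) : NN p y ≤ o2 (centralizer ({x} : Set G)) :=
  le_o2_of_adj ha (NN_le_o2 h (ha.pt' h.std)) (NN_cent h ha)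
    fun b hb => mem_centralizer_iff.2 fun a haa => H x y ha a haa b hb

/-- `[D_x, N_y] ≤ ⟨x⟩` -/
theorem act {x y d s : G} (ha : Adj p x y) (hd : d ∈ DJ x) (hs : s ∈ NN p y) :
    d * s * d⁻¹ = s ∨ d * s * d⁻¹ = s * x := by
  have hxs : x * s = s * x := NN_comm h (ha.pt' h.std) (mem_NN_of_adj h ha) hs
  have hxx := IsPt.sq h.std ha.pt
  rcases D_act h ha.pt (NN_le_o2' h H ha hs) hd with e | e
  · left
    rw [comm_iff] at e ⊢
    exact e.symm
  · right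
    have e1 : s * d = x * d * s := by rw [← e]; group
    have hxd : x * d = d * x := D_comm h ha.pt (mem_D h ha.pt) hd
    have e2 : d * s = x * s * d := by
      calc d * s = x * x * d * s := by rw [hxx, one_mul]
        _ = x * (x * d * s) := by group
        _ = x * s * d := by rw [← e1]; group
    calc d * s * d⁻¹ = x * s := by rw [e2]; group
      _ = s * x := hxs

/-- all pairs are conjugate -/
theorem mv_of {x₀ y₀ d₀ s₀ : G} (ha : Adj p x₀ y₀) (hd : d₀ ∈ DJ x₀) (hs : s₀ ∈ NN p y₀)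
    (hne : d₀ * s₀ ≠ s₀ * d₀) : Mv (zl (S : Subgroup G) P) p := by
  intro x y hxy
  obtain ⟨g₀, rfl, rfl⟩ := ha
  obtain ⟨g, rfl, rfl⟩ := hxy
  have e1 : g * g₀⁻¹ * (g₀ * nn p * g₀⁻¹) * (g * g₀⁻¹)⁻¹ = g * nn p * g⁻¹ := by group
  have e2 : g * g₀⁻¹ * (g₀ * aa p * g₀⁻¹) * (g * g₀⁻¹)⁻¹ = g * aa p * g⁻¹ := by group
  have hd' : g * g₀⁻¹ * d₀ * (g * g₀⁻¹)⁻¹ ∈ DJ (g * nn p * g⁻¹) := by
    rw [← e1, ← conj_JJ]
    exact smul_mem_pointwise_smul _ _ _ hd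
  have hs' : g * g₀⁻¹ * s₀ * (g * g₀⁻¹)⁻¹ ∈ NN p (g * aa p * g⁻¹) := by
    have h1 := NN_conj (g := g * g₀⁻¹) hs
    rwa [e2] at h1
  refine ⟨_, hd', _, hs', (act h H ⟨g, rfl, rfl⟩ hd' hs').resolve_left fun e => hne ?_⟩
  rw [comm_iff, ← cm, ← cm] at e
  exact conj_inj e

omit H in
/-- the data of THEOREM TV for `C(n)` acting on `N_n`, base point `a` -/
theorem gsys : TV.GSys (centralizer ({nn p} : Set G)) (NN p (nn p)) (aa p) := by
  refine IId.One.gsys_of (T := Std.T (S : Subgroup G) p) (fun x hx => NN_sq h pt_base hx)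
    (fun c hc n hn => NN_conj' (mem_cent.1 hc) hn) adj_base.mem h.std.a_ne_one
    (NN_le fun y hy => subset_closure ?_) inf_le_right (S.isPGroup'.to_le Std.T_le) h.not_dvd
    fun t ht => comm_iff.1 (h.std.T_a ht)
  obtain ⟨g, hg, rfl⟩ := hy
  exact ⟨g, mem_cent.2 hg, rfl⟩

/-- **THEOREM TV for `C(n)` on `N_n`**: `Sp_{2n}(2)`. -/
theorem symp_n (hmv : Mv (zl (S : Subgroup G) P) p) :
    (∀ x ∈ NN p (nn p), x ≠ 1 → ∃ c ∈ centralizer ({nn p} : Set G), c * aa p * c⁻¹ = x) ∧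
      ∃ B : G → G → ZMod 2, Symp (centralizer ({nn p} : Set G)) (NN p (nn p)) B := by
  have han : Adj p (aa p) (nn p) := Adj.symm h.std adj_base
  obtain ⟨t, ht, w, hw, htw⟩ := hmv _ _ han
  have htC : t ∈ centralizer ({nn p} : Set G) := D_le_cent' h han ht
  have htn : ∀ n ∈ NN p (nn p), t * n * t⁻¹ = n ∨ t * n * t⁻¹ = n * aa p := fun n hn => act h H han ht hn
  have hne : ∃ n ∈ NN p (nn p), t * n * t⁻¹ ≠ n := ⟨w, hw, fun e => h.std.a_ne_one (by rw [e] at htw; exact left_eq_mul.1 htw)⟩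
  obtain ⟨e₀, he₀⟩ : ∃ e₀ : G, e₀ = p 2 * p 4 := ⟨_, rfl⟩
  have hVD : zl (S : Subgroup G) P ≤ DJ (aa p) := V_le_D h (by decide)
  have heV : e₀ ∈ zl (S : Subgroup G) P := he₀ ▸ mul_mem (h.p_mem 2) (h.p_mem 4)
  have hp : ∃ c ∈ centralizer ({nn p} : Set G), e₀ = c * aa p * c⁻¹ := by
    obtain ⟨c, -, hc⟩ := h.std.full (Equiv.swap 3 4)
    refine ⟨c, mem_cent.2 ?_, ?_⟩
    · rw [nn, cm, hc, hc]
      rfl
    · rw [aa, cm, hc, hc, he₀]
      rfl
  have hrp : ∃ c ∈ centralizer ({nn p} : Set G), aa p * e₀ = c * aa p * c⁻¹ := by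
    obtain ⟨c, -, hc⟩ := h.std.full (Equiv.swap 2 4)
    refine ⟨c, mem_cent.2 ?_, ?_⟩
    · rw [nn, cm, hc, hc]
      rfl
    · rw [aa, cm, hc, hc, he₀]
      change p 2 * p 3 * (p 2 * p 4) = p 4 * p 3
      rw [h.std.comm 2 3, mul_assoc, ← mul_assoc (p 2), h.std.sq, one_mul, h.std.comm]
  have hcomm : ∀ d ∈ DJ (aa p), d * e₀ * d⁻¹ = e₀ := fun d hd => by
    rw [comm_iff]
    exact D_comm h han.pt hd (hVD heV)
  have hgs := gsys h
  have hnN : nn p ∉ NN p (nn p) := fun hn => h.std.n_ne_one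
    (hgs.eq_one_of_fixed htC htn hne hp hrp (hcomm t ht) hn fun c hc => mem_cent.1 hc)
  have hfix : ∀ n ∈ NN p (nn p), (∀ t ∈ Std.T (S : Subgroup G) p, t * n * t⁻¹ = n) → n = 1 ∨ n = aa p := by
    intro n hn hT
    have h1 : n ∈ zc (Std.T (S : Subgroup G) p) :=
      ZN.mem_zc.2 ⟨h.o2_le_T (NN_le_o2 h pt_base hn), fun b hb => comm_iff.1 (hT b hb), by
        rw [sq]; exact NN_sq h pt_base hn⟩
    rcases h.std.mem_zcT.1 h1 with e | e | e | e
    · exact Or.inl e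
    · exact absurd (e ▸ hn) hnN
    · exact Or.inr e
    · exfalso
      apply hnN
      have h2 := mul_mem hn (adj_base (p := p)).mem
      have h3 : n * aa p = nn p := by rw [e, ← h.std.na, mul_assoc, h.std.asq, mul_one]
      rwa [h3] at h2
  obtain ⟨h1, h2⟩ := symp_or hgs inf_le_right (S.isPGroup'.to_le Std.T_le) hfix htC htn hne hp hrp (hcomm t ht)
  refine ⟨h1, h2.resolve_left fun hall => ?_⟩
  have heN : e₀ ∈ NN p (nn p) := (adj_V h.std (i := 0) (j := 1) (k := 2) (l := 4) (by decide) |> fun h0 => he₀ ▸ h0.mem)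
  have hsq : ∀ x ∈ NN p (nn p), x * x = 1 := fun x hx => NN_sq h pt_base hx
  have hcN : ∀ x ∈ NN p (nn p), ∀ y ∈ NN p (nn p), x * y = y * x := fun x hx y hy => NN_comm h pt_base hx hy
  have haN : aa p ∈ NN p (nn p) := (adj_base (p := p)).mem
  have huN : w * e₀ ∈ NN p (nn p) := mul_mem hw heN
  have hta : t * aa p * t⁻¹ = aa p := mem_cent.1 (D_le_cent h han.pt ht)
  have hwU : w ∉ four (aa p) (w * e₀) h.std.asq (hsq _ huN) (hcN _ huN _ haN) := by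
    rintro (e | e | e | e)
    · apply h.std.a_ne_one
      rw [e] at htw
      simpa using htw.symm
    · apply h.std.a_ne_one
      rw [e, hta] at htw
      exact left_eq_mul.1 htw
    · have e1 : e₀ = 1 := left_eq_mul.1 e
      rw [he₀] at e1
      exact h.std.mul_ne_one (by decide) e1
    · have e1 : e₀ = aa p := by
        have e2 : w * e₀ = aa p * w := by
          calc w * e₀ = aa p * aa p * (w * e₀) := by rw [h.std.asq, one_mul]
            _ = aa p * (aa p * (w * e₀)) := by group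
            _ = aa p * w := by rw [← e]
        rw [hcN _ haN _ hw] at e2
        exact mul_left_cancel e2
      rw [he₀] at e1
      exact absurd (h.std.inj (mul_left_cancel e1)) (by decide)
  obtain ⟨g, hg, hgU, hgw, -⟩ := hall (four (aa p) (w * e₀) h.std.asq (hsq _ huN) (hcN _ huN _ haN))
    (by
      rintro x (rfl | rfl | rfl | rfl)
      · exact one_mem _
      · exact haN
      · exact huN
      · exact mul_mem haN huN) (w * e₀) (Or.inr (Or.inr (Or.inl rfl))) w hw hwU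
  have hga : g * aa p * g⁻¹ = aa p := hgU _ (Or.inr (Or.inl rfl))
  have hge : g * w * g⁻¹ = e₀ := by rw [hgw, ← mul_assoc, hsq w hw, one_mul]
  have h3 := hcomm _ (JJ_conj hga ht)
  apply h.std.a_ne_one
  have h4 : g * t * g⁻¹ * e₀ * (g * t * g⁻¹)⁻¹ = e₀ * aa p := by
    calc g * t * g⁻¹ * e₀ * (g * t * g⁻¹)⁻¹ = g * t * g⁻¹ * (g * w * g⁻¹) * (g * t * g⁻¹)⁻¹ := by rw [hge]
      _ = g * (t * w * t⁻¹) * g⁻¹ := by group
      _ = e₀ * aa p := by rw [htw, cm, hge, hga]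
  rw [h3] at h4
  exact left_eq_mul.1 h4

variable (hmv : Mv (zl (S : Subgroup G) P) p)

include hmv

theorem symp_all {x : G} (hx : IsPt p x) : (∀ s ∈ NN p x, s ≠ 1 → Adj p x s) ∧
    ∃ B : G → G → ZMod 2, Symp (centralizer ({x} : Set G)) (NN p x) B := by
  obtain ⟨h1, B, O⟩ := symp_n h H hmv
  obtain ⟨g, hg⟩ := hx
  have hN : ∀ s, s ∈ NN p x ↔ g⁻¹ * s * g ∈ NN p (nn p) := fun s => by
    rw [← hg, ← conj_NN, NoFF.Basic.mem_conj]
  refine ⟨fun s hs hs1 => ?_, _, symp_conj (g := g) O (fun c => ?_) hN⟩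
  · obtain ⟨c, hc, e⟩ := h1 _ ((hN s).1 hs) fun e => hs1 (by
      calc s = g * (g⁻¹ * s * g) * g⁻¹ := by group
        _ = 1 := by rw [e]; group)
    refine ⟨g * c, ?_, ?_⟩
    · rw [← cc, mem_cent.1 hc, hg]
    · rw [← cc, e]; group
  · rw [cent_eq hg, NoFF.Basic.mem_conj]

local notation "HJ" => HH (zl (S : Subgroup G) P) p

local notation "KJ" => KK (zl (S : Subgroup G) P) p

/-- the form on `N_y` -/
theorem exists_form {y : G} (hy : IsPt p y) : ∃ B : G → G → ZMod 2,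
    Symp (centralizer ({y} : Set G)) (NN p y) B ∧
      (∀ x ∈ NN p y, x ≠ 1 → ∀ s ∈ NN p y, (s ∈ HJ x y ↔ B s x = 0)) ∧
      (∀ x ∈ NN p y, x ≠ 1 → ∀ d ∈ DJ x, (∃ m ∈ NN p y, d * m * d⁻¹ ≠ m) → Tv (NN p y) 1 B x d) ∧
      ∀ x ∈ NN p y, x ≠ 1 → ∃ d ∈ DJ x, Tv (NN p y) 1 B x d := by
  obtain ⟨hadj, B, O⟩ := symp_all h H hmv hy
  have htv : ∀ x ∈ NN p y, x ≠ 1 → ∀ d ∈ DJ x, (∃ m ∈ NN p y, d * m * d⁻¹ ≠ m) → Tv (NN p y) 1 B x d := by
    intro x hx hx1 d hd hne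
    have hxy : Adj p x y := Adj.symm h.std (hadj x hx hx1)
    exact tv_of O hx (D_le_cent' h hxy hd) (fun n hn => act h H hxy hd hn) hne
  have hex : ∀ x ∈ NN p y, x ≠ 1 → ∃ d ∈ DJ x, Tv (NN p y) 1 B x d := by
    intro x hx hx1
    have hxy : Adj p x y := Adj.symm h.std (hadj x hx hx1)
    obtain ⟨d, hd, m, hm, e⟩ := hmv x y hxy
    exact ⟨d, hd, htv x hx hx1 d hd ⟨m, hm, fun e1 => hx1 (left_eq_mul.1 (e1.symm.trans e))⟩⟩
  refine ⟨B, O, fun x hx hx1 s hs => ?_, htv, hex⟩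
  rw [mem_HH]
  constructor
  · rintro ⟨-, h1⟩
    obtain ⟨d, hd, ht⟩ := hex x hx hx1
    refine (zt _).resolve_right fun e => hx1 ?_
    have h2 := (ht s hs).2 e
    rw [comm_iff.2 (h1 d hd), mul_one] at h2
    exact left_eq_mul.1 h2
  · intro e
    refine ⟨hs, fun d hd => comm_iff.1 ?_⟩
    by_cases hne : ∃ m ∈ NN p y, d * m * d⁻¹ ≠ m
    · exact (htv x hx hx1 d hd hne s hs).1 e
    · push Not at hne
      exact hne s hs

theorem adj_of {y s : G} (hy : IsPt p y) (hs : s ∈ NN p y) (hs1 : s ≠ 1) : Adj p y s :=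
  (symp_all h H hmv hy).1 s hs hs1

/-- transitivity on `x^⊥ - ⟨x⟩` -/
theorem HH_tra {x y u u' : G} (ha : Adj p x y) (hu : u ∈ HJ x y) (hu' : u' ∈ HJ x y) (hu1 : u ≠ 1)
    (hux : u ≠ x) (hu1' : u' ≠ 1) (hux' : u' ≠ x) : ∃ g, g * x * g⁻¹ = x ∧ g * y * g⁻¹ = y ∧ g * u * g⁻¹ = u' := by
  obtain ⟨B, O, hB, -, -⟩ := exists_form h H hmv (ha.pt' h.std)
  have hx := mem_NN_of_adj h ha
  have hx1 := IsPt.ne_one h.std ha.pt
  have huN := (mem_HH.1 hu).1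
  have huN' := (mem_HH.1 hu').1
  obtain ⟨g, hg, h1, h2⟩ := O.tra hx huN huN' (by rw [O.symm x hx u huN]; exact (hB x hx hx1 u huN).1 hu)
    (by rw [O.symm x hx u' huN']; exact (hB x hx hx1 u' huN').1 hu') hu1 hu1' hux hux'
  exact ⟨g, h1, mem_cent.1 hg, h2⟩

theorem HH_two {x y s t : G} (ha : Adj p x y) (hs : s ∈ NN p y) (ht : t ∈ NN p y) (hs' : s ∉ HJ x y)
    (ht' : t ∉ HJ x y) : s * t ∈ HJ x y := by
  obtain ⟨B, O, hB, -, -⟩ := exists_form h H hmv (ha.pt' h.std)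
  have hx := mem_NN_of_adj h ha
  have hx1 := IsPt.ne_one h.std ha.pt
  rw [hB x hx hx1 _ (mul_mem hs ht), O.B_mul s hs t ht x hx,
    (zt _).resolve_left fun e => hs' ((hB x hx hx1 s hs).2 e),
    (zt _).resolve_left fun e => ht' ((hB x hx hx1 t ht).2 e)]
  decide

theorem HH_symm {x y s : G} (hy : IsPt p y) (hx : x ∈ NN p y) (hx1 : x ≠ 1) (hs : s ∈ HJ x y) (hs1 : s ≠ 1) :
    x ∈ HJ s y := by
  obtain ⟨B, O, hB, -, -⟩ := exists_form h H hmv hy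
  have hsN := (mem_HH.1 hs).1
  rw [hB s hsN hs1 x hx, O.symm x hx s hsN]
  exact (hB x hx hx1 s hsN).1 hs

/-- an element of `x^⊥` not orthogonal to `q` -/
theorem HH_link {x y q : G} (ha : Adj p x y) (hq : q ∈ NN p y) (hq1 : q ≠ 1) (hqx : q ≠ x) :
    ∃ s ∈ HJ x y, s ∉ HJ q y := by
  obtain ⟨B, O, hB, -, -⟩ := exists_form h H hmv (ha.pt' h.std)
  have hx := mem_NN_of_adj h ha
  have hx1 := IsPt.ne_one h.std ha.pt
  obtain ⟨w, hw, h0, h1, -⟩ := O.frm.exists_link hx hq hq hq1 hq1 hqx (by rw [mul_one]; exact hqx) hq1 hq1 hqx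
    (by rw [mul_one]; exact hqx)
  refine ⟨w, (hB x hx hx1 w hw).2 h0, fun e => ?_⟩
  rw [hB q hq hq1 w hw, h1] at e
  exact absurd e (by decide)

/-! ### `x^⊥ ≤ D_x`, the subgroups `KK x q` -/

omit H hmv in
theorem e_mem_HH : p 0 * p 4 ∈ HJ (nn p) (aa p) := by
  rw [mem_HH]
  refine ⟨(adj_V h.std (i := 2) (j := 3) (k := 0) (l := 4) (by decide)).mem, fun d hd => ?_⟩
  exact D_comm h pt_base hd (V_le_D h (i := 0) (j := 1) (by decide) (mul_mem (h.p_mem 0) (h.p_mem 4)))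

omit H hmv in
theorem e_ne : p 0 * p 4 ≠ 1 ∧ p 0 * p 4 ≠ nn p :=
  ⟨h.std.mul_ne_one (by decide), fun e => absurd (h.std.inj (mul_left_cancel e)) (by decide)⟩

omit H hmv in
theorem exists_e {x y : G} (ha : Adj p x y) : ∃ e ∈ HJ x y, e ∈ DJ x ∧ e ≠ 1 ∧ e ≠ x := by
  obtain ⟨g, rfl, rfl⟩ := ha
  refine ⟨g * (p 0 * p 4) * g⁻¹, HH_conj (e_mem_HH h) rfl rfl,
    conj_mem_JJ (V_le_D h (i := 0) (j := 1) (by decide) (mul_mem (h.p_mem 0) (h.p_mem 4))), fun e => ?_, fun e => ?_⟩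
  · apply (e_ne h).1
    exact conj_inj (e.trans (by group : (1 : G) = g * 1 * g⁻¹))
  · exact (e_ne h).2 (conj_inj e)

theorem HH_le_D {x y : G} (ha : Adj p x y) : HJ x y ≤ DJ x := by
  intro u hu
  obtain ⟨e, he, heD, he1, hex⟩ := exists_e h ha
  by_cases hu1 : u = 1
  · rw [hu1]; exact one_mem _
  by_cases hux : u = x
  · rw [hux]; exact mem_D h ha.pt
  obtain ⟨g, hg, -, h1⟩ := HH_tra h H hmv ha he hu he1 hex hu1 hux
  rw [← h1]
  exact JJ_conj hg heD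

omit H hmv in
theorem x_mem_HH {x y : G} (ha : Adj p x y) : x ∈ HJ x y :=
  mem_HH.2 ⟨mem_NN_of_adj h ha, fun _ hd => D_comm h ha.pt hd (mem_D h ha.pt)⟩

omit H hmv in
theorem x_mem_KK {x q : G} (ha : Adj p x q) : x ∈ KJ x q :=
  mem_KK.2 ⟨mem_D h ha.pt, fun _ hs => NN_comm h (ha.pt' h.std) hs (mem_NN_of_adj h ha)⟩

omit hmv in
theorem NN_le_KK {x q : G} (ha : Adj p x q) : NN p x ≤ KJ x q := fun v hv =>
  mem_KK.2 ⟨NN_le_D h hv, fun s hs => (H x q ha v hv s hs).symm⟩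

/-- `KK x q` has index `≤ 2` in `D_x` -/
theorem KK_two {x q d d' : G} (ha : Adj p x q) (hd : d ∈ DJ x) (hd' : d' ∈ DJ x) (hk : d ∉ KJ x q)
    (hk' : d' ∉ KJ x q) : d * d' ∈ KJ x q := by
  obtain ⟨B, O, hB, htv, -⟩ := exists_form h H hmv (ha.pt' h.std)
  have hx := mem_NN_of_adj h ha
  have hx1 := IsPt.ne_one h.std ha.pt
  have hmove : ∀ d ∈ DJ x, d ∉ KJ x q → Tv (NN p q) 1 B x d := by
    intro d hd hk
    refine htv x hx hx1 d hd ?_
    by_contra hcon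
    push Not at hcon
    exact hk (mem_KK.2 ⟨hd, fun s hs => (comm_iff.1 (hcon s hs)).symm⟩)
  have h1 := hmove d hd hk
  have h2 := hmove d' hd' hk'
  refine mem_KK.2 ⟨mul_mem hd hd', fun s hs => Eq.symm (comm_iff.1 ?_)⟩
  have e : d * d' * s * (d * d')⁻¹ = d * (d' * s * d'⁻¹) * d⁻¹ := by group
  rw [e]
  rcases zt (B s x) with h3 | h3
  · rw [(h2 s hs).1 h3, (h1 s hs).1 h3]
  · rw [(h2 s hs).2 h3, mul_one, cm, (h1 s hs).2 h3, mul_one, (h1 x hx).1 (O.B_self x hx), mul_assoc,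
      IsPt.sq h.std ha.pt, mul_one]

/-- `e = p 0 * p 4` is not in all `KK n q` -/
theorem e_not : ¬ ∀ q, Adj p (nn p) q → p 0 * p 4 ∈ KJ (nn p) q := by
  intro he
  have hV : ∀ i, ∀ q, Adj p (nn p) q → p i ∈ KJ (nn p) q := by
    intro i q hq
    have ha : aa p ∈ KJ (nn p) q := NN_le_KK h H hq (adj_base (p := p)).mem
    have h34 : p 3 * p 4 ∈ KJ (nn p) q :=
      NN_le_KK h H hq (adj_V h.std (i := 0) (j := 1) (k := 3) (l := 4) (by decide)).mem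
    have hn : nn p ∈ KJ (nn p) q := x_mem_KK h hq
    have h4 : p 4 ∈ KJ (nn p) q := by
      rw [← h.std.na]
      exact mul_mem hn ha
    have h3 : p 3 ∈ KJ (nn p) q := by
      have h5 := mul_mem h34 h4
      rwa [mul_assoc, h.std.sq, mul_one] at h5
    have h2 : p 2 ∈ KJ (nn p) q := by
      have h5 := mul_mem ha h3
      rwa [aa, mul_assoc, h.std.sq, mul_one] at h5
    have h0 : p 0 ∈ KJ (nn p) q := by
      have h5 := mul_mem (he q hq) h4
      rwa [mul_assoc, h.std.sq, mul_one] at h5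
    have h1 : p 1 ∈ KJ (nn p) q := by
      have h5 := mul_mem h0 hn
      rwa [nn, ← mul_assoc, h.std.sq, one_mul] at h5
    have key : ∀ i : Fin 5, i = 0 ∨ i = 1 ∨ i = 2 ∨ i = 3 ∨ i = 4 := by decide
    rcases key i with rfl | rfl | rfl | rfl | rfl <;> assumption
  have hD : ∀ q, Adj p (nn p) q → DJ (nn p) ≤ KJ (nn p) q := by
    intro q hq
    refine JJ_le fun g hg => ?_
    intro v hv
    rw [NoFF.Basic.mem_conj] at hv
    have h1 : g⁻¹ * v * g ∈ KJ (nn p) (g⁻¹ * q * g⁻¹⁻¹) := by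
      have hq' : Adj p (nn p) (g⁻¹ * q * g⁻¹⁻¹) := by
        have h2 := hq.conj g⁻¹
        rwa [conj_inv_eq hg] at h2
      have h3 : zl (S : Subgroup G) P ≤ KJ (nn p) (g⁻¹ * q * g⁻¹⁻¹) := by
        refine h.gen.le.trans ((closure_le _).2 ?_)
        rintro _ ⟨i, rfl⟩
        exact hV i _ hq'
      exact h3 hv
    have h2 := KK_conj (g := g) h1 hg (q' := q) (by group)
    have e : g * (g⁻¹ * v * g) * g⁻¹ = v := by group
    rwa [e] at h2
  obtain ⟨d, hd, s, hs, e⟩ := hmv _ _ (adj_base (p := p))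
  have h1 := (mem_KK.1 (hD _ adj_base hd)).2 s hs
  rw [comm_iff.2 h1.symm] at e
  exact h.std.n_ne_one (left_eq_mul.1 e)

/-- no nontrivial element of `x^⊥ / ⟨x⟩` is in all `KK x q` -/
theorem no_all {x y v : G} (ha : Adj p x y) (hv : v ∈ HJ x y) (hv1 : v ≠ 1) (hvx : v ≠ x) :
    ¬ ∀ q, Adj p x q → v ∈ KJ x q := by
  intro hall
  obtain ⟨g, rfl, rfl⟩ := ha
  have e1 : g⁻¹ * (g * nn p * g⁻¹) * g⁻¹⁻¹ = nn p := by group
  have e2 : g⁻¹ * (g * aa p * g⁻¹) * g⁻¹⁻¹ = aa p := by group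
  have hv' := HH_conj hv e1 e2
  obtain ⟨k, hk, -, hke⟩ := HH_tra h H hmv (adj_base (p := p)) hv' (e_mem_HH h)
    (fun e => hv1 (by
      calc v = g * (g⁻¹ * v * g⁻¹⁻¹) * g⁻¹ := by group
        _ = 1 := by rw [e]; group))
    (fun e => hvx (by
      calc v = g * (g⁻¹ * v * g⁻¹⁻¹) * g⁻¹ := by group
        _ = _ := by rw [e])) (e_ne h).1 (e_ne h).2
  refine e_not h H hmv fun q hq => ?_
  have e3 : (k * g⁻¹) * (g * nn p * g⁻¹) * (k * g⁻¹)⁻¹ = nn p := by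
    calc (k * g⁻¹) * (g * nn p * g⁻¹) * (k * g⁻¹)⁻¹ = k * nn p * k⁻¹ := by group
      _ = nn p := hk
  have hq' : Adj p (g * nn p * g⁻¹) ((k * g⁻¹)⁻¹ * q * (k * g⁻¹)⁻¹⁻¹) := by
    have h2 := hq.conj (k * g⁻¹)⁻¹
    rwa [conj_inv_eq e3] at h2
  have h3 := KK_conj (g := k * g⁻¹) (hall _ hq') e3 (q' := q) (by group)
  have e4 : k * g⁻¹ * v * (k * g⁻¹)⁻¹ = p 0 * p 4 := by
    rw [← hke]; group
  rwa [e4] at h3

/-- **`C(N_x)` acts trivially on `x^⊥ / ⟨x⟩`** -/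
theorem F_act {x y f s : G} (ha : Adj p x y) (hfx : f * x * f⁻¹ = x) (hf : ∀ v ∈ NN p x, f * v * f⁻¹ = v)
    (hs : s ∈ HJ x y) : f * s * f⁻¹ = s ∨ f * s * f⁻¹ = s * x := by
  have hss : s * s = 1 := NN_sq h (ha.pt' h.std) (mem_HH.1 hs).1
  have hfy : f * y * f⁻¹ = y := hf y ha.mem
  have hfs := HH_conj hs hfx hfy
  by_contra hcon
  push Not at hcon
  refine no_all h H hmv ha (v := f * s * f⁻¹ * s) (mul_mem hfs hs) (fun e => hcon.1 ?_) (fun e => hcon.2 ?_)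
    fun q hq => ?_
  · calc f * s * f⁻¹ = f * s * f⁻¹ * s * s := by rw [mul_assoc _ s s, hss, mul_one]
      _ = s := by rw [e, one_mul]
  · calc f * s * f⁻¹ = f * s * f⁻¹ * s * s := by rw [mul_assoc _ s s, hss, mul_one]
      _ = x * s := by rw [e]
      _ = s * x := NN_comm h (ha.pt' h.std) (mem_NN_of_adj h ha) (mem_HH.1 hs).1
  · have hfq : f * q * f⁻¹ = q := hf q hq.mem
    have hsD := HH_le_D h H hmv ha hs
    by_cases hsK : s ∈ KJ x q
    · exact mul_mem (KK_conj hsK hfx hfq) hsK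
    · refine KK_two h H hmv hq (JJ_conj hfx hsD) hsD (fun h1 => hsK ?_) hsK
      have h2 := KK_conj (g := f⁻¹) h1 (conj_inv_eq hfx) (conj_inv_eq hfq)
      have e : f⁻¹ * (f * s * f⁻¹) * f⁻¹⁻¹ = s := by group
      rwa [e] at h2

end light

end Cfsg.Agent.Omega.NO3S.Sym.Fan

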