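import Cfsg.Agent.Omega.NO3S.Sym.Fan

/-!
# NO-3S, `V_P` = even subsets of five letters, case (E): (F2), (F3) (helper955, omega job 527)

* `D_comm_NN` (F2) : if `N_x`, `N_y` commute for all `x ~ y` then `D_x` and `N_y` commute for all `x ~ y`;
* `D_comm_D` (F3) : then `D_x`, `D_y` commute for all `x ~ y`.
-/

set_option autoImplicit false

namespace Cfsg.Agent.Omega.NO3S.Sym.Fan

open Subgroup Cfsg Cfsg.Agent.ZN Cfsg.Agent.Omega.MinPar Cfsg.Agent.Omega.Frame Cfsg.Agent.Omega.FrameNOFF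
open Cfsg.Agent.Omega.NO3S Cfsg.Agent.Omega.NTwo Cfsg.Agent.Omega.NO3S.Sym.Exit Cfsg.Agent.Omega.NO3S.Sym.Light
open Cfsg.Agent.Omega.NO3S.Sym.Graph Cfsg.Agent.Omega.NO3S.Sym.SympOf
open Cfsg.Agent.Omega.OM.KTwo (Tv)
open Cfsg.Agent.Omega.OM.Delta (Symp zt)
open Cfsg.Agent.MinSimple.SecRep
open scoped Pointwise

universe u

variable {G : Type u} [Group G]

/-! ### Two double counts -/

section half

variable [Finite G] {M A K : Subgroup G} {c₀ a₀ k : G}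

/-- `M` transitive on `A - {1, c₀}`, `c₀ ∈ K`, `k ∈ A - K`: more than half of `M` maps `a₀` outside `K`. -/
theorem half (hM : ∀ m ∈ M, m * a₀ * m⁻¹ ∈ A) (ha1 : a₀ ≠ 1) (hc : ∀ m ∈ M, m * a₀ * m⁻¹ ≠ c₀)
    (htra : ∀ u ∈ A, ∀ u' ∈ A, u ≠ 1 → u ≠ c₀ → u' ≠ 1 → u' ≠ c₀ → ∃ m ∈ M, m * u * m⁻¹ = u')
    (ha : a₀ ∈ A) (hcK : c₀ ∈ K) (hk : k ∈ A) (hkK : k ∉ K) :
    {m : G | m ∈ M ∧ m * a₀ * m⁻¹ ∈ K}.ncard < {m : G | m ∈ M ∧ m * a₀ * m⁻¹ ∉ K}.ncard := by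
  classical
  have hne1 : ∀ m : G, m * a₀ * m⁻¹ ≠ 1 := fun m e => ha1 (by
    calc a₀ = m⁻¹ * (m * a₀ * m⁻¹) * m := by group
      _ = 1 := by rw [e]; group)
  have hout : ∀ z ∈ A, z ∉ K → z ≠ 1 ∧ z ≠ c₀ := fun z _ hz =>
    ⟨fun e => hz (by rw [e]; exact one_mem K), fun e => hz (by rw [e]; exact hcK)⟩
  -- the mover
  have hex : ∀ s : G, ∃ c : G, s ∈ A → s ∈ K → s ≠ 1 → s ≠ c₀ → c ∈ M ∧ c * s * c⁻¹ = s * k := by
    intro s
    by_cases h : s ∈ A ∧ s ∈ K ∧ s ≠ 1 ∧ s ≠ c₀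
    · have hsk : s * k ∈ A := mul_mem h.1 hk
      have hsk' : s * k ∉ K := fun e => hkK (by
        have := mul_mem (inv_mem h.2.1) e
        rwa [inv_mul_cancel_left] at this)
      obtain ⟨c, hc, e⟩ := htra s h.1 _ hsk h.2.2.1 h.2.2.2 (hout _ hsk hsk').1 (hout _ hsk hsk').2
      exact ⟨c, fun _ _ _ _ => ⟨hc, e⟩⟩
    · exact ⟨1, fun h1 h2 h3 h4 => absurd ⟨h1, h2, h3, h4⟩ h⟩
  choose φ hφ using hex
  obtain ⟨m₁, hm₁, e₁⟩ := htra a₀ ha k hk ha1 (by simpa using hc 1 (one_mem M)) (hout k hk hkK).1 (hout k hk hkK).2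
  have hX : m₁ ∈ {m : G | m ∈ M ∧ m * a₀ * m⁻¹ ∉ K} := ⟨hm₁, by rw [e₁]; exact hkK⟩
  have key : ∀ m : G, m ∈ M → m * a₀ * m⁻¹ ∈ K → φ (m * a₀ * m⁻¹) ∈ M ∧
      φ (m * a₀ * m⁻¹) * m * a₀ * (φ (m * a₀ * m⁻¹) * m)⁻¹ = m * a₀ * m⁻¹ * k := by
    intro m hm hmK
    obtain ⟨h1, h2⟩ := hφ _ (hM m hm) hmK (hne1 m) (hc m hm)
    refine ⟨h1, ?_⟩
    rw [← h2]; group
  refine lt_of_le_of_lt (Set.ncard_le_ncard_of_injOn (t := {m : G | m ∈ M ∧ m * a₀ * m⁻¹ ∉ K} \ {m₁})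
    (fun m => φ (m * a₀ * m⁻¹) * m) ?_ ?_ (Set.toFinite _)) (Set.ncard_sdiff_singleton_lt_of_mem hX (Set.toFinite _))
  · rintro m ⟨hm, hmK⟩
    obtain ⟨h1, h2⟩ := key m hm hmK
    refine ⟨⟨mul_mem h1 hm, ?_⟩, ?_⟩
    · rw [h2]
      intro e
      apply hkK
      have := mul_mem (inv_mem hmK) e
      rwa [inv_mul_cancel_left] at this
    · intro e
      rw [Set.mem_singleton_iff] at e
      rw [e, e₁] at h2
      exact hne1 m (right_eq_mul.1 h2)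
  · rintro m ⟨hm, hmK⟩ m' ⟨hm', hmK'⟩ e
    have e' : φ (m * a₀ * m⁻¹) * m = φ (m' * a₀ * m'⁻¹) * m' := e
    obtain ⟨h1, h2⟩ := key m hm hmK
    obtain ⟨h1', h2'⟩ := key m' hm' hmK'
    have h3 : m * a₀ * m⁻¹ = m' * a₀ * m'⁻¹ := by
      rw [e', h2'] at h2
      exact (mul_right_cancel h2).symm
    rw [h3] at e'
    exact mul_left_cancel e'

end half

/-! ### The group acting trivially on `(y^⊥ ∩ N_x) / ⟨y⟩` -/

theorem le_norm {C W : Subgroup G} (hn : ∀ c ∈ C, ∀ w ∈ W, c * w * c⁻¹ ∈ W) : C ≤ normalizer (W : Set G) := by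
  intro c hc
  rw [mem_normalizer_iff]
  refine fun k => ⟨hn c hc k, fun hk => ?_⟩
  have h1 := hn c⁻¹ (inv_mem hc) _ hk
  have e : c⁻¹ * (c * k * c⁻¹) * c⁻¹⁻¹ = k := by group
  rwa [e] at h1

/-- `{1, x}` -/
def two (x : G) (hx : x * x = 1) : Subgroup G where
  carrier := {z | z = 1 ∨ z = x}
  one_mem' := Or.inl rfl
  mul_mem' := by
    rintro a b (rfl | rfl) (rfl | rfl) <;> simp [hx]
  inv_mem' := by
    rintro a (rfl | rfl) <;> simp [inv_eq_of_mul_eq_one_left hx]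

/-- the elements which fix `x`, `y` and act trivially on `(y^⊥ ∩ N_x) / ⟨y⟩` -/
def K2 (V : Subgroup G) (p : Fin 5 → G) (x y : G) (hy : y * y = 1) : Subgroup G where
  carrier := {c | c * x * c⁻¹ = x ∧ c * y * c⁻¹ = y ∧ ∀ s ∈ HH V p y x, c * s * c⁻¹ = s ∨ c * s * c⁻¹ = s * y}
  one_mem' := ⟨by group, by group, fun s _ => Or.inl (by group)⟩
  mul_mem' := by
    rintro a b ⟨a1, a2, a3⟩ ⟨b1, b2, b3⟩
    refine ⟨by rw [← cc, b1, a1], by rw [← cc, b2, a2], fun s hs => ?_⟩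
    rw [← cc]
    rcases b3 s hs with e | e
    · rw [e]
      exact a3 s hs
    · rw [e, cm, a2]
      rcases a3 s hs with e' | e'
      · right; rw [e']
      · left; rw [e', mul_assoc, hy, mul_one]
  inv_mem' := by
    rintro a ⟨a1, a2, a3⟩
    refine ⟨conj_inv_eq a1, conj_inv_eq a2, fun s hs => ?_⟩
    have h1 := HH_conj (g := a⁻¹) hs (conj_inv_eq a2) (conj_inv_eq a1)
    have e0 : a * (a⁻¹ * s * a⁻¹⁻¹) * a⁻¹ = s := by group
    rcases a3 _ h1 with e | e <;> rw [e0] at e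
    · left; exact e.symm
    · right
      calc a⁻¹ * s * a⁻¹⁻¹ = a⁻¹ * s * a⁻¹⁻¹ * y * y := by rw [mul_assoc _ y y, hy, mul_one]
        _ = s * y := by rw [← e]

section light

variable [Finite G] {S : Sylow 2 G} {P : Subgroup G} {p : Fin 5 → G} (h : FiveL S P p)
  (H : ∀ x y : G, Adj p x y → ∀ a ∈ NN p x, ∀ b ∈ NN p y, a * b = b * a) (hmv : Mv (zl (S : Subgroup G) P) p)

local notation "DJ" => JJ (zl (S : Subgroup G) P) (nn p)

local notation "HJ" => HH (zl (S : Subgroup G) P) p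

local notation "KJ" => KK (zl (S : Subgroup G) P) p

include h H hmv

theorem K2_four {x y c v : G} (ha : Adj p x y) (hy : y * y = 1) (hc : c ∈ K2 (zl (S : Subgroup G) P) p x y hy)
    (hv : v ∈ NN p x) : c * c * (c * c) * v * (c * c * (c * c))⁻¹ = v := by
  obtain ⟨c1, c2, c3⟩ := hc
  have hya : Adj p y x := Adj.symm h.std ha
  have hyN : y ∈ NN p x := ha.mem
  have hsqr : ∀ s ∈ HJ y x, c * c * s * (c * c)⁻¹ = s := by
    intro s hs
    rw [← cc]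
    rcases c3 s hs with e | e
    · rw [e, e]
    · rw [e, cm, e, c2, mul_assoc, hy, mul_one]
  rw [← cc]
  by_cases hvH : v ∈ HJ y x
  · rw [hsqr v hvH, hsqr v hvH]
  have hcv : c * v * c⁻¹ ∈ NN p x := NN_conj' c1 hv
  have hcvH : c * v * c⁻¹ ∉ HJ y x := fun e => hvH (by
    have h1 := HH_conj (g := c⁻¹) e (conj_inv_eq c2) (conj_inv_eq c1)
    have e0 : c⁻¹ * (c * v * c⁻¹) * c⁻¹⁻¹ = v := by group
    rwa [e0] at h1)
  obtain ⟨k, hk⟩ : ∃ k : G, k = c * v * c⁻¹ * v := ⟨_, rfl⟩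
  have hkH : k ∈ HJ y x := hk ▸ HH_two h H hmv hya hcv hv hcvH hvH
  have hkN := (mem_HH.1 hkH).1
  have hkk : k * k = 1 := NN_sq h ha.pt hkN
  have e1 : c * v * c⁻¹ = k * v := by rw [hk, mul_assoc (c * v * c⁻¹) v v, NN_sq h ha.pt hv, mul_one]
  have e2 : c * c * v * (c * c)⁻¹ = v ∨ c * c * v * (c * c)⁻¹ = y * v := by
    rw [← cc, e1, cm, e1]
    rcases c3 k hkH with e | e
    · left; rw [e, ← mul_assoc, hkk, one_mul]
    · right
      rw [e, NN_comm h ha.pt hkN hyN, mul_assoc, ← mul_assoc k, hkk, one_mul]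
  have hcy : c * c * y * (c * c)⁻¹ = y := by rw [← cc, c2, c2]
  rcases e2 with e | e
  · rw [e, e]
  · rw [e, cm, hcy, e, ← mul_assoc, hy, one_mul]

/-- **`K2` acts trivially on `(x^⊥ ∩ N_y) / ⟨x⟩`.** -/
theorem K2_act {x y c s : G} (ha : Adj p x y) (hy : y * y = 1)
    (hc : c ∈ K2 (zl (S : Subgroup G) P) p x y hy) (hs : s ∈ HJ x y) :
    c * s * c⁻¹ = s ∨ c * s * c⁻¹ = s * x := by
  have hxx : x * x = 1 := IsPt.sq h.std ha.pt
  have hNy : ∀ a b : G, a ∈ NN p y → b ∈ NN p y → a * b = b * a := fun a b ha' hb' =>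
    NN_comm h (ha.pt' h.std) ha' hb'
  have hxN := mem_NN_of_adj h ha
  obtain ⟨w, hw, hw1, hwx, hfix⟩ : ∃ w ∈ HJ x y, w ≠ 1 ∧ w ≠ x ∧
      ∀ c ∈ K2 (zl (S : Subgroup G) P) p x y hy, c * w * c⁻¹ = w ∨ c * w * c⁻¹ = w * x := by
    have hWC : HJ x y ≤ K2 (zl (S : Subgroup G) P) p x y hy := by
      intro s hs
      have hsN := (mem_HH.1 hs).1
      refine ⟨comm_iff.2 (hNy _ _ hsN hxN), mem_cent.1 (D_le_cent h (ha.pt' h.std) (NN_le_D h hsN)),
        fun t ht => Or.inl (comm_iff.2 (H x y ha t (mem_HH.1 ht).1 s hsN).symm)⟩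
    have hWn : K2 (zl (S : Subgroup G) P) p x y hy ≤ normalizer (HJ x y : Set G) :=
      le_norm fun c hc w hw => HH_conj hw hc.1 hc.2.1
    have hZW : two x hxx ≤ HJ x y := by
      rintro z (rfl | rfl)
      · exact one_mem _
      · exact x_mem_HH h ha
    have hZn : K2 (zl (S : Subgroup G) P) p x y hy ≤ normalizer (two x hxx : Set G) := by
      refine le_norm ?_
      rintro c hc w (rfl | rfl)
      · left; group
      · right; exact hc.1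
    obtain ⟨MM, X, _, _, _, ⟨σ⟩⟩ := exists_sec hWC hWn hZW hZn (fun a ha b hb => by
      left
      have e := hNy _ _ (mem_HH.1 ha).1 (mem_HH.1 hb).1
      rw [e]; group)
    have hfin : Finite MM := by
      refine Finite.of_surjective (fun w : HJ x y => σ.pi w) fun m => ?_
      obtain ⟨w, hw, e⟩ := σ.pi_surj m
      exact ⟨⟨w, hw⟩, e⟩
    have hpx : σ.pi x = 0 := (σ.pi_eq_zero x (x_mem_HH h ha)).2 (Or.inr rfl)
    have hP : IsPGroup 2 X := by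
      intro g
      refine ⟨2, ?_⟩
      obtain ⟨c, hc, rfl⟩ := σ.rho_surj g
      have e : σ.rho c ^ 2 ^ 2 = σ.rho (c * c * (c * c)) := by
        rw [σ.rho_mul _ (mul_mem hc hc) _ (mul_mem hc hc), σ.rho_mul c hc c hc]
        simp only [show (2 : ℕ) ^ 2 = 4 from rfl, pow_succ, pow_zero, one_mul, mul_assoc]
      rw [e]
      refine σ.faithful _ fun m => ?_
      obtain ⟨w, hw, rfl⟩ := σ.pi_surj m
      have hcc := mul_mem (mul_mem hc hc) (mul_mem hc hc)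
      rw [σ.smul_pi _ hcc w hw]
      rcases F_act h H hmv ha hcc.1 (fun v hv => K2_four h H hmv ha hy hc hv) hw with e | e
      · rw [e]
      · rw [e, σ.pi_mul w hw x (x_mem_HH h ha), hpx, add_zero]
    obtain ⟨e, he, -, he1, hex⟩ := exists_e h ha
    have hpe : σ.pi e ≠ 0 := fun e0 => by
      rcases (σ.pi_eq_zero e he).1 e0 with e1 | e1
      · exact he1 e1
      · exact hex e1
    have hp2 : Fact (Nat.Prime 2) := ⟨Nat.prime_two⟩
    have hcard : 2 ∣ Nat.card MM := by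
      have h1 : addOrderOf (σ.pi e) = 2 := by
        refine addOrderOf_eq_prime ?_ hpe
        rw [two_nsmul, ← σ.pi_mul e he e he, NN_sq h (ha.pt' h.std) (mem_HH.1 he).1]
        exact (σ.pi_eq_zero 1 (one_mem _)).2 (Or.inl rfl)
      rw [← h1]
      exact addOrderOf_dvd_natCard _
    obtain ⟨m, hm, hm0⟩ := hP.exists_fixed_point_of_prime_dvd_card_of_fixed_point MM hcard
      (a := 0) (fun g => smul_zero g)
    obtain ⟨w, hw, rfl⟩ := σ.pi_surj m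
    refine ⟨w, hw, fun e1 => hm0 ?_, fun e1 => hm0 ?_, fun c hc => ?_⟩
    · rw [e1]
      exact ((σ.pi_eq_zero 1 (one_mem _)).2 (Or.inl rfl)).symm
    · rw [e1, hpx]
    · have h1 : σ.rho c • σ.pi w = σ.pi w := hm (σ.rho c)
      rw [σ.smul_pi c hc w hw] at h1
      have hcw := HH_conj hw hc.1 hc.2.1
      have h2 : σ.pi (w * (c * w * c⁻¹)) = 0 := by
        rw [σ.pi_mul w hw _ hcw, h1, ← σ.pi_mul w hw w hw, NN_sq h (ha.pt' h.std) (mem_HH.1 hw).1]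
        exact (σ.pi_eq_zero 1 (one_mem _)).2 (Or.inl rfl)
      have hww : w * w = 1 := NN_sq h (ha.pt' h.std) (mem_HH.1 hw).1
      rcases (σ.pi_eq_zero _ (mul_mem hw hcw)).1 h2 with e1 | e1
      · left
        calc c * w * c⁻¹ = w * (w * (c * w * c⁻¹)) := by rw [← mul_assoc, hww, one_mul]
          _ = w := by rw [e1, mul_one]
      · right
        calc c * w * c⁻¹ = w * (w * (c * w * c⁻¹)) := by rw [← mul_assoc, hww, one_mul]
          _ = w * x := by rw [e1]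
  by_cases hs1 : s = 1
  · left; rw [hs1]; group
  by_cases hsx : s = x
  · left; rw [hsx]; exact hc.1
  obtain ⟨g, g1, g2, rfl⟩ := HH_tra h H hmv ha hw hs hw1 hwx hs1 hsx
  have hc' : g⁻¹ * c * g ∈ K2 (zl (S : Subgroup G) P) p x y hy := by
    obtain ⟨c1, c2, c3⟩ := hc
    have k1 := conj_inv_eq g1
    have k2 := conj_inv_eq g2
    refine ⟨?_, ?_, fun t ht => ?_⟩
    · calc g⁻¹ * c * g * x * (g⁻¹ * c * g)⁻¹ = g⁻¹ * (c * (g * x * g⁻¹) * c⁻¹) * g⁻¹⁻¹ := by group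
        _ = x := by rw [g1, c1, k1]
    · calc g⁻¹ * c * g * y * (g⁻¹ * c * g)⁻¹ = g⁻¹ * (c * (g * y * g⁻¹) * c⁻¹) * g⁻¹⁻¹ := by group
        _ = y := by rw [g2, c2, k2]
    · have ht' := HH_conj ht g2 g1
      have e : g⁻¹ * c * g * t * (g⁻¹ * c * g)⁻¹ = g⁻¹ * (c * (g * t * g⁻¹) * c⁻¹) * g⁻¹⁻¹ := by group
      rw [e]
      rcases c3 _ ht' with e1 | e1
      · left; rw [e1]; group
      · right; rw [e1, cm, k2]; group
  have e : c * (g * w * g⁻¹) * c⁻¹ = g * (g⁻¹ * c * g * w * (g⁻¹ * c * g)⁻¹) * g⁻¹ := by group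
  rw [e]
  rcases hfix _ hc' with e1 | e1
  · left; rw [e1]
  · right; rw [e1, cm, g1]

/-- **`K2` is transitive on `N_x - y^⊥`.** -/
theorem K2_tra {x y m m' : G} (ha : Adj p x y) (hy : y * y = 1) (hm : m ∈ NN p x) (hmH : m ∉ HJ y x)
    (hm' : m' ∈ NN p x) (hmH' : m' ∉ HJ y x) :
    ∃ c ∈ K2 (zl (S : Subgroup G) P) p x y hy, c * m * c⁻¹ = m' := by
  have hya : Adj p y x := Adj.symm h.std ha
  have hyN : y ∈ NN p x := ha.mem
  have hy1 : y ≠ 1 := IsPt.ne_one h.std hya.pt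
  obtain ⟨B, O, hB, -, hex⟩ := exists_form h H hmv ha.pt
  have hF := O.frm
  have hxN := ha.pt
  have hBm : B m y = 1 := (zt _).resolve_left fun e => hmH ((hB y hyN hy1 m hm).2 e)
  obtain ⟨w, hw⟩ : ∃ w : G, w = m * m' := ⟨_, rfl⟩
  have hwH : w ∈ HJ y x := hw ▸ HH_two h H hmv hya hm hm' hmH hmH'
  have hwN := (mem_HH.1 hwH).1
  have hmm : m * m = 1 := NN_sq h ha.pt hm
  have hww : w * w = 1 := NN_sq h ha.pt hwN
  have hm'e : m' = m * w := by rw [hw, ← mul_assoc, hmm, one_mul]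
  have hBw : B w y = 0 := (hB y hyN hy1 w hwN).1 hwH
  obtain ⟨dy, hdy, ty⟩ := hex y hyN hy1
  have hdyK : dy ∈ K2 (zl (S : Subgroup G) P) p x y hy := by
    refine ⟨mem_cent.1 (D_le_cent' h hya hdy), mem_cent.1 (D_le_cent h hya.pt hdy), fun s hs => Or.inl ?_⟩
    exact comm_iff.2 ((mem_HH.1 hs).2 dy hdy)
  by_cases hw1 : w = 1
  · exact ⟨1, one_mem _, by rw [hm'e, hw1]; group⟩
  by_cases hwy : w = y
  · exact ⟨dy, hdyK, by rw [(ty m hm).2 hBm, mul_one, hm'e, hwy]⟩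
  have hwyN : w * y ∈ NN p x := mul_mem hwN hyN
  have hwy1 : w * y ≠ 1 := fun e => hwy (by
    calc w = w * y * y := by rw [mul_assoc, hy, mul_one]
      _ = y := by rw [e, one_mul])
  obtain ⟨d, hd, td⟩ := hex w hwN hw1
  obtain ⟨d', hd', td'⟩ := hex (w * y) hwyN hwy1
  have hwa : Adj p w x := Adj.symm h.std (adj_of h H hmv ha.pt hwN hw1)
  have hwa' : Adj p (w * y) x := Adj.symm h.std (adj_of h H hmv ha.pt hwyN hwy1)
  have hBwy : B (w * y) w = 0 := by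
    rw [O.B_mul w hwN y hyN w hwN, O.B_self w hwN, O.symm y hyN w hwN, hBw, add_zero]
  have hByw' : B y (w * y) = 0 := by
    rw [hF.B_mul' hwN hyN hyN, O.symm y hyN w hwN, hBw, O.B_self y hyN, add_zero]
  have hByw : B y w = 0 := by rw [O.symm y hyN w hwN, hBw]
  have hcK : d * d' ∈ K2 (zl (S : Subgroup G) P) p x y hy := by
    refine ⟨?_, ?_, fun s hs => ?_⟩
    · rw [← cc, mem_cent.1 (D_le_cent' h hwa' hd'), mem_cent.1 (D_le_cent' h hwa hd)]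
    · rw [← cc, (td' y hyN).1 hByw', (td y hyN).1 hByw]
    · have hsN := (mem_HH.1 hs).1
      have hBs : B s y = 0 := (hB y hyN hy1 s hsN).1 hs
      rw [← cc]
      rcases zt (B s w) with e | e
      · left
        rw [(td' s hsN).1 (by rw [hF.B_mul' hwN hyN hsN, e, hBs, add_zero]), (td s hsN).1 e]
      · right
        rw [(td' s hsN).2 (by rw [hF.B_mul' hwN hyN hsN, e, hBs, add_zero]), mul_one, cm, (td s hsN).2 e, mul_one,
          (td _ hwyN).1 hBwy, mul_assoc, ← mul_assoc w w, hww, one_mul]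
  have hcm : d * d' * m * (d * d')⁻¹ = m * w ∨ d * d' * m * (d * d')⁻¹ = m * w * y := by
    rw [← cc]
    rcases zt (B m w) with e | e
    · right
      rw [(td' m hm).2 (by rw [hF.B_mul' hwN hyN hm, e, hBm, zero_add]), mul_one, cm, (td m hm).1 e,
        (td _ hwyN).1 hBwy, mul_assoc]
    · left
      rw [(td' m hm).1 (by rw [hF.B_mul' hwN hyN hm, e, hBm]; decide), (td m hm).2 e, mul_one]
  rcases hcm with e | e
  · exact ⟨_, hcK, by rw [e, hm'e]⟩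
  · refine ⟨dy * (d * d'), mul_mem hdyK hcK, ?_⟩
    rw [← cc, e, hm'e]
    have hN1 : m * w * y ∈ NN p x := mul_mem (mul_mem hm hwN) hyN
    rw [(ty _ hN1).2 (by
      rw [O.B_mul _ (mul_mem hm hwN) y hyN y hyN, O.B_mul m hm w hwN y hyN, hBm, hBw, O.B_self y hyN]
      decide), mul_one, mul_assoc, hy, mul_one]

/-- **(L15)** -/
theorem HH_le_KK {x y q : G} (ha : Adj p x y) (hq : q ∈ NN p x) (hqH : q ∉ HJ y x) : HJ x y ≤ KJ x q := by
  have hya : Adj p y x := Adj.symm h.std ha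
  have hy : y * y = 1 := IsPt.sq h.std hya.pt
  have hq1 : q ≠ 1 := fun e => hqH (by rw [e]; exact one_mem _)
  have hxq : Adj p x q := adj_of h H hmv ha.pt hq hq1
  have hxK := x_mem_KK h hxq
  intro s hs
  by_contra hsK
  have hs1 : s ≠ 1 := fun e => hsK (by rw [e]; exact one_mem _)
  have hsx : s ≠ x := fun e => hsK (by rw [e]; exact hxK)
  have claim : ∀ t ∈ HJ x y, t ≠ 1 → t ≠ x → t ∉ KJ x q := by
    intro t ht ht1 htx htK
    obtain ⟨g, g1, g2, e⟩ := HH_tra h H hmv ha ht hs ht1 htx hs1 hsx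
    -- `s ∈ K_{g q g⁻¹}`
    have h1 := KK_conj (g := g) htK g1 (q' := g * q * g⁻¹) rfl
    rw [e] at h1
    have hq' : g * q * g⁻¹ ∈ NN p x := NN_conj' g1 hq
    have hqH' : g * q * g⁻¹ ∉ HJ y x := fun e1 => hqH (by
      have h2 := HH_conj (g := g⁻¹) e1 (conj_inv_eq g2) (conj_inv_eq g1)
      have e0 : g⁻¹ * (g * q * g⁻¹) * g⁻¹⁻¹ = q := by group
      rwa [e0] at h2)
    obtain ⟨c, hc, ec⟩ := K2_tra h H hmv ha hy hq' hqH' hq hqH
    have h2 := KK_conj (g := c) h1 hc.1 ec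
    apply hsK
    rcases K2_act h H hmv ha hy hc hs with e1 | e1
    · rwa [e1] at h2
    · rw [e1] at h2
      have h3 := mul_mem h2 hxK
      rwa [mul_assoc, IsPt.sq h.std ha.pt, mul_one] at h3
  have hsN := (mem_HH.1 hs).1
  obtain ⟨t, ht, hts⟩ := HH_link h H hmv ha hsN hs1 hsx
  have hsy : Adj p y s := adj_of h H hmv hya.pt hsN hs1
  have hss : s ∈ HJ s y := x_mem_HH h (Adj.symm h.std hsy)
  have hxs : x ∈ HJ s y := HH_symm h H hmv hya.pt (mem_NN_of_adj h ha) (IsPt.ne_one h.std ha.pt) hs hs1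
  have ht1 : t ≠ 1 := fun e => hts (by rw [e]; exact one_mem _)
  have htx : t ≠ x := fun e => hts (by rw [e]; exact hxs)
  have hst : s * t ∉ HJ s y := fun e => hts (by
    have := mul_mem (inv_mem hss) e
    rwa [inv_mul_cancel_left] at this)
  have hst1 : s * t ≠ 1 := fun e => hst (by rw [e]; exact one_mem _)
  have hstx : s * t ≠ x := fun e => hst (by rw [e]; exact hxs)
  exact claim _ (mul_mem hs ht) hst1 hstx (KK_two h H hmv hxq (HH_le_D h H hmv ha hs) (HH_le_D h H hmv ha ht) hsK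
    (claim t ht ht1 htx))

/-- **(L16)** -/
theorem e_mem_KK {q : G} (hq : q ∈ NN p (nn p)) (hq1 : q ≠ 1) : p 0 * p 4 ∈ KJ (nn p) q := by
  have hna : Adj p (nn p) (aa p) := adj_base
  have han : Adj p (aa p) (nn p) := Adj.symm h.std hna
  have hnq : Adj p (nn p) q := adj_of h H hmv pt_base hq hq1
  have he := e_mem_HH h
  by_cases hqH : q ∈ HJ (aa p) (nn p)
  swap
  · exact HH_le_KK h H hmv hna hq hqH he
  by_cases hqa : q = aa p
  · rw [hqa]
    refine mem_KK.2 ⟨V_le_D h (i := 0) (j := 1) (by decide) (mul_mem (h.p_mem 0) (h.p_mem 4)), fun s hs => ?_⟩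
    exact NN_comm h (hna.pt' h.std) hs (mem_HH.1 he).1
  by_contra heK
  -- `M = C(n) ∩ C(a)`
  obtain ⟨M, hM⟩ : ∃ M : Subgroup G, M = centralizer ({nn p} : Set G) ⊓ centralizer ({aa p} : Set G) := ⟨_, rfl⟩
  have hMm : ∀ m, m ∈ M ↔ m * nn p * m⁻¹ = nn p ∧ m * aa p * m⁻¹ = aa p := fun m => by
    rw [hM, mem_inf, mem_cent, mem_cent]
  obtain ⟨u, hu⟩ : ∃ u : G, u = p 2 * p 4 := ⟨_, rfl⟩
  have huN : u ∈ NN p (nn p) := hu ▸ (adj_V h.std (i := 0) (j := 1) (k := 2) (l := 4) (by decide)).mem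
  have hu1 : u ≠ 1 := hu ▸ h.std.mul_ne_one (by decide)
  have hua : u ≠ aa p := fun e => absurd (h.std.inj (mul_left_cancel (hu ▸ e : p 2 * p 4 = p 2 * p 3))) (by decide)
  have huH : u ∈ HJ (aa p) (nn p) := mem_HH.2 ⟨huN, fun d hd =>
    D_comm h han.pt hd (V_le_D h (i := 2) (j := 3) (by decide) (hu ▸ mul_mem (h.p_mem 2) (h.p_mem 4)))⟩
  have hnu : Adj p (nn p) u := adj_of h H hmv pt_base huN hu1
  -- first count
  have hqa' : Adj p q (nn p) := Adj.symm h.std hnq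
  obtain ⟨k, hk, hkq⟩ := HH_link h H hmv han hq hq1 hqa
  have haq : aa p ∈ HJ q (nn p) := HH_symm h H hmv pt_base hna.mem h.std.a_ne_one hqH hq1
  have c1 := half (M := M) (A := HJ (aa p) (nn p)) (K := HJ q (nn p)) (c₀ := aa p) (a₀ := u) (k := k)
    (fun m hm => HH_conj huH ((hMm m).1 hm).2 ((hMm m).1 hm).1) hu1
    (fun m hm e => hua (conj_inj (e.trans ((hMm m).1 hm).2.symm)))
    (fun v hv v' hv' h1 h2 h3 h4 => by
      obtain ⟨g, g1, g2, e⟩ := HH_tra h H hmv han hv hv' h1 h2 h3 h4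
      exact ⟨g, (hMm g).2 ⟨g2, g1⟩, e⟩) huH haq hk hkq
  -- second count
  have c2 := half (M := M) (A := HJ (nn p) (aa p)) (K := KJ (nn p) q) (c₀ := nn p) (a₀ := p 0 * p 4)
    (k := p 0 * p 4)
    (fun m hm => HH_conj he ((hMm m).1 hm).1 ((hMm m).1 hm).2) (e_ne h).1
    (fun m hm e => (e_ne h).2 (conj_inj (e.trans ((hMm m).1 hm).1.symm)))
    (fun v hv v' hv' h1 h2 h3 h4 => by
      obtain ⟨g, g1, g2, e⟩ := HH_tra h H hmv hna hv hv' h1 h2 h3 h4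
      exact ⟨g, (hMm g).2 ⟨g1, g2⟩, e⟩) he (x_mem_KK h hnq) he heK
  -- the two sets are disjoint
  have key : ∀ g ∈ M, g * u * g⁻¹ ∉ HJ q (nn p) → g * (p 0 * p 4) * g⁻¹ ∈ KJ (nn p) q := by
    intro g hg hgu
    have g1 := ((hMm g).1 hg).1
    have hguN : g * u * g⁻¹ ∈ NN p (nn p) := NN_conj' g1 huN
    have hgu' : Adj p (nn p) (g * u * g⁻¹) := by
      have h1 := hnu.conj g
      rwa [g1] at h1
    have h2 : q ∉ HJ (g * u * g⁻¹) (nn p) := fun e => hgu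
      (HH_symm h H hmv pt_base hguN (IsPt.ne_one h.std (hgu'.pt' h.std)) e hq1)
    have h3 := HH_le_KK h H hmv hgu' hq h2
    have h4 : p 0 * p 3 ∈ HJ (nn p) u := by
      refine mem_HH.2 ⟨hu ▸ (adj_V h.std (i := 2) (j := 4) (k := 0) (l := 3) (by decide)).mem, fun d hd => ?_⟩
      exact D_comm h pt_base hd (V_le_D h (i := 0) (j := 1) (by decide) (mul_mem (h.p_mem 0) (h.p_mem 3)))
    have h5 := h3 (HH_conj h4 g1 rfl)
    have h6 : g * (p 3 * p 4) * g⁻¹ ∈ KJ (nn p) q :=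
      NN_le_KK h H hnq (NN_conj' g1 (adj_V h.std (i := 0) (j := 1) (k := 3) (l := 4) (by decide)).mem)
    have h7 := mul_mem h5 h6
    have e : g * (p 0 * p 3) * g⁻¹ * (g * (p 3 * p 4) * g⁻¹) = g * (p 0 * p 4) * g⁻¹ := by
      rw [← cm, mul_assoc (p 0), ← mul_assoc (p 3), h.std.sq, one_mul]
    rwa [e] at h7
  have i1 : {m : G | m ∈ M ∧ m * u * m⁻¹ ∉ HJ q (nn p)}.ncard ≤
      {m : G | m ∈ M ∧ m * (p 0 * p 4) * m⁻¹ ∈ KJ (nn p) q}.ncard :=
    Set.ncard_le_ncard (fun m hm => ⟨hm.1, key m hm.1 hm.2⟩) (Set.toFinite _)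
  have i2 : {m : G | m ∈ M ∧ m * (p 0 * p 4) * m⁻¹ ∉ KJ (nn p) q}.ncard ≤
      {m : G | m ∈ M ∧ m * u * m⁻¹ ∈ HJ q (nn p)}.ncard :=
    Set.ncard_le_ncard (fun m hm => ⟨hm.1, by_contra fun h1 => hm.2 (key m hm.1 h1)⟩) (Set.toFinite _)
  omega

omit hmv

/-- **(F2)**: `D_x` and `N_y` commute for `x ~ y` if `N_x` and `N_y` do. -/
theorem D_comm_NN {x y d s : G} (ha : Adj p x y) (hd : d ∈ DJ x) (hs : s ∈ NN p y) : d * s = s * d := by
  by_contra hne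
  have hmv := mv_of h H ha hd hs hne
  exact e_not h H hmv fun q hq => e_mem_KK h H hmv hq.mem (IsPt.ne_one h.std (hq.pt' h.std))

/-- `D_y ≤ O₂(C(x))` for `x ~ y`, under (F2). -/
theorem D_le_o2' {x y : G} (ha : Adj p x y) : DJ y ≤ o2 (centralizer ({x} : Set G)) :=
  le_o2_of_adj ha (D_le_o2 h (ha.pt' h.std)) (D_le_cent' h (Adj.symm h.std ha))
    fun _ hd => mem_centralizer_iff.2 fun _ hv => (D_comm_NN h H (Adj.symm h.std ha) hd hv).symm

/-- **(F3)**: `D_x` and `D_y` commute for `x ~ y` if `N_x` and `N_y` do. -/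
theorem D_comm_D {x y a b : G} (hxy : Adj p x y) (ha : a ∈ DJ x) (hb : b ∈ DJ y) : a * b = b * a := by
  have hyx := Adj.symm h.std hxy
  have hxD := mem_D h hxy.pt
  have hyD := mem_D h hyx.pt
  rcases D_act h hxy.pt (D_le_o2' h H hxy hb) ha with e | e
  · exact (comm_iff.1 e).symm
  rcases D_act h hyx.pt (D_le_o2' h H hyx ha) hb with e' | e'
  · exact comm_iff.1 e'
  exfalso
  apply hxy.ne h.std
  -- `b a b⁻¹ a⁻¹ = x`, `a b a⁻¹ b⁻¹ = y`
  have h1 : b * a * b⁻¹ * a⁻¹ = x := by rw [e]; group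
  have h2 : a * b * a⁻¹ * b⁻¹ = y := by rw [e']; group
  have h3 : x * y = 1 := by rw [← h1, ← h2]; group
  calc x = x * (y * y) := by rw [IsPt.sq h.std hyx.pt, mul_one]
    _ = y := by rw [← mul_assoc, h3, one_mul]

end light

end Cfsg.Agent.Omega.NO3S.Sym.Fan

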