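import Cfsg.Agent.Omega.NearFF.Basic

/-!
# A largest elementary abelian subgroup acts linearly on blocks over `F_t`, `t ≥ 4` (helper755, #16817 (3), (4))

`X ≤ G` is abelian, `e : G → ι → N` gives coordinates of `X` in blocks `N` (vector spaces over `F`, `|F| ≥ 4`,
`|N| > 4`), the elementary abelian 2-group `A` normalises `X`, permutes the blocks and acts semilinearly
(`Mv e X a i j φ`: `a` maps block `i` to block `j` with field automorphism `φ`).  Hypotheses (`Blk`):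

* `lift` : if `B ≤ A` is linear on the block `i` then the fixed points of `B` on the block lift to `C_{Y_i}(B)`
  (`Y_i ≤ X` has only the coordinate `i`);
* `ff` : `|B| |C_X(B)| ≤ |A| |C_X(A)|` for all `B ≤ A`.

Then `A` normalises every block and is linear on it (`Blk.linear`); so no `a ∈ A` fixes `p` and maps `x` to `x p` if
the coordinates of `x` are multiples of those of `p` and `e p ≠ 0` (`Blk.false`).
-/

set_option autoImplicit false
set_option linter.unusedSectionVars false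

namespace Cfsg.Agent.Omega.NO3S.Sym.FieldLin

open Subgroup

variable {G : Type*} [Group G] {F N ι : Type*} [Field F] [AddCommGroup N] [Module F N]

/-- `a` maps the block `i` to the block `j`, semilinearly with the field automorphism `φ`. -/
def Mv (e : G → ι → N) (X : Subgroup G) (a : G) (i j : ι) (φ : F ≃+* F) : Prop :=
  ∃ s : N ≃+ N, (∀ (c : F) (v : N), s (c • v) = φ c • s v) ∧ ∀ x ∈ X, e (a * x * a⁻¹) j = s (e x i)

/-- The setting: see the head of the file. -/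
structure Blk (F : Type*) {N ι : Type*} [Field F] [AddCommGroup N] [Module F N] (e : G → ι → N)
    (Y : ι → Subgroup G) (X A : Subgroup G) : Prop where
  comm : ∀ a ∈ A, ∀ b ∈ A, a * b = b * a
  sq : ∀ a ∈ A, a * a = 1
  xcomm : ∀ x ∈ X, ∀ y ∈ X, x * y = y * x
  norm : ∀ a ∈ A, ∀ x ∈ X, a * x * a⁻¹ ∈ X
  mul : ∀ x ∈ X, ∀ y ∈ X, e (x * y) = e x + e y
  act : ∀ a ∈ A, ∀ i, ∃ j, ∃ φ : F ≃+* F, Mv e X a i j φ
  le : ∀ i, Y i ≤ X
  only : ∀ i, ∀ x ∈ Y i, ∀ j, j ≠ i → e x j = 0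
  lift : ∀ i, ∀ B ≤ A, (∀ b ∈ B, Mv e X b i i (RingEquiv.refl F)) → ∀ v : N,
    (∀ b ∈ B, ∀ x ∈ X, e x i = v → e (b * x * b⁻¹) i = v) → ∃ x ∈ Y i, e x i = v ∧ ∀ b ∈ B, b * x = x * b
  ff : ∀ B ≤ A, Nat.card B * Nat.card ↥(X ⊓ centralizer (B : Set G)) ≤
    Nat.card A * Nat.card ↥(X ⊓ centralizer (A : Set G))

/-- the involution in the automorphism group of a finite field is unique -/
theorem inv_unique [Finite F] [CharP F 2] {φ ψ : F ≃+* F} (h1 : ∀ c, φ (φ c) = c) (h2 : ∀ c, ψ (ψ c) = c)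
    (h3 : φ ≠ RingEquiv.refl F) (h4 : ψ ≠ RingEquiv.refl F) : φ = ψ := by
  classical
  let _ : Algebra (ZMod 2) F := ZMod.algebra F 2
  let g : (F ≃+* F) → (F ≃ₐ[ZMod 2] F) := fun φ => AlgEquiv.ofRingEquiv (f := φ) fun x => by
    have : (algebraMap (ZMod 2) F) x = 0 ∨ (algebraMap (ZMod 2) F) x = 1 := by
      have h : ∀ y : ZMod 2, y = 0 ∨ y = 1 := by decide
      rcases h x with rfl | rfl
      · left; exact map_zero _
      · right; exact map_one _
    rcases this with h | h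
    · rw [h, map_zero]
    · rw [h, map_one]
  have hg : ∀ φ c, g φ c = φ c := fun φ c => rfl
  have := Fintype.ofFinite (F ≃ₐ[ZMod 2] F)
  have hc := IsCyclic.card_pow_eq_one_le (α := F ≃ₐ[ZMod 2] F) (n := 2) two_pos
  by_contra hne
  have e1 : g φ ^ 2 = 1 := by
    ext c
    rw [pow_two]
    exact h1 c
  have e2 : g ψ ^ 2 = 1 := by
    ext c
    rw [pow_two]
    exact h2 c
  have n1 : g φ ≠ 1 := fun h => h3 (RingEquiv.ext fun c => by rw [← hg, h]; rfl)
  have n2 : g ψ ≠ 1 := fun h => h4 (RingEquiv.ext fun c => by rw [← hg, h]; rfl)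
  have n3 : g φ ≠ g ψ := fun h => hne (RingEquiv.ext fun c => by rw [← hg, h, hg])
  have h5 : ({1, g φ, g ψ} : Finset (F ≃ₐ[ZMod 2] F)) ⊆ Finset.univ.filter fun a => a ^ 2 = 1 := by
    intro x hx
    simp only [Finset.mem_insert, Finset.mem_singleton] at hx
    rw [Finset.mem_filter]
    refine ⟨Finset.mem_univ _, ?_⟩
    rcases hx with rfl | rfl | rfl
    · exact one_pow 2
    · exact e1
    · exact e2
  have h6 := Finset.card_le_card h5
  rw [Finset.card_insert_of_notMem, Finset.card_pair n3] at h6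
  · omega
  · simp only [Finset.mem_insert, Finset.mem_singleton, not_or]
    exact ⟨n1.symm, n2.symm⟩

namespace Blk

variable {e : G → ι → N} {Y : ι → Subgroup G} {X A : Subgroup G} (h : Blk F e Y X A)
include h

theorem onto (i : ι) (v : N) : ∃ x ∈ Y i, e x i = v := by
  obtain ⟨x, hx, h1, -⟩ := h.lift i ⊥ bot_le (fun b hb => by
    rw [mem_bot] at hb
    subst hb
    exact ⟨AddEquiv.refl N, fun _ _ => rfl, fun x _ => by rw [one_mul, inv_one, mul_one]; rfl⟩) v
      (fun b hb x _ hv => by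
        rw [mem_bot] at hb
        rw [hb, one_mul, inv_one, mul_one, hv])
  exact ⟨x, hx, h1⟩

theorem norm' {a : G} (ha : a ∈ A) {x : G} (hx : x ∈ X) : a⁻¹ * x * a ∈ X := by
  have h1 := h.norm a⁻¹ (A.inv_mem ha) x hx
  rwa [inv_inv] at h1

theorem mv_mul {a b : G} {i j k : ι} {φ ψ : F ≃+* F} (hb : b ∈ A) (h1 : Mv e X b i j φ)
    (h2 : Mv e X a j k ψ) : Mv e X (a * b) i k (φ.trans ψ) := by
  obtain ⟨s, hs, h3⟩ := h1
  obtain ⟨t, ht, h4⟩ := h2
  refine ⟨s.trans t, fun c v => ?_, fun x hx => ?_⟩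
  · rw [AddEquiv.trans_apply, hs, ht]
    rfl
  · have e1 : a * b * x * (a * b)⁻¹ = a * (b * x * b⁻¹) * a⁻¹ := by group
    rw [e1, h4 _ (h.norm b hb x hx), h3 x hx]
    rfl

theorem mv_inv {a : G} {i j : ι} {φ : F ≃+* F} (ha : a ∈ A) (h1 : Mv e X a i j φ) :
    Mv e X a⁻¹ j i φ.symm := by
  obtain ⟨s, hs, h3⟩ := h1
  refine ⟨s.symm, fun c v => ?_, fun x hx => ?_⟩
  · rw [AddEquiv.symm_apply_eq, hs, AddEquiv.apply_symm_apply, RingEquiv.apply_symm_apply]
  · have h4 := h3 _ (h.norm' ha hx)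
    have e1 : a * (a⁻¹ * x * a) * a⁻¹ = x := by group
    rw [e1] at h4
    rw [AddEquiv.eq_symm_apply, inv_inv, ← h4]

theorem mv_one (i : ι) : Mv e X 1 i i (RingEquiv.refl F) :=
  ⟨AddEquiv.refl N, fun _ _ => rfl, fun x _ => by rw [one_mul, inv_one, mul_one]; rfl⟩

theorem mv_unique [Nontrivial N] {a : G} {i j k : ι} {φ ψ : F ≃+* F} (ha : a ∈ A) (h1 : Mv e X a i j φ)
    (h2 : Mv e X a i k ψ) : j = k ∧ φ = ψ := by
  obtain ⟨s, hs, h3⟩ := h1
  obtain ⟨t, ht, h4⟩ := h2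
  obtain ⟨v, hv⟩ := exists_ne (0 : N)
  have hjk : j = k := by
    by_contra hne
    obtain ⟨x, hx, h5⟩ := h.onto j v
    have hxX := h.le j hx
    have e1 : a * (a⁻¹ * x * a) * a⁻¹ = x := by group
    have h6 := h3 _ (h.norm' ha hxX)
    have h7 := h4 _ (h.norm' ha hxX)
    rw [e1] at h6 h7
    rw [h.only j x hx k (Ne.symm hne)] at h7
    have h8 : e (a⁻¹ * x * a) i = 0 := (map_eq_zero_iff t t.injective).1 h7.symm
    rw [h8, map_zero, h5] at h6
    exact hv h6
  subst hjk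
  refine ⟨rfl, ?_⟩
  have hst : ∀ v, s v = t v := by
    intro v
    obtain ⟨x, hx, rfl⟩ := h.onto i v
    rw [← h3 x (h.le i hx), h4 x (h.le i hx)]
  ext c
  have h5 := hs c v
  rw [hst, ht, ← hst v] at h5
  have h6 : (ψ c - φ c) • s v = 0 := by rw [sub_smul, h5, sub_self]
  rcases smul_eq_zero.1 h6 with h7 | h7
  · exact (sub_eq_zero.1 h7).symm
  · exact absurd ((map_eq_zero_iff s s.injective).1 h7) hv

theorem e_one : e 1 = 0 := by
  have h1 := h.mul 1 X.one_mem 1 X.one_mem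
  rw [mul_one] at h1
  exact (left_eq_add.1 h1)

theorem e_inv {x : G} (hx : x ∈ X) : e x⁻¹ = -e x := by
  have h1 := h.mul x hx x⁻¹ (X.inv_mem hx)
  rw [mul_inv_cancel, h.e_one] at h1
  exact (neg_eq_of_add_eq_zero_right h1.symm).symm

/-- the stabiliser of the block `i` -/
def St (i : ι) : Subgroup G where
  carrier := {a | a ∈ A ∧ ∃ φ : F ≃+* F, Mv e X a i i φ}
  one_mem' := ⟨A.one_mem, _, h.mv_one i⟩
  mul_mem' := fun {_ _} ha hb => ⟨A.mul_mem ha.1 hb.1, _, h.mv_mul hb.1 hb.2.choose_spec ha.2.choose_spec⟩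
  inv_mem' := fun {_} ha => ⟨A.inv_mem ha.1, _, h.mv_inv ha.1 ha.2.choose_spec⟩

/-- the linear part of the stabiliser -/
def Li (i : ι) : Subgroup G where
  carrier := {a | a ∈ A ∧ Mv e X a i i (RingEquiv.refl F)}
  one_mem' := ⟨A.one_mem, h.mv_one i⟩
  mul_mem' := fun {_ _} ha hb => ⟨A.mul_mem ha.1 hb.1, h.mv_mul hb.1 hb.2 ha.2⟩
  inv_mem' := fun {_} ha => ⟨A.inv_mem ha.1, h.mv_inv ha.1 ha.2⟩

/-- the kernel on the block `i` -/
def Ke (i : ι) : Subgroup G where
  carrier := {a | a ∈ A ∧ ∀ x ∈ X, e (a * x * a⁻¹) i = e x i}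
  one_mem' := ⟨A.one_mem, fun x _ => by rw [one_mul, inv_one, mul_one]⟩
  mul_mem' := by
    rintro a b ⟨ha, ha'⟩ ⟨hb, hb'⟩
    refine ⟨A.mul_mem ha hb, fun x hx => ?_⟩
    have e1 : a * b * x * (a * b)⁻¹ = a * (b * x * b⁻¹) * a⁻¹ := by group
    rw [e1, ha' _ (h.norm b hb x hx), hb' x hx]
  inv_mem' := by
    rintro a ⟨ha, ha'⟩
    refine ⟨A.inv_mem ha, fun x hx => ?_⟩
    have h1 := ha' _ (h.norm' ha hx)
    have e1 : a * (a⁻¹ * x * a) * a⁻¹ = x := by group
    rw [e1] at h1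
    rw [inv_inv, h1]

theorem mem_St {a : G} {i : ι} : a ∈ h.St i ↔ a ∈ A ∧ ∃ φ : F ≃+* F, Mv e X a i i φ := Iff.rfl
theorem mem_Li {a : G} {i : ι} : a ∈ h.Li i ↔ a ∈ A ∧ Mv e X a i i (RingEquiv.refl F) := Iff.rfl
theorem mem_Ke {a : G} {i : ι} : a ∈ h.Ke i ↔ a ∈ A ∧ ∀ x ∈ X, e (a * x * a⁻¹) i = e x i := Iff.rfl

theorem St_le (i : ι) : h.St i ≤ A := fun _ ha => ha.1
theorem Li_le (i : ι) : h.Li i ≤ h.St i := fun _ ha => ⟨ha.1, _, ha.2⟩
theorem Ke_le (i : ι) : h.Ke i ≤ h.Li i := fun _ ha =>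
  ⟨ha.1, AddEquiv.refl N, fun _ _ => rfl, fun x hx => ha.2 x hx⟩

/-- a lift of a vector of the block `i` -/
noncomputable def pk (i : ι) (v : N) : G := (h.onto i v).choose
theorem pk_mem (i : ι) (v : N) : h.pk i v ∈ X := h.le i (h.onto i v).choose_spec.1
theorem e_pk (i : ι) (v : N) : e (h.pk i v) i = v := (h.onto i v).choose_spec.2

/-- the action of the stabiliser of the block `i` on the block -/
noncomputable def ac (i : ι) (a : G) (v : N) : N := e (a * h.pk i v * a⁻¹) i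

theorem ac_e {i : ι} {a : G} (ha : a ∈ h.St i) {x : G} (hx : x ∈ X) : e (a * x * a⁻¹) i = h.ac i a (e x i) := by
  obtain ⟨-, φ, s, -, h1⟩ := ha
  rw [ac, h1 _ (h.pk_mem i _), h.e_pk, h1 x hx]

theorem ac_mul {i : ι} {a b : G} (ha : a ∈ h.St i) (hb : b ∈ h.St i) (v : N) :
    h.ac i (a * b) v = h.ac i a (h.ac i b v) := by
  have h1 := h.ac_e (mul_mem ha hb) (h.pk_mem i v)
  have e1 : a * b * h.pk i v * (a * b)⁻¹ = a * (b * h.pk i v * b⁻¹) * a⁻¹ := by group
  rw [h.e_pk, e1, h.ac_e ha (h.norm b hb.1 _ (h.pk_mem i v)), h.ac_e hb (h.pk_mem i v), h.e_pk] at h1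
  exact h1.symm

theorem ac_one (i : ι) (v : N) : h.ac i 1 v = v := by
  rw [ac, one_mul, inv_one, mul_one, h.e_pk]

theorem ac_add {i : ι} {a : G} (ha : a ∈ h.St i) (u v : N) : h.ac i a (u + v) = h.ac i a u + h.ac i a v := by
  obtain ⟨-, φ, s, -, h1⟩ := ha
  have : ∀ w, h.ac i a w = s w := fun w => by rw [ac, h1 _ (h.pk_mem i _), h.e_pk]
  rw [this, this, this, map_add]

theorem ac_smul {i : ι} {a : G} {φ : F ≃+* F} (ha : Mv e X a i i φ) (c : F) (v : N) :
    h.ac i a (c • v) = φ c • h.ac i a v := by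
  obtain ⟨s, hs, h1⟩ := ha
  have : ∀ w, h.ac i a w = s w := fun w => by rw [ac, h1 _ (h.pk_mem i _), h.e_pk]
  rw [this, this, hs]

theorem ac_comm {i : ι} {a b : G} (ha : a ∈ h.St i) (hb : b ∈ h.St i) (v : N) :
    h.ac i a (h.ac i b v) = h.ac i b (h.ac i a v) := by
  rw [← h.ac_mul ha hb, ← h.ac_mul hb ha, h.comm a ha.1 b hb.1]

/-- the action of the stabiliser as an action -/
@[reducible] noncomputable def mulAction (i : ι) : MulAction (h.St i) N where
  smul a v := h.ac i a v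
  one_smul v := h.ac_one i v
  mul_smul a b v := h.ac_mul a.2 b.2 v

/-- fixed points of `B` on the block `i` -/
def Wf (B : Subgroup G) (i : ι) : Set N := {v | ∀ b ∈ B, h.ac i b v = v}

theorem mem_Wf {B : Subgroup G} {i : ι} {v : N} : v ∈ h.Wf B i ↔ ∀ b ∈ B, h.ac i b v = v := Iff.rfl

/-- fixed points of a 2-group -/
theorem exists_fix [Finite G] [Finite N] [CharP F 2] {i : ι} {B : Subgroup G} (hB : B ≤ h.St i)
    {U : AddSubgroup N} (hU : ∀ b ∈ B, ∀ u ∈ U, h.ac i b u ∈ U) (hne : U ≠ ⊥) :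
    ∃ u ∈ U, u ≠ 0 ∧ u ∈ h.Wf B i := by
  let _ : MulAction B U :=
    { smul := fun a u => ⟨h.ac i a u, hU a a.2 u u.2⟩
      one_smul := fun u => Subtype.ext (h.ac_one i u)
      mul_smul := fun a b u => Subtype.ext (h.ac_mul (hB a.2) (hB b.2) u) }
  have hp : IsPGroup 2 B := fun b => ⟨1, Subtype.ext (by
    rw [pow_one, pow_two]
    exact h.sq b (hB b.2).1)⟩
  have hcard : 2 ∣ Nat.card U := by
    obtain ⟨u, hu0⟩ := AddSubgroup.ne_bot_iff_exists_ne_zero.1 hne
    have h2 : addOrderOf u = 2 := by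
      refine addOrderOf_eq_prime ?_ hu0
      apply Subtype.ext
      have h3 : ((2 : ℕ) : F) • (u : N) = (2 : ℕ) • (u : N) := Nat.cast_smul_eq_nsmul F 2 (u : N)
      rw [CharP.cast_eq_zero F 2, zero_smul] at h3
      exact h3.symm
    rw [← h2]
    exact addOrderOf_dvd_natCard u
  have h0 : (0 : U) ∈ MulAction.fixedPoints B U := fun b => Subtype.ext (by
    have h4 := h.ac_add (hB b.2) 0 0
    rw [add_zero] at h4
    exact left_eq_add.1 h4)
  have h1 : 2 ∣ Nat.card (MulAction.fixedPoints B U) :=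
    (Nat.modEq_zero_iff_dvd.1 ((hp.card_modEq_card_fixedPoints U).symm.trans (Nat.modEq_zero_iff_dvd.2 hcard)))
  have h2 : 1 < Nat.card (MulAction.fixedPoints B U) := by
    have h3 : 0 < Nat.card (MulAction.fixedPoints B U) := Nat.card_pos_iff.2 ⟨⟨⟨0, h0⟩⟩, inferInstance⟩
    exact lt_of_lt_of_le one_lt_two (Nat.le_of_dvd h3 h1)
  have h6 : Nontrivial (MulAction.fixedPoints B U) := Finite.one_lt_card_iff_nontrivial.1 h2
  obtain ⟨⟨⟨u, hu⟩, huf⟩, hne1⟩ := exists_ne (⟨0, h0⟩ : MulAction.fixedPoints B U)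
  refine ⟨u, hu, ?_, fun b hb => congrArg Subtype.val (huf ⟨b, hb⟩)⟩
  rintro rfl
  exact hne1 rfl

/-- the fixed points of `A` with coordinate `0` in the block `i` -/
def K0 (_ : Blk F e Y X A) (i : ι) : Set G := {x | x ∈ X ∧ (∀ a ∈ A, a * x = x * a) ∧ e x i = 0}

/-- lifting -/
theorem lift' {i : ι} {B : Subgroup G} (hB : B ≤ h.Li i) {v : N} (hv : v ∈ h.Wf B i) :
    ∃ x ∈ Y i, e x i = v ∧ ∀ b ∈ B, b * x = x * b :=
  h.lift i B (fun b hb => (hB hb).1) (fun b hb => (hB hb).2) v fun b hb x hx hxv => by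
    rw [h.ac_e (h.Li_le i (hB hb)) hx, hxv, hv b hb]

theorem card_XA_le [Finite G] [Finite N] (i : ι) :
    Nat.card ↥(X ⊓ centralizer (A : Set G)) ≤ Nat.card (h.Wf (h.St i) i) * Nat.card (h.K0 i) := by
  classical
  -- a section
  have hsec : ∀ v : N, ∃ y : G, (∃ x ∈ X ⊓ centralizer (A : Set G), e x i = v) →
      y ∈ X ⊓ centralizer (A : Set G) ∧ e y i = v := by
    intro v
    by_cases hv : ∃ x ∈ X ⊓ centralizer (A : Set G), e x i = v
    · obtain ⟨x, hx, h1⟩ := hv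
      exact ⟨x, fun _ => ⟨hx, h1⟩⟩
    · exact ⟨1, fun h1 => absurd h1 hv⟩
  choose sec hsec using hsec
  have hs : ∀ x ∈ X ⊓ centralizer (A : Set G), sec (e x i) ∈ X ⊓ centralizer (A : Set G) ∧
      e (sec (e x i)) i = e x i := fun x hx => hsec _ ⟨x, hx, rfl⟩
  have hcc : ∀ {x a : G}, x ∈ X ⊓ centralizer (A : Set G) → a ∈ A → a * x = x * a :=
    fun {x a} hx ha => mem_centralizer_iff.1 hx.2 a ha
  have hfix : ∀ x ∈ X ⊓ centralizer (A : Set G), e x i ∈ h.Wf (h.St i) i := by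
    intro x hx a ha
    rw [← h.ac_e ha hx.1, hcc hx ha.1, mul_inv_cancel_right]
  let f : ↥(X ⊓ centralizer (A : Set G)) → h.Wf (h.St i) i × h.K0 i := fun x =>
    (⟨e x i, hfix x x.2⟩, ⟨x * (sec (e x i))⁻¹, X.mul_mem x.2.1 (X.inv_mem (hs x x.2).1.1), fun a ha => by
      have h1 := hcc (mul_mem x.2 (inv_mem (hs x x.2).1)) ha
      exact h1, by
      rw [h.mul _ x.2.1 _ (X.inv_mem (hs x x.2).1.1), h.e_inv (hs x x.2).1.1, Pi.add_apply, Pi.neg_apply,
        (hs x x.2).2, add_neg_cancel]⟩)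
  have hf : Function.Injective f := by
    intro x y hxy
    have h1 : e (x : G) i = e (y : G) i := congrArg (fun t => (t.1 : N)) hxy
    have h2 : (x : G) * (sec (e x i))⁻¹ = y * (sec (e y i))⁻¹ := congrArg (fun t => (t.2 : G)) hxy
    rw [h1] at h2
    exact Subtype.ext (mul_right_cancel h2)
  have : Finite (h.K0 i) := Set.toFinite _
  rw [← Nat.card_prod]
  exact Nat.card_le_card_of_injective f hf

/-- the lower bound for `|C_X(B)|` -/
theorem card_XB_ge [Finite G] [Finite N] [Nontrivial N] {i : ι} {B : Subgroup G} (hB : B ≤ h.Li i) :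
    Nat.card (h.Wf B i) ^ (h.St i).relIndex A * Nat.card (h.K0 i) ≤
      Nat.card ↥(X ⊓ centralizer (B : Set G)) := by
  classical
  have hBA : B ≤ A := fun b hb => (hB hb).1
  let Q := A ⧸ (h.St i).subgroupOf A
  have : Fintype Q := Fintype.ofFinite Q
  have hr : ∀ c : Q, ∃ j, ∃ φ : F ≃+* F, Mv e X (c.out : A) i j φ := fun c => h.act _ c.out.2 i
  choose jj φ hj using hr
  have hjinj : Function.Injective jj := by
    intro c d hcd
    have h1 := h.mv_mul (c.out : A).2 (hj c) (hcd ▸ h.mv_inv (d.out : A).2 (hj d))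
    have h2 : ((d.out : A) : G)⁻¹ * (c.out : A) ∈ h.St i :=
      ⟨A.mul_mem (A.inv_mem (d.out : A).2) (c.out : A).2, _, h1⟩
    have h3 : ((d.out : A))⁻¹ * (c.out : A) ∈ (h.St i).subgroupOf A := h2
    rw [← QuotientGroup.out_eq' c, ← QuotientGroup.out_eq' d]
    exact (QuotientGroup.eq.2 h3).symm
  choose! y hyY hye hyc using fun (v : N) (hv : v ∈ h.Wf B i) => h.lift' hB hv
  -- the sets
  let S : Finset Q → Set G := fun s => {x | x ∈ X ⊓ centralizer (B : Set G) ∧ ∀ c ∉ s, e x (jj c) = 0}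
  have hfin : ∀ s, Finite (S s) := fun s => Set.toFinite _
  have key : ∀ s : Finset Q, Nat.card (h.Wf B i) ^ s.card * Nat.card (h.K0 i) ≤ Nat.card (S s) := by
    intro s
    induction s using Finset.induction_on with
    | empty =>
      rw [Finset.card_empty, pow_zero, one_mul]
      have h1 : h.K0 i ⊆ S ∅ := by
        rintro x ⟨hx, hxA, hx0⟩
        refine ⟨⟨hx, mem_centralizer_iff.2 fun b hb => hxA b (hBA hb)⟩, fun c _ => ?_⟩
        obtain ⟨s, -, h2⟩ := hj c
        have h3 := h2 x hx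
        rw [hxA _ (c.out : A).2, mul_inv_cancel_right, hx0, map_zero] at h3
        exact h3
      exact Nat.card_mono (Set.toFinite _) h1
    | insert c s hc ih =>
      rw [Finset.card_insert_of_notMem hc, pow_succ, mul_comm (_ ^ _), mul_assoc]
      refine (Nat.mul_le_mul_left _ ih).trans ?_
      rw [← Nat.card_prod]
      let a : G := (c.out : A)
      have ha : a ∈ A := (c.out : A).2
      obtain ⟨s1, -, hs1⟩ := id (hj c)
      let f : h.Wf B i × S s → S (insert c s) := fun p => ⟨a * y p.1 * a⁻¹ * p.2, by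
        have hyX : y p.1 ∈ X := h.le i (hyY _ p.1.2)
        have hyX' : a * y p.1 * a⁻¹ ∈ X := h.norm a ha _ hyX
        refine ⟨⟨X.mul_mem hyX' p.2.2.1.1, mem_centralizer_iff.2 fun b hb => ?_⟩, fun d hd => ?_⟩
        · have h1 := hyc _ p.1.2 b hb
          have h2 : b * (p.2 : G) = p.2 * b := mem_centralizer_iff.1 p.2.2.1.2 b hb
          have h3 : b * a = a * b := h.comm b (hBA hb) a ha
          have h4 : b * a⁻¹ = a⁻¹ * b := h.comm b (hBA hb) a⁻¹ (A.inv_mem ha)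
          calc b * (a * y p.1 * a⁻¹ * p.2) = (b * a) * y p.1 * a⁻¹ * p.2 := by group
            _ = a * (b * y p.1) * a⁻¹ * p.2 := by rw [h3]; group
            _ = a * y p.1 * (b * a⁻¹) * p.2 := by rw [h1]; group
            _ = a * y p.1 * a⁻¹ * (b * p.2) := by rw [h4]; group
            _ = a * y p.1 * a⁻¹ * p.2 * b := by rw [h2]; group
        · rw [Finset.mem_insert, not_or] at hd
          rw [h.mul _ hyX' _ p.2.2.1.1, Pi.add_apply, p.2.2.2 d hd.2, add_zero]
          obtain ⟨k, ψ, hk⟩ := h.act a⁻¹ (A.inv_mem ha) (jj d)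
          have hki : k ≠ i := by
            rintro rfl
            have h5 := h.mv_inv (A.inv_mem ha) hk
            rw [inv_inv] at h5
            exact hd.1 (hjinj (h.mv_unique ha h5 (hj c)).1)
          obtain ⟨s2, -, hs2⟩ := hk
          have h6 := hs2 _ hyX'
          have e1 : a⁻¹ * (a * y p.1 * a⁻¹) * a⁻¹⁻¹ = y p.1 := by group
          rw [e1, h.only i _ (hyY _ p.1.2) k hki] at h6
          exact (map_eq_zero_iff s2 s2.injective).1 h6.symm⟩
      have hf : Function.Injective f := by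
        rintro ⟨v, x⟩ ⟨w, x'⟩ hxy
        have h1 : a * y v * a⁻¹ * (x : G) = a * y w * a⁻¹ * x' := congrArg Subtype.val hxy
        have hyX : ∀ v : h.Wf B i, y v ∈ X := fun v => h.le i (hyY _ v.2)
        have h2 : e (a * y v * a⁻¹ * (x : G)) (jj c) = e (a * y w * a⁻¹ * x') (jj c) := by rw [h1]
        rw [h.mul _ (h.norm a ha _ (hyX v)) _ x.2.1.1, h.mul _ (h.norm a ha _ (hyX w)) _ x'.2.1.1, Pi.add_apply,
          Pi.add_apply, x.2.2 c hc, x'.2.2 c hc, add_zero, add_zero] at h2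
        have hs1' : ∀ x ∈ X, e (a * x * a⁻¹) (jj c) = s1 (e x i) := hs1
        rw [hs1' _ (hyX v), hs1' _ (hyX w), hye _ v.2, hye _ w.2] at h2
        have h3 : v = w := Subtype.ext (s1.injective h2)
        subst h3
        have h4 : x = x' := Subtype.ext (mul_left_cancel h1)
        rw [h4]
      exact Nat.card_le_card_of_injective f hf
  have h1 := key Finset.univ
  have h2 : (Finset.univ : Finset Q).card = (h.St i).relIndex A := by
    rw [Finset.card_univ, ← Nat.card_eq_fintype_card]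
    rfl
  rw [h2] at h1
  refine h1.trans (Nat.card_mono (Set.toFinite _) fun x hx => hx.1)

/-- `|B| |W_B|^m ≤ |A| |C_N(St)|` -/
theorem bound [Finite G] [Finite N] [Nontrivial N] {i : ι} {B : Subgroup G} (hB : B ≤ h.Li i) :
    Nat.card B * Nat.card (h.Wf B i) ^ (h.St i).relIndex A ≤ Nat.card A * Nat.card (h.Wf (h.St i) i) := by
  have h1 := h.card_XB_ge hB
  have h2 := h.card_XA_le i
  have h3 := h.ff B fun b hb => (hB hb).1
  have hk : 0 < Nat.card (h.K0 i) :=
    have : Nonempty (h.K0 i) := ⟨⟨1, X.one_mem, fun a _ => by rw [mul_one, one_mul], by rw [h.e_one]; rfl⟩⟩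
    have : Finite (h.K0 i) := Set.toFinite _
    Nat.card_pos
  refine Nat.le_of_mul_le_mul_right ?_ hk
  calc Nat.card B * Nat.card (h.Wf B i) ^ (h.St i).relIndex A * Nat.card (h.K0 i)
      = Nat.card B * (Nat.card (h.Wf B i) ^ (h.St i).relIndex A * Nat.card (h.K0 i)) := by ring
    _ ≤ Nat.card B * Nat.card ↥(X ⊓ centralizer (B : Set G)) := Nat.mul_le_mul_left _ h1
    _ ≤ Nat.card A * Nat.card ↥(X ⊓ centralizer (A : Set G)) := h3
    _ ≤ Nat.card A * (Nat.card (h.Wf (h.St i) i) * Nat.card (h.K0 i)) := Nat.mul_le_mul_left _ h2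
    _ = _ := by ring

theorem zero_mem_Wf {B : Subgroup G} {i : ι} (hB : B ≤ h.St i) : (0 : N) ∈ h.Wf B i := by
  intro b hb
  have h4 := h.ac_add (hB hb) 0 0
  rw [add_zero] at h4
  exact left_eq_add.1 h4

theorem Wf_ne [Finite G] [Finite N] [Nontrivial N] [CharP F 2] {i : ι} {B : Subgroup G} (hB : B ≤ h.St i) :
    ∃ v ∈ h.Wf B i, v ≠ 0 := by
  have hne : (⊤ : AddSubgroup N) ≠ ⊥ := by
    intro h0
    obtain ⟨v, hv⟩ := exists_ne (0 : N)
    exact hv ((AddSubgroup.mem_bot).1 (h0 ▸ AddSubgroup.mem_top v))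
  obtain ⟨u, -, h1, h2⟩ := h.exists_fix hB (U := ⊤) (fun _ _ _ _ => AddSubgroup.mem_top _) hne
  exact ⟨u, h2, h1⟩

/-- the fixed points of a linear group form a subspace -/
theorem Wf_smul {i : ι} {B : Subgroup G} (hB : B ≤ h.Li i) {v : N} (hv : v ∈ h.Wf B i) (c : F) :
    c • v ∈ h.Wf B i := by
  intro b hb
  rw [h.ac_smul (hB hb).2, hv b hb]
  rfl

theorem Wf_add {i : ι} {B : Subgroup G} (hB : B ≤ h.St i) {u v : N} (hu : u ∈ h.Wf B i) (hv : v ∈ h.Wf B i) :
    u + v ∈ h.Wf B i := by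
  intro b hb
  rw [h.ac_add (hB hb), hu b hb, hv b hb]

theorem card_Wf_ge [Finite G] [Finite N] [Nontrivial N] [Finite F] [CharP F 2] {i : ι} {B : Subgroup G}
    (hB : B ≤ h.Li i) : Nat.card F ≤ Nat.card (h.Wf B i) := by
  obtain ⟨v, hv, hv0⟩ := h.Wf_ne (hB.trans (h.Li_le i))
  refine Nat.card_le_card_of_injective (fun c : F => (⟨c • v, h.Wf_smul hB hv c⟩ : h.Wf B i)) fun c d hcd => ?_
  have h1 : c • v = d • v := congrArg Subtype.val hcd
  have h2 : (c - d) • v = 0 := by rw [sub_smul, h1, sub_self]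
  exact sub_eq_zero.1 ((smul_eq_zero.1 h2).resolve_right hv0)

/-- `|C_U(a)|² ≤ |U|` for a semilinear `a` -/
theorem card_sq_le [Finite N] {i : ι} {a : G} {φ : F ≃+* F} (hm : Mv e X a i i φ)
    (hφ : φ ≠ RingEquiv.refl F) {D U : Set N} (hD : ∀ v ∈ D, h.ac i a v = v) (hDs : ∀ u ∈ D, ∀ v ∈ D, u - v ∈ D)
    (hU : ∀ u ∈ D, ∀ v ∈ D, ∀ c : F, u + c • v ∈ U) : Nat.card D ^ 2 ≤ Nat.card U := by
  obtain ⟨c, hc⟩ : ∃ c, φ c ≠ c := by
    by_contra hcon
    push Not at hcon
    exact hφ (RingEquiv.ext hcon)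
  rw [pow_two, ← Nat.card_prod]
  have : Finite U := Set.toFinite _
  refine Nat.card_le_card_of_injective (fun p : D × D => (⟨p.1 + c • p.2, hU _ p.1.2 _ p.2.2 c⟩ : U)) ?_
  rintro ⟨u, v⟩ ⟨u', v'⟩ huv
  have h1 : (u : N) + c • (v : N) = u' + c • (v' : N) := congrArg Subtype.val huv
  have h2 : (u : N) - u' = c • ((v' : N) - v) := by
    rw [smul_sub, sub_eq_iff_eq_add, sub_add_eq_add_sub, eq_sub_iff_add_eq, h1, add_comm]
  have h3 := h.ac_smul hm c ((v' : N) - v)
  rw [← h2, hD _ (hDs _ u.2 _ u'.2), hD _ (hDs _ v'.2 _ v.2), h2] at h3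
  have h4 : (c - φ c) • ((v' : N) - v) = 0 := by rw [sub_smul, h3, sub_self]
  rcases smul_eq_zero.1 h4 with h5 | h5
  · exact absurd (sub_eq_zero.1 h5).symm hc
  · have h6 : v = v' := Subtype.ext (sub_eq_zero.1 h5).symm
    subst h6
    have h7 : u = u' := Subtype.ext (add_right_cancel h1)
    rw [h7]

theorem refl_or [Finite F] [CharP F 2] [Nontrivial N] {i : ι} {a b : G} (ha : a ∈ h.St i) (hb : b ∈ h.St i)
    (ha' : a ∉ h.Li i) (hb' : b ∉ h.Li i) : a⁻¹ * b ∈ h.Li i := by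
  obtain ⟨haA, φ, hφ⟩ := ha
  obtain ⟨hbA, ψ, hψ⟩ := hb
  have hsq : ∀ {a : G} {φ : F ≃+* F}, a ∈ A → Mv e X a i i φ → ∀ c, φ (φ c) = c := by
    intro a φ ha hφ c
    have h1 := h.mv_mul ha hφ hφ
    rw [h.sq a ha] at h1
    have h2 := (h.mv_unique A.one_mem h1 (h.mv_one i)).2
    exact congrArg (fun f : F ≃+* F => f c) h2
  have h1 : φ = ψ := by
    refine inv_unique (hsq haA hφ) (hsq hbA hψ) ?_ ?_
    · rintro rfl; exact ha' ⟨haA, hφ⟩
    · rintro rfl; exact hb' ⟨hbA, hψ⟩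
  subst h1
  refine ⟨A.mul_mem (A.inv_mem haA) hbA, ?_⟩
  have h2 := h.mv_mul hbA hψ (h.mv_inv haA hφ)
  have h3 : φ.trans φ.symm = RingEquiv.refl F := by
    ext c
    exact φ.symm_apply_apply c
  rwa [h3] at h2

theorem card_St_le [Finite G] [Finite F] [CharP F 2] [Nontrivial N] (i : ι) :
    Nat.card (h.St i) ≤ 2 * Nat.card (h.Li i) := by
  classical
  by_cases hc : ∃ a, a ∈ h.St i ∧ a ∉ h.Li i
  · obtain ⟨a, ha, ha'⟩ := hc
    have h2 : Nat.card Bool = 2 := by rw [Nat.card_eq_fintype_card, Fintype.card_bool]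
    rw [← h2, ← Nat.card_prod]
    refine Nat.card_le_card_of_injective (fun b : h.St i => if hb : (b : G) ∈ h.Li i then (true, ⟨b, hb⟩)
      else (false, ⟨a⁻¹ * b, h.refl_or ha b.2 ha' hb⟩)) ?_
    intro b c hbc
    dsimp only at hbc
    split_ifs at hbc with h3 h4 h4
    · exact Subtype.ext (congrArg (fun t : Bool × h.Li i => (t.2 : G)) hbc)
    · exact absurd (congrArg Prod.fst hbc) (fun h0 => Bool.noConfusion h0)
    · exact absurd (congrArg Prod.fst hbc) (fun h0 => Bool.noConfusion h0)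
    · exact Subtype.ext (mul_left_cancel (congrArg (fun t : Bool × h.Li i => (t.2 : G)) hbc))
  · push Not at hc
    have h1 : h.St i = h.Li i := le_antisymm hc (h.Li_le i)
    rw [h1]
    omega

theorem card_A (i : ι) : Nat.card A = (h.St i).relIndex A * Nat.card (h.St i) := by
  have h1 := (Subgroup.card_mul_index ((h.St i).subgroupOf A))
  rw [Nat.card_congr (Subgroup.subgroupOfEquivOfLe (h.St_le i)).toEquiv] at h1
  rw [← h1, mul_comm]
  rfl

omit [AddCommGroup N] [Module F N] h in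
theorem arith1 {m w : ℕ} (hm : 1 ≤ m) (hw : 4 ≤ w) (h1 : w ^ m ≤ m * w) : m = 1 := by
  obtain ⟨k, rfl⟩ : ∃ k, m = k + 1 := ⟨m - 1, by omega⟩
  have h2 : w ^ k ≤ k + 1 := by
    rw [pow_succ] at h1
    exact Nat.le_of_mul_le_mul_right h1 (by omega)
  have h3 : 4 ^ k ≤ k + 1 := (Nat.pow_le_pow_left hw k).trans h2
  have h4 : ∀ k : ℕ, 3 * k + 1 ≤ 4 ^ k := by
    intro k
    induction k with
    | zero => norm_num
    | succ k ih => rw [pow_succ]; omega
  have h5 := h4 k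
  omega

omit [AddCommGroup N] [Module F N] h in
theorem arith2 {m w d : ℕ} (hm : 1 ≤ m) (hw : 4 ≤ w) (h1 : w ^ m ≤ 2 * m * d) (h2 : d ^ 2 ≤ w) :
    m = 1 ∧ d ≤ 2 := by
  have hm1 : m = 1 := by
    obtain ⟨k, rfl⟩ : ∃ k, m = k + 1 := ⟨m - 1, by omega⟩
    have h3 : (w ^ (k + 1)) ^ 2 ≤ (2 * (k + 1)) ^ 2 * w := by
      calc (w ^ (k + 1)) ^ 2 ≤ (2 * (k + 1) * d) ^ 2 := Nat.pow_le_pow_left h1 2
        _ = (2 * (k + 1)) ^ 2 * d ^ 2 := by ring
        _ ≤ (2 * (k + 1)) ^ 2 * w := Nat.mul_le_mul_left _ h2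
    have h4 : w ^ (2 * k + 1) ≤ (2 * (k + 1)) ^ 2 := by
      have e1 : (w ^ (k + 1)) ^ 2 = w ^ (2 * k + 1) * w := by ring
      rw [e1] at h3
      exact Nat.le_of_mul_le_mul_right h3 (by omega)
    have h5 : 4 ^ (2 * k + 1) ≤ (2 * (k + 1)) ^ 2 := (Nat.pow_le_pow_left hw _).trans h4
    have h6 : (2 * 4 ^ k) ^ 2 ≤ (2 * (k + 1)) ^ 2 := by
      have e1 : (2 * 4 ^ k) ^ 2 = 4 ^ (2 * k + 1) := by
        rw [mul_pow, ← pow_mul, pow_succ]
        ring
      rw [e1]
      exact h5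
    have h7 : 2 * 4 ^ k ≤ 2 * (k + 1) := by
      by_contra hcon
      push Not at hcon
      exact absurd h6 (not_le.2 (Nat.pow_lt_pow_left hcon (by norm_num)))
    have h8 : ∀ k : ℕ, 3 * k + 1 ≤ 4 ^ k := by
      intro k
      induction k with
      | zero => norm_num
      | succ k ih => rw [pow_succ]; omega
    have h9 := h8 k
    omega
  refine ⟨hm1, ?_⟩
  subst hm1
  by_contra hcon
  push Not at hcon
  have h3 : d * d ≤ w := by rw [← pow_two]; exact h2
  rw [pow_one] at h1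
  nlinarith

/-- the fixed points of the semilinear element span the block -/
theorem eq_of_fix [CharP F 2] {i : ι} {a b b' : G} {φ : F ≃+* F} (ha : a ∈ A) (hm : Mv e X a i i φ)
    (hφ : φ ≠ RingEquiv.refl F) (hb : b ∈ h.Li i) (hb' : b' ∈ h.Li i)
    (H : ∀ v, h.ac i a v = v → h.ac i b v = h.ac i b' v) (v : N) : h.ac i b v = h.ac i b' v := by
  obtain ⟨c, hc⟩ : ∃ c, φ c ≠ c := by
    by_contra hcon
    push Not at hcon
    exact hφ (RingEquiv.ext hcon)
  have haS : a ∈ h.St i := ⟨ha, φ, hm⟩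
  have hbS := h.Li_le i hb
  have hbS' := h.Li_le i hb'
  have haa : ∀ v, h.ac i a (h.ac i a v) = v := fun v => by
    rw [← h.ac_mul haS haS, h.sq a ha, h.ac_one]
  have h1 : ∀ w, h.ac i b (w + h.ac i a w) = h.ac i b' (w + h.ac i a w) := fun w => H _ (by
    rw [h.ac_add haS, haa, add_comm])
  have h2 := h1 v
  have h3 := h1 (c • v)
  rw [h.ac_smul hm] at h3
  have e1 : (φ c + c) • v = φ c • (v + h.ac i a v) + (c • v + φ c • h.ac i a v) := by
    have h5 : φ c • h.ac i a v + φ c • h.ac i a v = 0 := by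
      rw [← add_smul, CharTwo.add_self_eq_zero, zero_smul]
    rw [add_smul, smul_add]
    calc φ c • v + c • v = φ c • v + c • v + (φ c • h.ac i a v + φ c • h.ac i a v) := by rw [h5, add_zero]
      _ = _ := by abel
  have h4 : h.ac i b ((φ c + c) • v) = h.ac i b' ((φ c + c) • v) := by
    rw [e1, h.ac_add hbS, h.ac_add hbS', h3, h.ac_smul hb.2, h.ac_smul hb'.2, h2]
  rw [h.ac_smul hb.2, h.ac_smul hb'.2] at h4
  have h6 : φ c + c ≠ 0 := fun h0 => hc (CharTwo.add_eq_zero.1 h0)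
  exact smul_right_injective N h6 h4

theorem two_mul_card_Li_le [Finite G] [Finite N] [Finite F] [CharP F 2] [Nontrivial N] {i : ι} {a : G}
    (haS : a ∈ h.St i) (haL : a ∉ h.Li i) (hd : Nat.card (h.Wf (h.St i) i) ≤ 2) :
    2 * Nat.card (h.Li i) ≤ Nat.card (h.Ke i) * Nat.card {v : N // h.ac i a v = v} := by
  classical
  obtain ⟨haA, φ, hm⟩ := id haS
  have hφ : φ ≠ RingEquiv.refl F := by
    rintro rfl
    exact haL ⟨haA, hm⟩
  have h2N : ∀ v : N, v + v = 0 := fun v => by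
    have h3 := Nat.cast_smul_eq_nsmul F 2 v
    rw [CharP.cast_eq_zero F 2, zero_smul, two_nsmul] at h3
    exact h3.symm
  have hz : ∀ b ∈ h.St i, h.ac i b 0 = 0 := fun b hb => h.zero_mem_Wf le_rfl b hb
  -- `N₀`
  let N0 : AddSubgroup N :=
    { carrier := {v | h.ac i a v = v}
      zero_mem' := hz a haS
      add_mem' := fun {u v} hu hv => by
        change h.ac i a (u + v) = u + v
        rw [h.ac_add haS, show h.ac i a u = u from hu, show h.ac i a v = v from hv]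
      neg_mem' := fun {u} hu => by
        have h3 : -u = u := neg_eq_of_add_eq_zero_left (h2N u)
        change h.ac i a (-u) = -u
        rw [h3]
        exact hu }
  have hN0 : ∀ v, v ∈ N0 ↔ h.ac i a v = v := fun v => Iff.rfl
  let _ : Module (ZMod 2) N0 := AddCommGroup.zmodModule (n := 2) fun v => Subtype.ext (by
    rw [two_nsmul]
    exact h2N v)
  have hst : ∀ b ∈ h.St i, ∀ v ∈ N0, h.ac i b v ∈ N0 := fun b hb v hv => by
    rw [hN0, h.ac_comm haS hb, (hN0 v).1 hv]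
  -- the fixed point `δ`
  obtain ⟨δ, hδ, hδ0⟩ := h.Wf_ne (i := i) (B := h.St i) le_rfl
  have hδN : δ ∈ N0 := hδ a haS
  have hW : ∀ v ∈ h.Wf (h.St i) i, v = 0 ∨ v = δ := by
    intro v hv
    by_contra hcon
    push Not at hcon
    have h3 : ({0, δ, v} : Set N) ⊆ h.Wf (h.St i) i := by
      rintro w (rfl | rfl | rfl)
      · exact h.zero_mem_Wf le_rfl
      · exact hδ
      · exact hv
    have h4 := Nat.card_mono (Set.toFinite _) h3
    have h5 : Nat.card ({0, δ, v} : Set N) = 3 := by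
      rw [Nat.card_coe_set_eq, Set.ncard_eq_toFinset_card', Set.toFinset_insert, Set.toFinset_insert,
        Set.toFinset_singleton, Finset.card_insert_of_notMem, Finset.card_pair (Ne.symm hcon.2)]
      simp only [Finset.mem_insert, Finset.mem_singleton, not_or]
      exact ⟨Ne.symm hδ0, Ne.symm hcon.1⟩
    omega
  obtain ⟨l, hl⟩ := NearFF.exists_fn_one (x := (⟨δ, hδN⟩ : N0)) fun h0 => hδ0 (congrArg Subtype.val h0)
  -- the functional of `b`
  let ψ : h.Li i → Transv.Du N0 := fun b =>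
    (AddMonoidHom.toZModLinearMap 2
      { toFun := fun v : N0 => l ⟨h.ac i b v, hst b (h.Li_le i b.2) v v.2⟩
        map_zero' := by
          have h3 : (⟨h.ac i b (0 : N0), hst b (h.Li_le i b.2) _ (0 : N0).2⟩ : N0) = 0 :=
            Subtype.ext (hz b (h.Li_le i b.2))
          rw [h3, map_zero]
        map_add' := fun u v => by
          rw [← map_add]
          congr 1
          exact Subtype.ext (h.ac_add (h.Li_le i b.2) u v) } : N0 →ₗ[ZMod 2] ZMod 2)
  have hψ : ∀ b v, ψ b v = l ⟨h.ac i b v, hst b (h.Li_le i b.2) v v.2⟩ := fun _ _ => rfl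
  have hψδ : ∀ b, ψ b ⟨δ, hδN⟩ = 1 := by
    intro b
    rw [hψ, ← hl]
    congr 1
    exact Subtype.ext (hδ b (h.Li_le i b.2))
  have hker : ∀ b c, ψ b = ψ c → (b : G)⁻¹ * c ∈ h.Ke i := by
    intro b c hbc
    have hbS := h.Li_le i b.2
    have hcS := h.Li_le i c.2
    have key : ∀ v, h.ac i a v = v → h.ac i b v = h.ac i c v := by
      by_contra hcon
      push Not at hcon
      obtain ⟨v, hv, hne⟩ := hcon
      let U : AddSubgroup N :=
        { carrier := {u | ∃ v ∈ N0, u = h.ac i b v + h.ac i c v}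
          zero_mem' := ⟨0, N0.zero_mem, by rw [hz b hbS, hz c hcS, add_zero]⟩
          add_mem' := by
            rintro _ _ ⟨v, hv, rfl⟩ ⟨w, hw, rfl⟩
            refine ⟨v + w, N0.add_mem hv hw, ?_⟩
            rw [h.ac_add hbS, h.ac_add hcS]
            abel
          neg_mem' := by
            intro u hu
            have h3 : -u = u := neg_eq_of_add_eq_zero_left (h2N u)
            rw [h3]
            exact hu }
      have hU : ∀ x ∈ h.St i, ∀ u ∈ U, h.ac i x u ∈ U := by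
        rintro x hx _ ⟨v, hv, rfl⟩
        refine ⟨h.ac i x v, hst x hx v hv, ?_⟩
        rw [h.ac_add hx, h.ac_comm hx hbS, h.ac_comm hx hcS]
      have hUne : U ≠ ⊥ := by
        intro h0
        have h3 : h.ac i b v + h.ac i c v ∈ U := ⟨v, hv, rfl⟩
        rw [h0, AddSubgroup.mem_bot] at h3
        apply hne
        rw [← sub_eq_zero, sub_eq_add_neg, neg_eq_of_add_eq_zero_left (h2N _)]
        exact h3
      obtain ⟨u, ⟨w, hw, hu⟩, hu0, huf⟩ := h.exists_fix le_rfl hU hUne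
      have h3 := (hW u huf).resolve_left hu0
      have h4 : l ⟨u, huf a haS⟩ = 0 := by
        have h5 : ψ b ⟨w, hw⟩ + ψ c ⟨w, hw⟩ = 0 := by
          rw [hbc]
          exact CharTwo.add_self_eq_zero _
        rw [hψ, hψ, ← map_add] at h5
        rw [← h5]
        congr 1
        exact Subtype.ext hu
      have h5 : (⟨u, huf a haS⟩ : N0) = ⟨δ, hδN⟩ := Subtype.ext h3
      rw [h5, hl] at h4
      exact one_ne_zero h4
    have key2 := h.eq_of_fix haA hm hφ b.2 c.2 key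
    refine ⟨A.mul_mem (A.inv_mem b.2.1) c.2.1, fun x hx => ?_⟩
    have hmem := mul_mem (inv_mem hbS) hcS
    rw [h.ac_e hmem hx, h.ac_mul (inv_mem hbS) hcS, ← key2, ← h.ac_mul (inv_mem hbS) hbS, inv_mul_cancel,
      h.ac_one]
  -- counting
  let χ : Transv.Du (Transv.Du N0) := LinearMap.applyₗ (⟨δ, hδN⟩ : N0)
  have hχ : ∀ u : Transv.Du N0, χ u = u ⟨δ, hδN⟩ := fun _ => rfl
  have hχ0 : χ ≠ 0 := by
    intro h0
    have h3 : χ l = 0 := by rw [h0]; rfl
    rw [hχ, hl] at h3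
    exact one_ne_zero h3
  have : Finite (Transv.Du N0) := Module.finite_of_finite (ZMod 2)
  have hcard := NearFF.card_hyper hχ0
  have hdual : Nat.card (Transv.Du N0) = Nat.card N0 := by
    rw [Module.natCard_eq_pow_finrank (K := ZMod 2), Module.natCard_eq_pow_finrank (K := ZMod 2) (V := N0),
      Subspace.dual_finrank_eq]
  have hsec : ∀ u : {u : Transv.Du N0 // χ u = 1}, ∃ b : h.Li i, (∃ c, ψ c = u) → ψ b = u := by
    intro u
    by_cases hu : ∃ c, ψ c = u
    · obtain ⟨c, hc⟩ := hu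
      exact ⟨c, fun _ => hc⟩
    · exact ⟨1, fun h0 => absurd h0 hu⟩
  choose sec hsec using hsec
  have hle : Nat.card (h.Li i) ≤ Nat.card (h.Ke i) * Nat.card {u : Transv.Du N0 // χ u = 1} := by
    rw [← Nat.card_prod]
    refine Nat.card_le_card_of_injective (fun b : h.Li i =>
      ((⟨((sec ⟨ψ b, hψδ b⟩ : h.Li i) : G)⁻¹ * b, hker _ _ (hsec ⟨ψ b, hψδ b⟩ ⟨b, rfl⟩)⟩ : h.Ke i),
        (⟨ψ b, hψδ b⟩ : {u : Transv.Du N0 // χ u = 1}))) ?_
    intro b c hbc
    have h3 : (⟨ψ b, hψδ b⟩ : {u : Transv.Du N0 // χ u = 1}) = ⟨ψ c, hψδ c⟩ := congrArg Prod.snd hbc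
    have h4 : ((sec ⟨ψ b, hψδ b⟩ : h.Li i) : G)⁻¹ * b = ((sec ⟨ψ c, hψδ c⟩ : h.Li i) : G)⁻¹ * c :=
      congrArg (fun t => ((t.1 : h.Ke i) : G)) hbc
    rw [h3] at h4
    exact Subtype.ext (mul_left_cancel h4)
  have hN0c : Nat.card {v : N // h.ac i a v = v} = Nat.card N0 := rfl
  rw [hN0c, ← hdual, ← hcard]
  calc 2 * Nat.card (h.Li i) ≤ 2 * (Nat.card (h.Ke i) * Nat.card {u : Transv.Du N0 // χ u = 1}) :=
        Nat.mul_le_mul_left _ hle
    _ = _ := by ring

/-- **LEMMA (3)** of #16817: `A` normalises every block and acts linearly on it. -/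
theorem linear [Finite G] [Finite N] [Finite F] [CharP F 2] (hF : 4 ≤ Nat.card F) (hN : 4 < Nat.card N) {a : G}
    (ha : a ∈ A) (i : ι) : Mv e X a i i (RingEquiv.refl F) := by
  have : Nontrivial N := Finite.one_lt_card_iff_nontrivial.1 (by omega)
  have hLpos : 0 < Nat.card (h.Li i) := Nat.card_pos
  have hm : 1 ≤ (h.St i).relIndex A := by
    have h1 := h.card_A i
    have h2 : 0 < Nat.card A := Nat.card_pos
    by_contra hcon
    have h3 : (h.St i).relIndex A = 0 := by omega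
    rw [h3, zero_mul] at h1
    omega
  have hW := h.card_Wf_ge (i := i) (B := h.Li i) le_rfl
  have hb := h.bound (i := i) (B := h.Li i) le_rfl
  by_cases hc : h.St i = h.Li i
  · -- no field automorphism
    have h1 : (h.St i).relIndex A = 1 := by
      refine arith1 (w := Nat.card (h.Wf (h.Li i) i)) hm (hF.trans hW) ?_
      have h2 := h.card_A i
      have h3 : Nat.card (h.St i) = Nat.card (h.Li i) := by rw [hc]
      have h4 : Nat.card (h.Wf (h.St i) i) = Nat.card (h.Wf (h.Li i) i) := by rw [hc]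
      rw [h2, h3, h4] at hb
      refine Nat.le_of_mul_le_mul_left ?_ hLpos
      calc _ ≤ _ := hb
        _ = _ := by ring
    have h2 : A ≤ h.St i := relIndex_eq_one.1 h1
    rw [hc] at h2
    exact (h2 ha).2
  · exfalso
    obtain ⟨a, haS, haL⟩ : ∃ a, a ∈ h.St i ∧ a ∉ h.Li i := by
      by_contra hcon
      push Not at hcon
      exact hc (le_antisymm hcon (h.Li_le i))
    obtain ⟨haA, φ, hmv⟩ := id haS
    have hφ : φ ≠ RingEquiv.refl F := by
      rintro rfl
      exact haL ⟨haA, hmv⟩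
    have hneg : ∀ v : N, -v = v := fun v => by
      have h3 := Nat.cast_smul_eq_nsmul F 2 v
      rw [CharP.cast_eq_zero F 2, zero_smul, two_nsmul] at h3
      exact neg_eq_of_add_eq_zero_left h3.symm
    have hD : ∀ v ∈ h.Wf (h.St i) i, h.ac i a v = v := fun v hv => hv a haS
    have hsq : Nat.card (h.Wf (h.St i) i) ^ 2 ≤ Nat.card (h.Wf (h.Li i) i) := by
      refine h.card_sq_le hmv hφ hD (fun u hu v hv => ?_) fun u hu v hv c => ?_
      · rw [sub_eq_add_neg, hneg]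
        exact h.Wf_add le_rfl hu hv
      · have hle : ∀ v ∈ h.Wf (h.St i) i, v ∈ h.Wf (h.Li i) i := fun v hv b hb => hv b (h.Li_le i hb)
        exact h.Wf_add (h.Li_le i) (hle u hu) (h.Wf_smul le_rfl (hle v hv) c)
    have hS2 := h.card_St_le i
    have hA := h.card_A i
    obtain ⟨h1, hd⟩ := arith2 (m := (h.St i).relIndex A) (w := Nat.card (h.Wf (h.Li i) i))
      (d := Nat.card (h.Wf (h.St i) i)) hm (hF.trans hW) (by
        refine Nat.le_of_mul_le_mul_left ?_ hLpos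
        refine hb.trans ?_
        rw [hA]
        calc (h.St i).relIndex A * Nat.card (h.St i) * Nat.card (h.Wf (h.St i) i)
            ≤ (h.St i).relIndex A * (2 * Nat.card (h.Li i)) * Nat.card (h.Wf (h.St i) i) :=
              Nat.mul_le_mul_right _ (Nat.mul_le_mul_left _ hS2)
          _ = _ := by ring) hsq
    -- the kernel
    have hk := h.bound (i := i) (B := h.Ke i) (h.Ke_le i)
    have hWk : Nat.card (h.Wf (h.Ke i) i) = Nat.card N := by
      have h3 : h.Wf (h.Ke i) i = Set.univ := by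
        rw [Set.eq_univ_iff_forall]
        intro v b hb
        have h4 := hb.2 _ (h.pk_mem i v)
        rw [h.e_pk] at h4
        exact h4
      rw [h3, Nat.card_univ]
    rw [hWk, h1, pow_one, hA, h1, one_mul] at hk
    have h2 := h.two_mul_card_Li_le haS haL hd
    have h0 : Nat.card {v : N // h.ac i a v = v} ^ 2 ≤ Nat.card N := by
      have h3 := h.card_sq_le (D := {v | h.ac i a v = v}) (U := Set.univ) hmv hφ (fun v hv => hv)
        (fun u hu v hv => by
          rw [Set.mem_ofPred_eq] at hu hv ⊢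
          rw [sub_eq_add_neg, hneg, h.ac_add haS, hu, hv]) fun _ _ _ _ _ => Set.mem_univ _
      rw [Nat.card_univ] at h3
      exact h3
    generalize hn0 : Nat.card {v : N // h.ac i a v = v} = n0 at h2 h0
    have hKpos : 0 < Nat.card (h.Ke i) := Nat.card_pos
    have h3 : Nat.card (h.Ke i) * Nat.card N ≤ Nat.card (h.Ke i) * (2 * n0) := by
      calc Nat.card (h.Ke i) * Nat.card N ≤ Nat.card (h.St i) * Nat.card (h.Wf (h.St i) i) := hk
        _ ≤ 2 * Nat.card (h.Li i) * 2 := Nat.mul_le_mul hS2 hd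
        _ ≤ Nat.card (h.Ke i) * n0 * 2 := Nat.mul_le_mul_right _ h2
        _ = _ := by ring
    have h4 : Nat.card N ≤ 2 * n0 := Nat.le_of_mul_le_mul_left h3 hKpos
    nlinarith

/-- **(4) END**: no `a ∈ A` fixes `p` and maps `x` to `x p` if `e x i ∈ F e p i` for all `i` and `e p ≠ 0`. -/
theorem false [Finite G] [Finite N] [Finite F] [CharP F 2] (hF : 4 ≤ Nat.card F) (hN : 4 < Nat.card N) {a p x : G}
    (ha : a ∈ A) (hp : p ∈ X) (hx : x ∈ X) (hap : a * p = p * a) (hax : a * x * a⁻¹ = x * p)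
    (hxp : ∀ i, ∃ c : F, e x i = c • e p i) (hp0 : e p ≠ 0) : False := by
  apply hp0
  funext i
  obtain ⟨s, hs, h1⟩ := h.linear hF hN ha i
  obtain ⟨c, hc⟩ := hxp i
  have h2 := h1 p hp
  rw [hap, mul_inv_cancel_right] at h2
  have h3 := h1 x hx
  rw [hax, h.mul x hx p hp, Pi.add_apply, hc, hs, ← h2] at h3
  have h4 : c • e p i + e p i = c • e p i + 0 := by rw [h3, add_zero]; rfl
  exact add_left_cancel h4

end Blk

end Cfsg.Agent.Omega.NO3S.Sym.FieldLin
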