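import Cfsg.Agent.Omega.NO3S.Sym.Pol

/-!
# NO-3S, `V_P` = even subsets of five letters: frames, `H_ab ≤ D_a`, and the action of `D_a` on `N_b`

`Fm p q` : `q` is conjugate to `p` (a labelled conjugate of `V`).  `Typ p r B` : all `(C_x, N_x)` are polar modules
(`Pol.PMod`) with centre `r x ∈ {x, 1}`.

* `Fm.adj`, `Fm.mul3`, `Fm.five`, `Fm.mem_D`, `Fm.mem_W`, `Fm.perm`, `Fm.conj`, `exists_frm`;
* `perp_le_D` : (G2) `a ~ b`, `x ∈ N_b`, `B_b(x, a) = 0` imply `x ∈ D_a`;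
* `D_on_N` : (G1) `[D_a, N_b] ≤ ⟨a r_b⟩`;
* `conj_line`: `u ∈ Om_a`, `x, y ∈ Om_u` collinear ... all triples `(a; x, y)` with `x ⊥ y` in `Om_a` are conjugate.
-/

set_option autoImplicit false

namespace Cfsg.Agent.Omega.NO3S.Sym.Frm

open Subgroup Cfsg Cfsg.Agent.ZN Cfsg.Agent.Omega.MinPar Cfsg.Agent.Omega.Frame Cfsg.Agent.Omega.FrameNOFF
open Cfsg.Agent.Omega.NO3S Cfsg.Agent.Omega.NTwo Cfsg.Agent.Omega.NO3S.Sym.Exit Cfsg.Agent.Omega.NO3S.Sym.Light
open Cfsg.Agent.Omega.NO3S.Sym.Graph Cfsg.Agent.Omega.NO3S.Sym.Pol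
open Cfsg.Agent.Omega.OM.KTwo (Tv zmod_two)
open Cfsg.Agent.MinSimple.VModule
open scoped Pointwise

universe u

variable {G : Type u} [Group G]

/-- frames: the conjugates of `p` -/
def Fm (p q : Fin 5 → G) : Prop := ∃ g : G, ∀ i, g * p i * g⁻¹ = q i

namespace Fm

theorem refl (p : Fin 5 → G) : Fm p p := ⟨1, fun i => by group⟩

theorem conj {p q : Fin 5 → G} (h : Fm p q) (g : G) : Fm p (fun i => g * q i * g⁻¹) := by
  obtain ⟨k, hk⟩ := h
  exact ⟨g * k, fun i => by rw [← cc, hk]⟩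

variable {S P : Subgroup G} {p q : Fin 5 → G} (h : Std S P p) (hq : Fm p q)
include h hq

theorem perm (σ : Equiv.Perm (Fin 5)) : Fm p (q ∘ σ) := by
  obtain ⟨k, hk⟩ := hq
  obtain ⟨g, -, hg⟩ := h.full σ
  exact ⟨k * g, fun i => by rw [← cc, hg, hk]; rfl⟩

/-- relabelling -/
theorem mk5 {i j k l m : Fin 5} (hn : ([i, j, k, l, m] : List (Fin 5)).Nodup) : Fm p ![q i, q j, q k, q l, q m] := by
  obtain ⟨σ, h0, h1, h2, h3, h4⟩ : ∃ σ : Equiv.Perm (Fin 5), σ 0 = i ∧ σ 1 = j ∧ σ 2 = k ∧ σ 3 = l ∧ σ 4 = m := by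
    revert i j k l m
    decide +kernel
  have h5 := perm h hq σ
  have e : q ∘ σ = ![q i, q j, q k, q l, q m] := by
    funext t
    fin_cases t <;> simp [h0, h1, h2, h3, h4]
  rwa [e] at h5

theorem pt {i j : Fin 5} (hij : i ≠ j) : IsPt p (q i * q j) := by
  obtain ⟨k, hk⟩ := hq
  have h1 := (pt_V h hij).conj k
  rwa [cm, hk, hk] at h1

theorem hv (i : Fin 5) : IsHv p (q i) := by
  obtain ⟨k, hk⟩ := hq
  have h1 := (hv_V h i).conj k
  rwa [hk] at h1

theorem adj {i j k l : Fin 5} (hn : ([i, j, k, l] : List (Fin 5)).Nodup) : Adj p (q i * q j) (q k * q l) := by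
  obtain ⟨c, hc⟩ := hq
  have h1 := (adj_V h hn).conj c
  rwa [cm, cm, hc, hc, hc, hc] at h1

theorem sq (i : Fin 5) : q i * q i = 1 := by
  obtain ⟨k, hk⟩ := hq
  rw [← hk, ← cm, h.sq]; group

theorem comm (i j : Fin 5) : q i * q j = q j * q i := by
  obtain ⟨k, hk⟩ := hq
  rw [← hk, ← hk, ← cm, ← cm, h.comm]

theorem five {i j k l m : Fin 5} (hn : ([i, j, k, l, m] : List (Fin 5)).Nodup) : q i * q j * (q k * q l) = q m := by
  obtain ⟨σ, h0, h1, h2, h3, h4⟩ : ∃ σ : Equiv.Perm (Fin 5), σ 0 = i ∧ σ 1 = j ∧ σ 2 = k ∧ σ 3 = l ∧ σ 4 = m := by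
    revert i j k l m
    decide +kernel
  obtain ⟨c, hc⟩ := hq
  have h5 := h.prod' σ
  rw [h0, h1, h2, h3, h4] at h5
  rw [← hc, ← hc, ← hc, ← hc, ← hc, ← cm, ← cm, ← cm, h5]

/-- `(ij)(ik) = jk` -/
theorem mul3 (i j k : Fin 5) : q i * q j * (q i * q k) = q j * q k := by
  rw [comm h hq i j, mul_assoc, ← mul_assoc (q i) (q i), sq h hq, one_mul]

theorem sq2 (i j : Fin 5) : q i * q j * (q i * q j) = 1 := by
  rw [mul3 h hq, sq h hq]

theorem comm2 (i j k l : Fin 5) : q i * q j * (q k * q l) = q k * q l * (q i * q j) := by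
  have c1 := comm h hq i k
  have c2 := comm h hq i l
  have c3 := comm h hq j k
  have c4 := comm h hq j l
  calc q i * q j * (q k * q l) = q i * (q j * q k) * q l := by group
    _ = q i * (q k * q j) * q l := by rw [c3]
    _ = (q i * q k) * (q j * q l) := by group
    _ = (q k * q i) * (q l * q j) := by rw [c1, c4]
    _ = q k * (q i * q l) * q j := by group
    _ = q k * (q l * q i) * q j := by rw [c2]
    _ = q k * q l * (q i * q j) := by group

theorem pair_ne {i j k l : Fin 5} (hij : i ≠ j) (hkl : k ≠ l) (hne : ¬ ((i = k ∧ j = l) ∨ (i = l ∧ j = k))) :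
    q i * q j ≠ q k * q l := by
  obtain ⟨c, hc⟩ := hq
  intro e
  rw [← hc, ← hc, ← hc, ← hc, ← cm, ← cm] at e
  exact hne (h.pair_inj hij hkl (conj_inj e))

theorem inj {i j : Fin 5} (e : q i = q j) : i = j := by
  obtain ⟨c, hc⟩ := hq
  rw [← hc, ← hc] at e
  exact h.inj (conj_inj e)

end Fm

/-- adjacent points in a frame -/
theorem exists_frm {p : Fin 5 → G} {a b : G} (h : Adj p a b) : ∃ q, Fm p q ∧ q 0 * q 1 = a ∧ q 2 * q 3 = b := by
  obtain ⟨g, h1, h2⟩ := h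
  refine ⟨fun i => g * p i * g⁻¹, ⟨g, fun i => rfl⟩, ?_, ?_⟩
  · change g * p 0 * g⁻¹ * (g * p 1 * g⁻¹) = a
    rw [← cm]; exact h1
  · change g * p 2 * g⁻¹ * (g * p 3 * g⁻¹) = b
    rw [← cm]; exact h2

/-- **All `(C_x, N_x)` are polar modules with centre `r x`.** -/
structure Typ (p : Fin 5 → G) (r : G → G) (B : G → G → G → ZMod 2) : Prop where
  mod : ∀ x, IsPt p x → PMod (centralizer ({x} : Set G)) (NN p x) (r x) {y | Adj p x y} (B x)
  eqv : ∀ g x, IsPt p x → ∀ u ∈ NN p x, ∀ v ∈ NN p x, B (g * x * g⁻¹) (g * u * g⁻¹) (g * v * g⁻¹) = B x u v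
  line : B (p 0 * p 1) (p 2 * p 3) (p 2 * p 4) = 0

/-! ### `FiveL` -/

section light

variable [Finite G] {S : Sylow 2 G} {P : Subgroup G} {p : Fin 5 → G}
variable (h : FiveL S P p)
include h

theorem Fm.mem_D {q : Fin 5 → G} (hq : Fm p q) {j k : Fin 5} (hjk : j ≠ k) (i : Fin 5) :
    q i ∈ JJ (zl (S : Subgroup G) P) (nn p) (q j * q k) := by
  obtain ⟨c, hc⟩ := hq
  have h1 : p i ∈ JJ (zl (S : Subgroup G) P) (nn p) (p j * p k) := V_le_D h hjk (h.p_mem i)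
  have h2 : c * p i * c⁻¹ ∈ MulAut.conj c • JJ (zl (S : Subgroup G) P) (nn p) (p j * p k) :=
    smul_mem_pointwise_smul _ _ _ h1
  rw [conj_JJ, cm, hc, hc, hc] at h2
  exact h2

theorem Fm.mem_W {q : Fin 5 → G} (hq : Fm p q) (j i : Fin 5) :
    q i ∈ JJ (zl (S : Subgroup G) P) (p 4) (q j) := by
  obtain ⟨c, hc⟩ := hq
  have h1 : p i ∈ JJ (zl (S : Subgroup G) P) (p 4) (p j) := V_le_W h j (h.p_mem i)
  have h2 : c * p i * c⁻¹ ∈ MulAut.conj c • JJ (zl (S : Subgroup G) P) (p 4) (p j) :=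
    smul_mem_pointwise_smul _ _ _ h1
  rw [conj_JJ, hc, hc] at h2
  exact h2

/-- `D_a` centralises `N_a` -/
theorem D_NN {a v x : G} (ha : IsPt p a) (hv : v ∈ JJ (zl (S : Subgroup G) P) (nn p) a) (hx : x ∈ NN p a) :
    v * x = x * v := D_comm h ha hv (NN_le_D h hx)

omit [Finite G] h in
theorem conj_eq_of_comm {v x : G} (hc : v * x = x * v) : v * x * v⁻¹ = x := comm_iff.2 hc

/-- `D_a ≤ C_b` for `a ~ b` -/
theorem D_fix {a b v : G} (hab : Adj p a b) (hv : v ∈ JJ (zl (S : Subgroup G) P) (nn p) a) : v * b * v⁻¹ = b :=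
  comm_iff.2 (D_NN h hab.pt hv hab.mem)

end light

/-! ### `Typ` -/

section typ

variable {S P : Subgroup G} {p : Fin 5 → G} {r : G → G} {B : G → G → G → ZMod 2}
variable (h : Std S P p) (T : Typ p r B)
include h T

theorem Typ.line' {q : Fin 5 → G} (hq : Fm p q) {i j k l m : Fin 5} (hn : ([i, j, k, l, m] : List (Fin 5)).Nodup) :
    B (q i * q j) (q k * q l) (q k * q m) = 0 := by
  obtain ⟨σ, h0, h1, h2, h3, h4⟩ : ∃ σ : Equiv.Perm (Fin 5), σ 0 = i ∧ σ 1 = j ∧ σ 2 = k ∧ σ 3 = l ∧ σ 4 = m := by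
    revert i j k l m
    decide +kernel
  obtain ⟨g, hg⟩ := Fm.perm h hq σ
  have e : ∀ i, q (σ i) = g * p i * g⁻¹ := fun i => (hg i).symm
  rw [← h0, ← h1, ← h2, ← h3, ← h4, e, e, e, e, e, ← cm, ← cm, ← cm, T.eqv]
  · exact T.line
  · exact pt_V h (by decide)
  · exact (adj_V h (by decide)).mem
  · exact (adj_V h (by decide)).mem

/-- points of `N_a` -/
theorem Typ.pt_mem (hr : ∀ x, r x = x ∨ r x = 1) {a x : G} (ha : IsPt p a) (hx : x ∈ NN p a)
    (hp : ∀ y, IsPt p y → ¬ IsHv p y) (hxp : IsPt p x) : x = a ∨ Adj p a x := by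
  rcases (T.mod a ha).sing x hx with h1 | h1 | h1 | h1
  · exact absurd h1 (hxp.ne_one h)
  · rcases hr a with h2 | h2
    · left; rw [h1, h2]
    · exact absurd (h1.trans h2) (hxp.ne_one h)
  · exact Or.inr h1
  · rcases hr a with h2 | h2
    · exfalso
      rw [h2] at h1
      have h3 : Adj p a (x * a) := h1
      have h4 := h3.hv h
      have e : a * (x * a) = x := by
        have h5 := h3.comm h
        rw [h5, mul_assoc, ha.sq h, mul_one]
      rw [e] at h4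
      exact hp x hxp h4
    · right
      rw [h2, mul_one] at h1
      exact h1

/-- heavy elements of `N_a` -/
theorem Typ.hv_mem (hr : ∀ x, r x = x ∨ r x = 1) {a x : G} (ha : IsPt p a) (hx : x ∈ NN p a)
    (hp : ∀ y, IsPt p y → ¬ IsHv p y) (hxh : IsHv p x) : Adj p a (x * a) ∧ r a = a := by
  rcases (T.mod a ha).sing x hx with h1 | h1 | h1 | h1
  · exact absurd h1 (hxh.ne_one h)
  · rcases hr a with h2 | h2
    · exfalso
      rw [h1, h2] at hxh
      exact hp a ha hxh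
    · exact absurd (h1.trans h2) (hxh.ne_one h)
  · exfalso
    exact hp x (Adj.pt' h h1) hxh
  · rcases hr a with h2 | h2
    · rw [h2] at h1
      exact ⟨h1, h2⟩
    · exfalso
      rw [h2, mul_one] at h1
      exact hp x (Adj.pt' h h1) hxh

/-- **all triples `(a; u, v)` with `u ≠ v` orthogonal in `Om_a` are conjugate** -/
theorem Typ.exists_frm {a u v : G} (hu : Adj p a u) (hv : Adj p a v) (hne : v ≠ u) (hB : B a u v = 0) :
    ∃ q, Fm p q ∧ q 0 * q 1 = a ∧ q 2 * q 3 = u ∧ q 2 * q 4 = v ∧ q 3 * q 4 = u * v := by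
  obtain ⟨q, hq, h1, h2⟩ := Frm.exists_frm hu
  have hA : Adj p a (q 2 * q 4) := h1 ▸ hq.adj h (by decide)
  have hl : B a u (q 2 * q 4) = 0 := by
    rw [← h1, ← h2]
    exact T.line' h hq (by decide)
  have hne' : q 2 * q 4 ≠ u := by
    rw [← h2]
    exact Fm.pair_ne h hq (by decide) (by decide) (by decide)
  obtain ⟨g, hg, hgu, hgv⟩ := (T.mod a hu.pt).tra (u₀ := u) (u := q 2 * q 4) (u' := v) hu hA hv hl hB hne' hne
  rw [mem_cent] at hg
  refine ⟨fun i => g * q i * g⁻¹, hq.conj g, ?_, ?_, ?_, ?_⟩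
  · change g * q 0 * g⁻¹ * (g * q 1 * g⁻¹) = a
    rw [← cm, h1, hg]
  · change g * q 2 * g⁻¹ * (g * q 3 * g⁻¹) = u
    rw [← cm, h2, hgu]
  · change g * q 2 * g⁻¹ * (g * q 4 * g⁻¹) = v
    rw [← cm, hgv]
  · change g * q 3 * g⁻¹ * (g * q 4 * g⁻¹) = u * v
    rw [← cm, ← Fm.mul3 h hq 2 3 4, cm, h2, hgu, hgv]

/-- one of the three points of a line is orthogonal to `u` -/
theorem Typ.perp3 {q : Fin 5 → G} (hq : Fm p q) {u : G} (hu : u ∈ NN p (q 0 * q 1)) :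
    B (q 0 * q 1) u (q 2 * q 3) = 0 ∨ B (q 0 * q 1) u (q 2 * q 4) = 0 ∨ B (q 0 * q 1) u (q 3 * q 4) = 0 := by
  have M := T.mod _ (hq.pt h (i := 0) (j := 1) (by decide))
  have m1 : q 2 * q 3 ∈ NN p (q 0 * q 1) := (hq.adj h (by decide)).mem
  have m2 : q 2 * q 4 ∈ NN p (q 0 * q 1) := (hq.adj h (by decide)).mem
  have h1 : B (q 0 * q 1) u (q 3 * q 4) = B (q 0 * q 1) u (q 2 * q 3) + B (q 0 * q 1) u (q 2 * q 4) := by
    rw [← Fm.mul3 h hq 2 3 4, M.B_mul' m1 m2 hu]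
  rcases zmod_two (B (q 0 * q 1) u (q 2 * q 3)) with h2 | h2
  · exact Or.inl h2
  rcases zmod_two (B (q 0 * q 1) u (q 2 * q 4)) with h3 | h3
  · exact Or.inr (Or.inl h3)
  right; right
  rw [h1, h2, h3]
  decide

/-- **the translate of the point `12`**: (S3) -/
theorem Typ.star (hR : ∀ x, r x = x) {E : G → Subgroup G} (hEc : ∀ g x e, e ∈ E x → g * e * g⁻¹ ∈ E (g * x * g⁻¹))
    (htr : ∀ x u u', Adj p x u → Adj p x u' → ∃ e ∈ E x, e * u * e⁻¹ = u')
    (hz : ∀ q, Fm p q → ∀ e ∈ E (q 0 * q 1), e * q 1 = q 1 * e)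
    {q : Fin 5 → G} (hq : Fm p q) {x : G} (hx : Adj p (q 0 * q 1) x) (hB : B (q 0 * q 1) x (q 2 * q 4) = 0)
    (hne : x ≠ q 2 * q 4) : q 0 * q 1 * x ∈ NN p (q 1 * q 3) := by
  have ha := hq.pt h (i := 0) (j := 1) (by decide)
  have M := T.mod _ ha
  have a1 : Adj p (q 0 * q 1) (q 2 * q 3) := hq.adj h (by decide)
  have a2 : Adj p (q 0 * q 1) (q 2 * q 4) := hq.adj h (by decide)
  have hl : B (q 0 * q 1) (q 2 * q 4) (q 2 * q 3) = 0 := T.line' h hq (by decide)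
  have hB' : B (q 0 * q 1) (q 2 * q 4) x = 0 := by rw [M.symm _ a2.mem _ hx.mem, hB]
  obtain ⟨g, hg, hg1, hg2⟩ := M.tra (u₀ := q 2 * q 4) (u := q 2 * q 3) (u' := x) a2 a1 hx hl hB'
    (Fm.pair_ne h hq (by decide) (by decide) (by decide)) hne
  rw [mem_cent] at hg
  -- `E_{35}` centralises `z_5 = 12.34`
  have hperm : Fm p ![q 2, q 4, q 0, q 1, q 3] := Fm.mk5 h hq (by decide)
  have hz' : ∀ e ∈ E (q 2 * q 4), e * q 4 = q 4 * e := fun e he => hz _ hperm e he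
  have e5 : q 0 * q 1 * (q 2 * q 3) = q 4 := Fm.five h hq (by decide)
  -- conjugate by `g`
  have hz2 : ∀ e ∈ E (q 2 * q 4), e * (q 0 * q 1 * x) = q 0 * q 1 * x * e := by
    intro e he
    have h1 : g⁻¹ * e * g ∈ E (q 2 * q 4) := by
      have h2 := hEc g⁻¹ _ e he
      have h3 : g⁻¹ * (q 2 * q 4) * g⁻¹⁻¹ = q 2 * q 4 := by
        calc g⁻¹ * (q 2 * q 4) * g⁻¹⁻¹ = g⁻¹ * (g * (q 2 * q 4) * g⁻¹) * g⁻¹⁻¹ := by rw [hg1]
          _ = q 2 * q 4 := by group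
      rwa [h3, inv_inv] at h2
    have h2 := hz' _ h1
    have h4 : g * q 4 * g⁻¹ = q 0 * q 1 * x := by rw [← e5, cm, hg, hg2]
    rw [← h4]
    calc e * (g * q 4 * g⁻¹) = g * ((g⁻¹ * e * g) * q 4) * g⁻¹ := by group
      _ = g * (q 4 * (g⁻¹ * e * g)) * g⁻¹ := by rw [h2]
      _ = g * q 4 * g⁻¹ * e := by group
  obtain ⟨e, he, he1⟩ := htr (q 2 * q 4) (q 0 * q 1) (q 1 * q 3) (hq.adj h (by decide)) (hq.adj h (by decide))
  have h1 := hz2 e he
  have h0 : q 0 * q 1 ∈ NN p (q 0 * q 1) := by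
    have := M.r_mem
    rwa [hR] at this
  have h2 := NN_conj (g := e) (mul_mem h0 hx.mem)
  rwa [he1, comm_iff.2 h1] at h2

end typ

/-! ### `FiveL` and `Typ` -/

section both

variable [Finite G] {S : Sylow 2 G} {P : Subgroup G} {p : Fin 5 → G} {r : G → G} {B : G → G → G → ZMod 2}
variable (h : FiveL S P p) (T : Typ p r B) (hr : ∀ x, r x = x ∨ r x = 1)
include h T hr

/-- **(G2)** `a^⊥ ∩ N_b ≤ D_a` for `a ~ b`. -/
theorem perp_le_D {a b x : G} (hab : Adj p a b) (hx : x ∈ NN p b) (hB : B b x a = 0) :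
    x ∈ JJ (zl (S : Subgroup G) P) (nn p) a := by
  have hba := hab.symm h.std
  have hb := hba.pt
  have M := T.mod b hb
  obtain ⟨q, hq, h1, h2⟩ := exists_frm hab
  have haD : a ∈ JJ (zl (S : Subgroup G) P) (nn p) a := by
    have h3 := mul_mem (hq.mem_D h (j := 0) (k := 1) (by decide) 0) (hq.mem_D h (j := 0) (k := 1) (by decide) 1)
    rwa [h1] at h3
  have hbD : b ∈ JJ (zl (S : Subgroup G) P) (nn p) a := NN_le_D h hab.mem
  refine M.perp_le hba.mem ?_ ?_ hx hB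
  · rcases hr b with h3 | h3
    · rw [h3]; exact hbD
    · rw [h3]; exact one_mem _
  · intro u hu hBu
    by_cases hua : u = a
    · rw [hua]; exact haD
    have hu' : Adj p b u := hu
    have h4 : Adj p b (q 0 * q 4) := h2 ▸ hq.adj h.std (by decide)
    have hl : B b a (q 0 * q 4) = 0 := by
      rw [← h1, ← h2]
      exact T.line' h.std hq (by decide)
    obtain ⟨g, hg, hga, hgu⟩ := M.tra (u₀ := a) (u := q 0 * q 4) (u' := u) hba h4 hu' hl
      (by rw [M.symm _ hba.mem _ hu'.mem, hBu]) (by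
        rw [← h1]
        exact Fm.pair_ne h.std hq (by decide) (by decide) (by decide)) hua
    have h5 : q 0 * q 4 ∈ JJ (zl (S : Subgroup G) P) (nn p) a := by
      have h3 := mul_mem (hq.mem_D h (j := 0) (k := 1) (by decide) 0) (hq.mem_D h (j := 0) (k := 1) (by decide) 4)
      rwa [h1] at h3
    rw [← hgu]
    exact JJ_conj hga h5

omit hr in
/-- an element of `C_b` trivial on `a^⊥ ∩ N_b` -/
theorem act_of_fix {a b v x : G} (hab : Adj p a b) (hv : v * b * v⁻¹ = b)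
    (hf : ∀ w ∈ NN p b, B b w a = 0 → v * w = w * v) (hx : x ∈ NN p b) :
    v * x * v⁻¹ = x ∨ v * x * v⁻¹ = x * (a * r b) := by
  have hba := hab.symm h.std
  exact (T.mod b hba.pt).eq_of_fix (u₀ := a) (g := v) hba (mem_cent.2 hv) (fun w hw h1 => comm_iff.2 (hf w hw h1)) hx

/-- **(G1)** `[D_a, N_b] ≤ ⟨a r_b⟩` for `a ~ b`. -/
theorem D_on_N {a b v x : G} (hab : Adj p a b) (hv : v ∈ JJ (zl (S : Subgroup G) P) (nn p) a) (hx : x ∈ NN p b) :
    v * x * v⁻¹ = x ∨ v * x * v⁻¹ = x * (a * r b) :=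
  act_of_fix h T hab (D_fix h hab hv) (fun _ hw h1 => D_comm h hab.pt hv (perp_le_D h T hr hab hw h1)) hx

/-- `H_{ba} ≤ W_{ab}` for `a ~ b` -/
theorem perp_le_W {a b x : G} (hab : Adj p a b) (hx : x ∈ NN p b) (hB : B b x a = 0) :
    x ∈ JJ (zl (S : Subgroup G) P) (p 4) (a * b) := by
  have hba := hab.symm h.std
  have hb := hba.pt
  have M := T.mod b hb
  obtain ⟨q, hq, h1, h2⟩ := exists_frm hab
  have hw : q 4 = a * b := by
    rw [← h1, ← h2]
    exact (Fm.five h.std hq (m := 4) (by decide)).symm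
  have hV : ∀ i, q i ∈ JJ (zl (S : Subgroup G) P) (p 4) (a * b) := fun i => hw ▸ hq.mem_W h 4 i
  refine M.perp_le hba.mem ?_ ?_ hx hB
  · rcases hr b with h3 | h3
    · rw [h3]
      have h4 := mul_mem (hV 2) (hV 3)
      rwa [h2] at h4
    · rw [h3]; exact one_mem _
  · intro u hu hBu
    by_cases hua : u = a
    · rw [hua]
      have h3 := mul_mem (hV 0) (hV 1)
      rwa [h1] at h3
    have hu' : Adj p b u := hu
    have h4 : Adj p b (q 0 * q 4) := h2 ▸ hq.adj h.std (by decide)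
    have hl : B b a (q 0 * q 4) = 0 := by
      rw [← h1, ← h2]
      exact T.line' h.std hq (by decide)
    obtain ⟨g, hg, hga, hgu⟩ := M.tra (u₀ := a) (u := q 0 * q 4) (u' := u) hba h4 hu' hl
      (by rw [M.symm _ hba.mem _ hu'.mem, hBu]) (by
        rw [← h1]
        exact Fm.pair_ne h.std hq (by decide) (by decide) (by decide)) hua
    rw [mem_cent] at hg
    rw [← hgu]
    exact JJ_conj (by rw [cm, hga, hg]) (mul_mem (hV _) (hV _))

end both

end Cfsg.Agent.Omega.NO3S.Sym.Frm
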