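import Cfsg.Agent.Omega.NO3S.Sym.Light
import Cfsg.Agent.MinSimple.CosetFam

/-!
# NO-3S, `V_P` = even subsets of five letters, light involutions not 2-central: the graph of light points

`IsPt p x` : `x` is conjugate to `n = nn p` (a point); `IsHv p x` : conjugate to `p 4` (heavy);
`Adj p x y` : `(x, y)` is conjugate to `(n, a)`; `NN p x = N_x = ⟨y : x ~ y⟩`;
`JJ V x₀ x = ⟨V^g : x₀^g = x⟩`: `JJ V (nn p) x = D_x` (`x` a point), `JJ V (p 4) w = W_w` (`w` heavy).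

* `D_comm`, `D_sq`, `D_le_o2`, `D_act` : `D_x` is elementary abelian, `D_x ≤ Q_x = O₂(C(x))`, `[D_x, Q_x] ≤ ⟨x⟩`;
* `NN_le_zc`, `NN_le_D` : `N_x ≤ Ω₁(Z(Q_x))`, `N_x ≤ D_x`;
* `W_comm` : `W_w` is abelian;
* `adj_V` : disjoint pairs are adjacent; `adj_hv` : `x ~ y` implies `x y` heavy; `not_both` : points are not heavy.
-/

set_option autoImplicit false

namespace Cfsg.Agent.Omega.NO3S.Sym.Graph

open Subgroup Cfsg Cfsg.Agent.ZN Cfsg.Agent.Omega.MinPar Cfsg.Agent.Omega.Frame Cfsg.Agent.Omega.FrameNOFF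
open Cfsg.Agent.Omega.NO3S Cfsg.Agent.Omega.NTwo Cfsg.Agent.Omega.NO3S.Sym.Exit Cfsg.Agent.Omega.NO3S.Sym.Light
open Cfsg.Agent.MinSimple.VModule
open scoped Pointwise

universe u

section general

variable {G : Type u} [Group G]

/-- `⟨V^g : x₀^g = x⟩` -/
def JJ (V : Subgroup G) (x₀ x : G) : Subgroup G := ⨆ g : {g : G // g * x₀ * g⁻¹ = x}, MulAut.conj (g : G) • V

variable {V : Subgroup G} {x₀ x : G}

theorem conj_le_JJ {g : G} (hg : g * x₀ * g⁻¹ = x) : MulAut.conj g • V ≤ JJ V x₀ x :=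
  le_iSup (fun g : {g : G // g * x₀ * g⁻¹ = x} => MulAut.conj (g : G) • V) ⟨g, hg⟩

theorem JJ_le {A : Subgroup G} (h : ∀ g : G, g * x₀ * g⁻¹ = x → MulAut.conj g • V ≤ A) : JJ V x₀ x ≤ A :=
  iSup_le fun g => h g g.2

/-- `J_x` = conjugate of `⟨V^{C(x₀)}⟩` -/
theorem JJ_eq {g : G} (hg : g * x₀ * g⁻¹ = x) : JJ V x₀ x = MulAut.conj g • DD V x₀ := by
  apply le_antisymm
  · refine JJ_le fun k hk => ?_
    have h1 : k = g * (g⁻¹ * k) := by group
    rw [h1, ← NoFF.Basic.conj_conj]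
    refine NoFF.Basic.conj_le_iff.2 (conj_le_DD ?_)
    calc g⁻¹ * k * x₀ * (g⁻¹ * k)⁻¹ = g⁻¹ * (k * x₀ * k⁻¹) * g := by group
      _ = g⁻¹ * (g * x₀ * g⁻¹) * g := by rw [hk, hg]
      _ = x₀ := by group
  · have h1 : DD V x₀ ≤ MulAut.conj g⁻¹ • JJ V x₀ x := by
      refine DD_le fun c hc => ?_
      have h2 : MulAut.conj (g * c) • V ≤ JJ V x₀ x := by
        refine conj_le_JJ ?_
        rw [← cc, hc, hg]
      have h3 := NoFF.Basic.conj_le_iff (g := g⁻¹) |>.2 h2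
      rwa [NoFF.Basic.conj_conj, inv_mul_cancel_left] at h3
    have h2 := NoFF.Basic.conj_le_iff (g := g) |>.2 h1
    rwa [NoFF.Basic.conj_conj, mul_inv_cancel, map_one, one_smul] at h2

theorem JJ_base : JJ V x₀ x₀ = DD V x₀ := by
  rw [JJ_eq (V := V) (g := 1) (by group), map_one, one_smul]

theorem conj_JJ (g : G) : MulAut.conj g • JJ V x₀ x = JJ V x₀ (g * x * g⁻¹) := by
  have key : ∀ (g x : G), MulAut.conj g • JJ V x₀ x ≤ JJ V x₀ (g * x * g⁻¹) := by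
    intro g x
    rw [Subgroup.pointwise_smul_subset_iff]
    refine JJ_le fun c hc => ?_
    rw [← Subgroup.pointwise_smul_subset_iff, NoFF.Basic.conj_conj]
    refine conj_le_JJ ?_
    rw [← cc, hc]
  apply le_antisymm (key g x)
  have h1 := key g⁻¹ (g * x * g⁻¹)
  have h2 : g⁻¹ * (g * x * g⁻¹) * g⁻¹⁻¹ = x := by group
  rw [h2] at h1
  have h3 := NoFF.Basic.conj_le_iff (g := g) |>.2 h1
  rwa [NoFF.Basic.conj_conj, mul_inv_cancel, map_one, one_smul] at h3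

theorem JJ_conj {g v : G} (hg : g * x * g⁻¹ = x) (hv : v ∈ JJ V x₀ x) : g * v * g⁻¹ ∈ JJ V x₀ x := by
  have h1 : MulAut.conj g • JJ V x₀ x = JJ V x₀ x := by rw [conj_JJ, hg]
  rw [← h1]
  exact smul_mem_pointwise_smul _ _ _ hv

end general

section adj

variable {G : Type u} [Group G] {p : Fin 5 → G}

/-- points = light involutions: the conjugates of `n` -/
def IsPt (p : Fin 5 → G) (x : G) : Prop := ∃ g : G, g * nn p * g⁻¹ = x

/-- heavy involutions: the conjugates of `z = p 4` -/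
def IsHv (p : Fin 5 → G) (x : G) : Prop := ∃ g : G, g * p 4 * g⁻¹ = x

/-- adjacency of points -/
def Adj (p : Fin 5 → G) (x y : G) : Prop := ∃ g : G, g * nn p * g⁻¹ = x ∧ g * aa p * g⁻¹ = y

/-- `N_x = ⟨y : x ~ y⟩` -/
def NN (p : Fin 5 → G) (x : G) : Subgroup G := closure {y | Adj p x y}

theorem IsPt.conj {x : G} (h : IsPt p x) (g : G) : IsPt p (g * x * g⁻¹) := by
  obtain ⟨k, rfl⟩ := h
  exact ⟨g * k, by rw [cc]⟩

theorem IsHv.conj {x : G} (h : IsHv p x) (g : G) : IsHv p (g * x * g⁻¹) := by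
  obtain ⟨k, rfl⟩ := h
  exact ⟨g * k, by rw [cc]⟩

theorem Adj.conj {x y : G} (h : Adj p x y) (g : G) : Adj p (g * x * g⁻¹) (g * y * g⁻¹) := by
  obtain ⟨k, rfl, rfl⟩ := h
  exact ⟨g * k, by rw [cc], by rw [cc]⟩

theorem Adj.pt {x y : G} (h : Adj p x y) : IsPt p x := by
  obtain ⟨k, rfl, rfl⟩ := h
  exact ⟨k, rfl⟩

theorem Adj.mem {x y : G} (h : Adj p x y) : y ∈ NN p x := subset_closure h

theorem adj_base : Adj p (nn p) (aa p) := ⟨1, by group, by group⟩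

theorem pt_base : IsPt p (nn p) := ⟨1, by group⟩

theorem hv_base : IsHv p (p 4) := ⟨1, by group⟩

theorem NN_le {x : G} {A : Subgroup G} (h : ∀ y, Adj p x y → y ∈ A) : NN p x ≤ A := (closure_le _).2 h

theorem NN_conj {g x v : G} (hv : v ∈ NN p x) : g * v * g⁻¹ ∈ NN p (g * x * g⁻¹) := by
  induction hv using closure_induction with
  | mem y hy => exact (Adj.conj hy g).mem
  | one => rw [mul_one, mul_inv_cancel]; exact one_mem _
  | mul y z hy hz ihy ihz => rw [cm]; exact mul_mem ihy ihz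
  | inv y hy ih =>
    have e : g * y⁻¹ * g⁻¹ = (g * y * g⁻¹)⁻¹ := by group
    rw [e]
    exact inv_mem ih

theorem NN_conj' {g x v : G} (hg : g * x * g⁻¹ = x) (hv : v ∈ NN p x) : g * v * g⁻¹ ∈ NN p x := by
  have h1 := NN_conj (g := g) hv
  rwa [hg] at h1

theorem conj_NN (g x : G) : MulAut.conj g • NN p x = NN p (g * x * g⁻¹) := by
  apply le_antisymm
  · intro v hv
    rw [NoFF.Basic.mem_conj] at hv
    have h1 := NN_conj (g := g) hv
    have e : g * (g⁻¹ * v * g) * g⁻¹ = v := by group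
    rwa [e] at h1
  · intro v hv
    rw [NoFF.Basic.mem_conj]
    have h1 := NN_conj (g := g⁻¹) hv
    have e : g⁻¹ * (g * x * g⁻¹) * g⁻¹⁻¹ = x := by group
    rw [e] at h1
    rwa [inv_inv] at h1

/-- `C_x` normalises `N_x`. -/
theorem cent_le_normalizer_NN {x : G} : centralizer ({x} : Set G) ≤ normalizer (NN p x : Set G) := by
  intro c hc
  rw [mem_cent] at hc
  rw [mem_normalizer_iff]
  refine fun v => ⟨NN_conj' hc, fun hv => ?_⟩
  have hc' : c⁻¹ * x * c⁻¹⁻¹ = x := by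
    calc c⁻¹ * x * c⁻¹⁻¹ = c⁻¹ * (c * x * c⁻¹) * c⁻¹⁻¹ := by rw [hc]
      _ = x := by group
  have h1 := NN_conj' hc' hv
  have e : c⁻¹ * (c * v * c⁻¹) * c⁻¹⁻¹ = v := by group
  rwa [e] at h1

end adj

/-! ### The geometry inside `V` -/

section five

variable {G : Type u} [Group G] {S P : Subgroup G} {p : Fin 5 → G}

section std

variable (h : Std S P p)
include h

theorem Adj.symm {x y : G} (ha : Adj p x y) : Adj p y x := by
  obtain ⟨τ, hτ, h1⟩ := h.tau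
  have h2 := h.s_eq_conj hτ h1
  obtain ⟨g, rfl, rfl⟩ := ha
  exact ⟨g * τ, by rw [← cc, h1], by rw [← cc, h2]⟩

theorem Adj.pt' {x y : G} (ha : Adj p x y) : IsPt p y := (Adj.symm h ha).pt

theorem Adj.comm {x y : G} (ha : Adj p x y) : x * y = y * x := by
  obtain ⟨g, rfl, rfl⟩ := ha
  rw [← cm, ← cm, h.na, h.an]

theorem Adj.hv {x y : G} (ha : Adj p x y) : IsHv p (x * y) := by
  obtain ⟨g, rfl, rfl⟩ := ha
  exact ⟨g, by rw [← cm, h.na]⟩

theorem Adj.ne {x y : G} (ha : Adj p x y) : x ≠ y := by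
  obtain ⟨g, rfl, rfl⟩ := ha
  exact fun e => h.n_ne_a (conj_inj e)

theorem IsPt.sq {x : G} (hx : IsPt p x) : x * x = 1 := by
  obtain ⟨g, rfl⟩ := hx
  rw [← cm, h.nsq]; group

theorem IsPt.ne_one {x : G} (hx : IsPt p x) : x ≠ 1 := by
  obtain ⟨g, rfl⟩ := hx
  intro e
  apply h.n_ne_one
  calc nn p = g⁻¹ * (g * nn p * g⁻¹) * g := by group
    _ = 1 := by rw [e]; group

theorem IsHv.sq {x : G} (hx : IsHv p x) : x * x = 1 := by
  obtain ⟨g, rfl⟩ := hx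
  rw [← cm, h.sq]; group

theorem IsHv.ne_one {x : G} (hx : IsHv p x) : x ≠ 1 := by
  obtain ⟨g, rfl⟩ := hx
  intro e
  apply h.ne 4
  calc p 4 = g⁻¹ * (g * p 4 * g⁻¹) * g := by group
    _ = 1 := by rw [e]; group

theorem pt_V {i j : Fin 5} (hij : i ≠ j) : IsPt p (p i * p j) := by
  obtain ⟨σ, h0, h1⟩ : ∃ σ : Equiv.Perm (Fin 5), σ 0 = i ∧ σ 1 = j := by
    revert i j
    decide +kernel
  obtain ⟨g, -, hg⟩ := h.full σ
  exact ⟨g, by rw [nn, cm, hg, hg, h0, h1]⟩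

theorem hv_V (i : Fin 5) : IsHv p (p i) := by
  obtain ⟨g, -, hg⟩ := h.full (Equiv.swap 4 i)
  exact ⟨g, by rw [hg, Equiv.swap_apply_left]⟩

/-- **Disjoint pairs are adjacent.** -/
theorem adj_V {i j k l : Fin 5} (hn : ([i, j, k, l] : List (Fin 5)).Nodup) : Adj p (p i * p j) (p k * p l) := by
  obtain ⟨σ, h0, h1, h2, h3⟩ : ∃ σ : Equiv.Perm (Fin 5), σ 0 = i ∧ σ 1 = j ∧ σ 2 = k ∧ σ 3 = l := by
    revert i j k l
    decide +kernel
  obtain ⟨g, -, hg⟩ := h.full σ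
  exact ⟨g, by rw [nn, cm, hg, hg, h0, h1], by rw [aa, cm, hg, hg, h2, h3]⟩

end std

end five

/-! ### The light case -/

section light

variable {G : Type u} [Group G] [Finite G] {S : Sylow 2 G} {P : Subgroup G} {p : Fin 5 → G}
variable (h : FiveL S P p)
include h

/-- points are not heavy -/
theorem not_both {x : G} (h1 : IsPt p x) (h2 : IsHv p x) : False := by
  obtain ⟨g, rfl⟩ := h1
  obtain ⟨k, hk⟩ := h2
  refine h.not_conj (g⁻¹ * k) ?_
  calc g⁻¹ * k * p 4 * (g⁻¹ * k)⁻¹ = g⁻¹ * (k * p 4 * k⁻¹) * g := by group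
    _ = nn p := by rw [hk]; group

/-- two points with product a point are not adjacent -/
theorem not_adj {x y : G} (h1 : IsPt p (x * y)) : ¬ Adj p x y := fun h2 => not_both h h1 (h2.hv h.std)

omit [Finite G] h in
theorem D_eq (S : Sylow 2 G) (P : Subgroup G) {x g : G} (hg : g * nn p * g⁻¹ = x) :
    JJ (zl (S : Subgroup G) P) (nn p) x = MulAut.conj g • DD (zl (S : Subgroup G) P) (nn p) := JJ_eq hg

omit [Finite G] h in
theorem cent_eq {x g : G} (hg : g * nn p * g⁻¹ = x) :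
    centralizer ({x} : Set G) = MulAut.conj g • centralizer ({nn p} : Set G) := by
  ext c
  rw [NoFF.Basic.mem_conj, mem_cent, mem_cent, ← hg]
  constructor
  · intro e
    calc g⁻¹ * c * g * nn p * (g⁻¹ * c * g)⁻¹ = g⁻¹ * (c * (g * nn p * g⁻¹) * c⁻¹) * g := by group
      _ = nn p := by rw [e]; group
  · intro e
    calc c * (g * nn p * g⁻¹) * c⁻¹ = g * (g⁻¹ * c * g * nn p * (g⁻¹ * c * g)⁻¹) * g⁻¹ := by group
      _ = g * nn p * g⁻¹ := by rw [e]

omit [Finite G] h in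
theorem o2_eq {x g : G} (hg : g * nn p * g⁻¹ = x) :
    o2 (centralizer ({x} : Set G)) = MulAut.conj g • o2 (centralizer ({nn p} : Set G)) := by
  rw [cent_eq hg, MinSimple.CosetFam.o2_conj]

/-- **`D_x` is abelian.** -/
theorem D_comm {x a b : G} (hx : IsPt p x) (ha : a ∈ JJ (zl (S : Subgroup G) P) (nn p) x)
    (hb : b ∈ JJ (zl (S : Subgroup G) P) (nn p) x) : a * b = b * a := by
  obtain ⟨g, hg⟩ := hx
  rw [D_eq S P hg] at ha hb
  have h1 := NoFF.Basic.conj_le_centralizer (g := g) h.DD_comm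
  exact (mem_centralizer_iff.1 (h1 ha) b hb).symm

theorem D_sq {x a : G} (hx : IsPt p x) (ha : a ∈ JJ (zl (S : Subgroup G) P) (nn p) x) : a * a = 1 := by
  obtain ⟨g, hg⟩ := hx
  rw [D_eq S P hg, NoFF.Basic.mem_conj] at ha
  have h1 := h.DD_sq _ ha
  calc a * a = g * ((g⁻¹ * a * g) ^ 2) * g⁻¹ := by rw [sq]; group
    _ = 1 := by rw [h1]; group

theorem D_le_o2 {x : G} (hx : IsPt p x) :
    JJ (zl (S : Subgroup G) P) (nn p) x ≤ o2 (centralizer ({x} : Set G)) := by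
  obtain ⟨g, hg⟩ := hx
  rw [D_eq S P hg, o2_eq hg]
  exact NoFF.Basic.conj_le_iff.2 h.DD_le_o2

/-- **`[D_x, O₂(C(x))] ≤ ⟨x⟩`.** -/
theorem D_act {x q v : G} (hx : IsPt p x) (hq : q ∈ o2 (centralizer ({x} : Set G)))
    (hv : v ∈ JJ (zl (S : Subgroup G) P) (nn p) x) : q * v * q⁻¹ = v ∨ q * v * q⁻¹ = x * v := by
  obtain ⟨g, hg⟩ := hx
  rw [D_eq S P hg, NoFF.Basic.mem_conj] at hv
  rw [o2_eq hg, NoFF.Basic.mem_conj] at hq
  rcases h.DD_act hq hv with h1 | h1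
  · left
    calc q * v * q⁻¹ = g * (g⁻¹ * q * g * (g⁻¹ * v * g) * (g⁻¹ * q * g)⁻¹) * g⁻¹ := by group
      _ = v := by rw [h1]; group
  · right
    calc q * v * q⁻¹ = g * (g⁻¹ * q * g * (g⁻¹ * v * g) * (g⁻¹ * q * g)⁻¹) * g⁻¹ := by group
      _ = (g * nn p * g⁻¹) * v := by rw [h1]; group
      _ = x * v := by rw [hg]

/-- **`N_x ≤ Ω₁(Z(O₂(C(x))))`** -/
theorem NN_le_zc {x : G} (hx : IsPt p x) : NN p x ≤ zc (o2 (centralizer ({x} : Set G))) := by
  obtain ⟨g, hg⟩ := hx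
  have h1 : NN p (nn p) ≤ zl (Std.T (S : Subgroup G) p) (centralizer ({nn p} : Set G)) := by
    refine NN_le fun y hy => ?_
    obtain ⟨k, hk, rfl⟩ := hy
    have ha : aa p ∈ zc (Std.T (S : Subgroup G) p) := h.std.mem_zcT.2 (Or.inr (Or.inr (Or.inl rfl)))
    exact (mem_normalizer_iff.1 (le_normalizer_zl _ _ (mem_cent.2 hk)) _).1 (zc_le_zl _ _ ha)
  have h2 := NoFF.Basic.conj_le_iff (g := g) |>.2 (h1.trans h.XX_le_zc)
  rw [conj_NN, hg, ← MinSimple.CosetFam.zc_conj, ← o2_eq hg] at h2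
  exact h2

/-- **`N_x ≤ D_x`** -/
theorem NN_le_D {x : G} : NN p x ≤ JJ (zl (S : Subgroup G) P) (nn p) x := by
  refine NN_le fun y hy => ?_
  obtain ⟨k, hk, rfl⟩ := hy
  refine conj_le_JJ hk ?_
  exact smul_mem_pointwise_smul _ _ _ h.a_mem

theorem NN_comm {x a b : G} (hx : IsPt p x) (ha : a ∈ NN p x) (hb : b ∈ NN p x) : a * b = b * a :=
  D_comm h hx (NN_le_D h ha) (NN_le_D h hb)

theorem NN_sq {x a : G} (hx : IsPt p x) (ha : a ∈ NN p x) : a * a = 1 := D_sq h hx (NN_le_D h ha)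

/-- `O₂(C(x))` centralises `N_x`. -/
theorem NN_o2 {x a q : G} (hx : IsPt p x) (ha : a ∈ NN p x) (hq : q ∈ o2 (centralizer ({x} : Set G))) :
    q * a = a * q := (mem_zc.1 (NN_le_zc h hx ha)).2.1 q hq

/-- **`W_w` is abelian**, `w` heavy. -/
theorem W_comm {w a b : G} (hw : IsHv p w) (ha : a ∈ JJ (zl (S : Subgroup G) P) (p 4) w)
    (hb : b ∈ JJ (zl (S : Subgroup G) P) (p 4) w) : a * b = b * a := by
  obtain ⟨g, hg⟩ := hw
  have h0 : DD (zl (S : Subgroup G) P) (p 4) ≤ centralizer (DD (zl (S : Subgroup G) P) (p 4) : Set G) :=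
    NoFF.Basic.comm_mono h.W_comm h.W_le_CC h.W_le_CC
  rw [JJ_eq hg] at ha hb
  have h1 := NoFF.Basic.conj_le_centralizer (g := g) h0
  exact (mem_centralizer_iff.1 (h1 ha) b hb).symm

/-- `V ≤ D_x` for `x ∈ V` a point -/
theorem V_le_D {i j : Fin 5} (hij : i ≠ j) :
    zl (S : Subgroup G) P ≤ JJ (zl (S : Subgroup G) P) (nn p) (p i * p j) := by
  obtain ⟨g, hg, h1⟩ := h.lights hij
  have h2 := conj_le_JJ (V := zl (S : Subgroup G) P) h1
  rwa [conj_V hg] at h2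

theorem V_le_W (i : Fin 5) : zl (S : Subgroup G) P ≤ JJ (zl (S : Subgroup G) P) (p 4) (p i) := by
  obtain ⟨g, hg, h1⟩ := h.heavy i
  have h2 := conj_le_JJ (V := zl (S : Subgroup G) P) h1
  rwa [conj_V hg] at h2

end light

end Cfsg.Agent.Omega.NO3S.Sym.Graph
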