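import Cfsg.Agent.Omega.NO3S.Sym.Frm

/-!
# NO-3S, `V_P` = even subsets of five letters, case (II.B): `[N_12, N_34] ≠ 1` is impossible for polar modules

Labels `1, .., 5` are the indices `0, .., 4`; `ij = q i * q j`, `z_i = q i`.

* `comm_all` : `x ∈ N_a`, `y ∈ N_b`, `B_a(x, b) = B_b(y, a) = 1`, `[x, y] = 1` imply `[N_a, N_b] = 1`;
* `false_nr` : type (NR), `false_r` : type (R).
-/

set_option autoImplicit false

namespace Cfsg.Agent.Omega.NO3S.Sym.IIB

open Subgroup Cfsg Cfsg.Agent.ZN Cfsg.Agent.Omega.MinPar Cfsg.Agent.Omega.Frame Cfsg.Agent.Omega.FrameNOFF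
open Cfsg.Agent.Omega.NO3S Cfsg.Agent.Omega.NTwo Cfsg.Agent.Omega.NO3S.Sym.Exit Cfsg.Agent.Omega.NO3S.Sym.Light
open Cfsg.Agent.Omega.NO3S.Sym.Graph Cfsg.Agent.Omega.NO3S.Sym.Pol Cfsg.Agent.Omega.NO3S.Sym.Frm
open Cfsg.Agent.Omega.OM.KTwo (Tv zmod_two)
open Cfsg.Agent.MinSimple.VModule
open scoped Pointwise

universe u

variable {G : Type u} [Group G] [Finite G] {S : Sylow 2 G} {P : Subgroup G} {p : Fin 5 → G}
variable {r : G → G} {B : G → G → G → ZMod 2}

omit [Finite G] in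
/-- the element `x` centralises `N_b` -/
theorem comm_one (T : Typ p r B) {b c x y : G}
    (hcb : Adj p b c) (hfix : ∀ w ∈ NN p b, B b w c = 0 → x * w = w * x) (hy : y ∈ NN p b) (hB : B b y c = 1)
    (hxy : x * y = y * x) : ∀ w ∈ NN p b, x * w = w * x := by
  have M := T.mod b hcb.pt
  intro w hw
  rcases zmod_two (B b w c) with h1 | h1
  · exact hfix w hw h1
  have h2 : x * (w * y) = w * y * x := hfix _ (mul_mem hw hy) (by
    rw [M.B_mul _ hw _ hy _ hcb.mem, h1, hB]; decide)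
  have e : w = w * y * y⁻¹ := by group
  have h3 : x * y⁻¹ = y⁻¹ * x := by
    calc x * y⁻¹ = y⁻¹ * (y * x) * y⁻¹ := by group
      _ = y⁻¹ * (x * y) * y⁻¹ := by rw [hxy]
      _ = y⁻¹ * x := by group
  rw [e]
  calc x * (w * y * y⁻¹) = x * (w * y) * y⁻¹ := by group
    _ = w * y * (x * y⁻¹) := by rw [h2]; group
    _ = w * y * y⁻¹ * x := by rw [h3]; group

/-- one noncommuting pair decides -/
theorem comm_all (h : FiveL S P p) (T : Typ p r B) (hr : ∀ x, r x = x ∨ r x = 1) {a b x y : G} (hab : Adj p a b)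
    (hx : x ∈ NN p a) (hy : y ∈ NN p b) (hBx : B a x b = 1) (hBy : B b y a = 1) (hxy : x * y = y * x) :
    ∀ v ∈ NN p a, ∀ w ∈ NN p b, v * w = w * v := by
  have hba := hab.symm h.std
  have h1 : ∀ w ∈ NN p b, x * w = w * x :=
    comm_one T hba (fun w hw hB => D_comm h hab.pt (NN_le_D h hx) (perp_le_D h T hr hab hw hB)) hy hBy hxy
  intro v hv w hw
  exact (comm_one T hab (fun v hv hB => D_comm h hba.pt (NN_le_D h hw) (perp_le_D h T hr hba hv hB)) hx hBx
    (h1 w hw).symm v hv).symm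

/-- **(II.B), type (NR)** -/
theorem comm_nr (h : FiveL S P p) (T : Typ p r B) (hN : ∀ x, r x = 1) {a b : G} (hab : Adj p a b) :
    ∀ v ∈ NN p a, ∀ w ∈ NN p b, v * w = w * v := by
  have hba := hab.symm h.std
  intro v hv w hw
  by_contra hne
  have hr : ∀ x, r x = x ∨ r x = 1 := fun x => Or.inr (hN x)
  have h1 := (D_on_N h T hr hab (NN_le_D h hv) hw).resolve_left fun e => hne (comm_iff.1 e)
  have h2 := (D_on_N h T hr hba (NN_le_D h hw) hv).resolve_left fun e => hne (comm_iff.1 e).symm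
  rw [hN, mul_one] at h1 h2
  have c1 : a * w = w * a := NN_comm h hba.pt hba.mem hw
  have c2 : b * v = v * b := NN_comm h hab.pt hab.mem hv
  have e1 : v * w * v⁻¹ * w⁻¹ = a := by rw [h1, ← c1]; group
  have e2 : w * v * w⁻¹ * v⁻¹ = b := by rw [h2, ← c2]; group
  have e3 : a * b = 1 := by rw [← e1, ← e2]; group
  refine hab.ne h.std ?_
  calc a = a * b * b := by rw [mul_assoc, (hab.pt' h.std).sq h.std, mul_one]
    _ = b := by rw [e3, one_mul]


/-- points are not heavy -/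
theorem hp (h : FiveL S P p) (y : G) (hy : IsPt p y) : ¬ IsHv p y := fun h1 => not_both h hy h1

/-- (R), STEP 1, half: `[N_{01}, N_{04}] ≤ ⟨23 · 04⟩` -/
theorem col_half (h : FiveL S P p) (T : Typ p r B) (hR : ∀ x, r x = x) {q : Fin 5 → G} (hq : Fm p q) {x y : G}
    (hx : x ∈ NN p (q 0 * q 1)) (hy : y ∈ NN p (q 0 * q 4)) :
    x * y * x⁻¹ = y ∨ x * y * x⁻¹ = y * (q 2 * q 3 * (q 0 * q 4)) := by
  have hr : ∀ x, r x = x ∨ r x = 1 := fun x => Or.inl (hR x)
  have ha := hq.pt h.std (i := 0) (j := 1) (by decide)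
  have hb := hq.pt h.std (i := 0) (j := 4) (by decide)
  have a1 : Adj p (q 2 * q 3) (q 0 * q 4) := hq.adj h.std (by decide)
  have a2 : Adj p (q 2 * q 3) (q 0 * q 1) := hq.adj h.std (by decide)
  have hx4 : x * (q 0 * q 4) * x⁻¹ = q 0 * q 4 := comm_iff.2 (D_NN h ha
    (mul_mem (hq.mem_D h (by decide) 0) (hq.mem_D h (by decide) 4)) hx).symm
  have key : ∀ w ∈ NN p (q 0 * q 4), B (q 0 * q 4) w (q 2 * q 3) = 0 → x * w = w * x := by
    intro w hw hBw
    have hwD := perp_le_D h T hr a1 hw hBw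
    rcases D_on_N h T hr a2 hwD hx with h1 | h1
    · exact (comm_iff.1 h1).symm
    exfalso
    rw [hR] at h1
    have hz : q 2 * q 3 * (q 0 * q 1) = q 4 := Fm.five h.std hq (by decide)
    rw [hz] at h1
    -- `q 4 ∈ N_{04}`
    have h2 : x⁻¹ * w * x = q 4 * w := by
      calc x⁻¹ * w * x = x⁻¹ * (w * x * w⁻¹) * w := by group
        _ = q 4 * w := by rw [h1]; group
    have hx4' : x⁻¹ * (q 0 * q 4) * x⁻¹⁻¹ = q 0 * q 4 := by
      calc x⁻¹ * (q 0 * q 4) * x⁻¹⁻¹ = x⁻¹ * (x * (q 0 * q 4) * x⁻¹) * x⁻¹⁻¹ := by rw [hx4]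
        _ = q 0 * q 4 := by group
    have h3 := NN_conj' hx4' hw
    rw [inv_inv, h2] at h3
    have h4 : q 4 ∈ NN p (q 0 * q 4) := by
      have := mul_mem h3 (inv_mem hw)
      rwa [mul_inv_cancel_right] at this
    have h5 := (T.hv_mem h.std hr hb h4 (hp h) (hq.hv h.std 4)).1.pt' h.std
    have e : q 4 * (q 0 * q 4) = q 0 := by
      rw [Fm.comm h.std hq 0 4, ← mul_assoc, Fm.sq h.std hq, one_mul]
    rw [e] at h5
    exact hp h _ h5 (hq.hv h.std 0)
  have h1 := act_of_fix h T a1 hx4 key hy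
  rwa [hR] at h1

/-- **(R), STEP 1: the `N`'s of collinear points commute.** -/
theorem col (h : FiveL S P p) (T : Typ p r B) (hR : ∀ x, r x = x) {q : Fin 5 → G} (hq : Fm p q) {x y : G}
    (hx : x ∈ NN p (q 0 * q 1)) (hy : y ∈ NN p (q 0 * q 4)) : x * y = y * x := by
  by_contra hne
  have ha := hq.pt h.std (i := 0) (j := 1) (by decide)
  have h1 := (col_half h T hR hq hx hy).resolve_left fun e => hne (comm_iff.1 e)
  have h2 := (col_half h T hR (Fm.mk5 h.std hq (i := 0) (j := 4) (k := 2) (l := 3) (m := 1) (by decide))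
    (x := y) (y := x) hy hx).resolve_left fun e => hne (comm_iff.1 e).symm
  change y * x * y⁻¹ = x * (q 2 * q 3 * (q 0 * q 1)) at h2
  have hz1 : q 2 * q 3 * (q 0 * q 4) = q 1 := Fm.five h.std hq (by decide)
  have hz2 : q 2 * q 3 * (q 0 * q 1) = q 4 := Fm.five h.std hq (by decide)
  rw [hz1] at h1
  rw [hz2] at h2
  have c1 : q 1 * x = x * q 1 := D_NN h ha (hq.mem_D h (by decide) 1) hx
  have c4 : q 4 * x = x * q 4 := D_NN h ha (hq.mem_D h (by decide) 4) hx
  have e1 : x * y = y * x * q 1 := by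
    calc x * y = x * y * x⁻¹ * x := by group
      _ = y * x * q 1 := by rw [h1, mul_assoc, c1, ← mul_assoc]
  have e2 : y * x = x * q 4 * y := by
    calc y * x = y * x * y⁻¹ * y := by group
      _ = x * q 4 * y := by rw [h2]
  have e3 : q 4 * q 1 = 1 := by
    have h3 : x * y = q 4 * q 1 * (x * y) := by
      have hb := hq.pt h.std (i := 0) (j := 4) (by decide)
      have d1 : q 1 * y = y * q 1 := D_NN h hb (hq.mem_D h (by decide) 1) hy
      calc x * y = x * q 4 * y * q 1 := by rw [← e2, ← e1]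
        _ = x * q 4 * q 1 * y := by rw [mul_assoc _ y, ← d1, ← mul_assoc]
        _ = q 4 * (x * q 1) * y := by rw [← c4]; group
        _ = q 4 * q 1 * (x * y) := by rw [← c1]; group
    exact (mul_right_cancel (h3.symm.trans (one_mul _).symm))
  refine absurd (Fm.inj h.std hq (i := 4) (j := 1) ?_) (by decide)
  calc q 4 = q 4 * q 1 * q 1 := by rw [mul_assoc, Fm.sq h.std hq, mul_one]
    _ = q 1 := by rw [e3, one_mul]

/-- (R), STEP 2, one case -/
theorem step2_aux (h : FiveL S P p) (T : Typ p r B) (hR : ∀ x, r x = x) {q : Fin 5 → G} (hq : Fm p q) {u x : G}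
    (hu : Adj p (q 0 * q 1) u) (hB : B (q 0 * q 1) u (q 2 * q 3) = 0) (hx : x ∈ NN p u) : x * q 1 = q 1 * x := by
  have ha := hq.pt h.std (i := 0) (j := 1) (by decide)
  have a1 : Adj p (q 0 * q 1) (q 2 * q 3) := hq.adj h.std (by decide)
  by_cases hne : u = q 2 * q 3
  · rw [hne] at hx
    exact (D_NN h (hq.pt h.std (i := 2) (j := 3) (by decide)) (hq.mem_D h (by decide) 1) hx).symm
  have M := T.mod _ ha
  obtain ⟨q', hq', h1, h2, h3, -⟩ := T.exists_frm h.std a1 hu hne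
    (by rw [M.symm _ a1.mem _ hu.mem, hB])
  -- `N_u` and `N_{23}` commute
  have hc : ∀ w ∈ NN p (q 2 * q 3), x * w = w * x := by
    intro w hw
    have hx' : x ∈ NN p (q' 2 * q' 4) := by rw [h3]; exact hx
    have hw' : w ∈ NN p (q' 2 * q' 3) := by rw [h2]; exact hw
    exact (col h T hR (Fm.mk5 h.std hq' (i := 2) (j := 3) (k := 0) (l := 1) (m := 4) (by decide)) hw' hx').symm
  have m1 : q 0 * q 4 ∈ NN p (q 2 * q 3) := (hq.adj h.std (by decide)).mem
  have m2 : q 2 * q 3 ∈ NN p (q 2 * q 3) := by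
    have := (T.mod _ (hq.pt h.std (i := 2) (j := 3) (by decide))).r_mem
    rwa [hR] at this
  have h4 := hc _ (mul_mem m1 m2)
  have e : q 0 * q 4 * (q 2 * q 3) = q 1 := Fm.five h.std hq (by decide)
  rwa [e] at h4

/-- **(R), STEP 2: `N_u` centralises `z_2` for `u ∈ Om_12`.** -/
theorem step2 (h : FiveL S P p) (T : Typ p r B) (hR : ∀ x, r x = x) {q : Fin 5 → G} (hq : Fm p q) {u x : G}
    (hu : Adj p (q 0 * q 1) u) (hx : x ∈ NN p u) : x * q 1 = q 1 * x := by
  rcases T.perp3 h.std hq hu.mem with hB | hB | hB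
  · exact step2_aux h T hR hq hu hB hx
  · exact step2_aux h T hR (Fm.mk5 h.std hq (i := 0) (j := 1) (k := 2) (l := 4) (m := 3) (by decide)) hu hB hx
  · exact step2_aux h T hR (Fm.mk5 h.std hq (i := 0) (j := 1) (k := 3) (l := 4) (m := 2) (by decide)) hu hB hx

/-- `E_x = ⟨N_u : u ~ x⟩` -/
def EE (p : Fin 5 → G) (x : G) : Subgroup G := closure {g | ∃ u, Adj p x u ∧ g ∈ NN p u}

omit [Finite G] in
theorem EE_conj {g x e : G} (he : e ∈ EE p x) : g * e * g⁻¹ ∈ EE p (g * x * g⁻¹) := by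
  induction he using closure_induction with
  | mem y hy =>
    obtain ⟨u, hu, hy⟩ := hy
    exact subset_closure ⟨g * u * g⁻¹, hu.conj g, NN_conj hy⟩
  | one => rw [mul_one, mul_inv_cancel]; exact one_mem _
  | mul y z hy hz ihy ihz => rw [cm]; exact mul_mem ihy ihz
  | inv y hy ih =>
    have e : g * y⁻¹ * g⁻¹ = (g * y * g⁻¹)⁻¹ := by group
    rw [e]
    exact inv_mem ih

/-- **(II.B), type (R)** -/
theorem comm_r (h : FiveL S P p) (T : Typ p r B) (hR : ∀ x, r x = x) {a b : G} (hab : Adj p a b) :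
    ∀ v ∈ NN p a, ∀ w ∈ NN p b, v * w = w * v := by
  have hr : ∀ x, r x = x ∨ r x = 1 := fun x => Or.inl (hR x)
  by_contra hcon
  push Not at hcon
  -- the same for all adjacent pairs
  have hcon' : ∀ a' b', Adj p a' b' → ∃ v ∈ NN p a', ∃ w ∈ NN p b', v * w ≠ w * v := by
    intro a' b' hab'
    obtain ⟨v, hv, w, hw, hne⟩ := hcon
    obtain ⟨g, rfl, rfl⟩ := hab
    obtain ⟨k, rfl, rfl⟩ := hab'
    have key : ∀ x y, y ∈ NN p (g * x * g⁻¹) → k * g⁻¹ * y * (k * g⁻¹)⁻¹ ∈ NN p (k * x * k⁻¹) := by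
      intro x y hy
      have h1 := NN_conj (g := k * g⁻¹) hy
      have e : k * g⁻¹ * (g * x * g⁻¹) * (k * g⁻¹)⁻¹ = k * x * k⁻¹ := by group
      rwa [e] at h1
    refine ⟨_, key _ v hv, _, key _ w hw, fun e => hne ?_⟩
    rw [← cm, ← cm] at e
    exact conj_inj e
  -- transvections
  have htv : ∀ x, IsPt p x → ∀ u ∈ {y | Adj p x y}, ∃ g ∈ EE p x, Tv (NN p x) (r x) (B x) u g := by
    intro x hx u hu
    have hxu : Adj p x u := hu
    have hux := hxu.symm h.std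
    obtain ⟨v, hv, w, hw, hne⟩ := hcon' _ _ hux
    refine ⟨v, subset_closure ⟨u, hu, hv⟩, (T.mod x hx).tv_of_fix hu ?_ (fun y hy hBy => ?_) ⟨w, hw, ?_⟩⟩
    · rw [mem_cent]
      exact D_fix h hux (NN_le_D h hv)
    · exact comm_iff.2 (D_comm h hux.pt (NN_le_D h hv) (perp_le_D h T hr hux hy hBy))
    · exact fun e => hne (comm_iff.1 e)
  have htr : ∀ x u u', Adj p x u → Adj p x u' → ∃ e ∈ EE p x, e * u * e⁻¹ = u' := fun x u u' hu hu' =>
    (T.mod x hu.pt).trans (htv x hu.pt) hu hu'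
  have hz : ∀ q, Fm p q → ∀ e ∈ EE p (q 0 * q 1), e * q 1 = q 1 * e := by
    intro q hq e he
    have h1 : EE p (q 0 * q 1) ≤ centralizer ({q 1} : Set G) := by
      refine (closure_le _).2 ?_
      rintro y ⟨u, hu, hy⟩
      exact mem_cent.2 (comm_iff.2 (step2 h T hR hq hu hy))
    exact comm_iff.1 (mem_cent.1 (h1 he))
  obtain ⟨q, hq, ha, hb⟩ := Frm.exists_frm hab
  have Ma := T.mod _ (hq.pt h.std (i := 0) (j := 1) (by decide))
  have Mb := T.mod _ (hq.pt h.std (i := 2) (j := 3) (by decide))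
  have a23 : Adj p (q 0 * q 1) (q 2 * q 3) := hq.adj h.std (by decide)
  have a24 : Adj p (q 0 * q 1) (q 2 * q 4) := hq.adj h.std (by decide)
  have b01 : Adj p (q 2 * q 3) (q 0 * q 1) := hq.adj h.std (by decide)
  have b04 : Adj p (q 2 * q 3) (q 0 * q 4) := hq.adj h.std (by decide)
  have n1 : q 2 * q 3 ≠ q 2 * q 4 := Fm.pair_ne h.std hq (by decide) (by decide) (by decide)
  have n2 : q 0 * q 1 ≠ q 0 * q 4 := Fm.pair_ne h.std hq (by decide) (by decide) (by decide)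
  obtain ⟨x₀, hx₀, hx1, hx2⟩ := Ma.exists_perp (u₀ := q 2 * q 4) (u := q 2 * q 3) a24 a23 n1
  obtain ⟨x, hx, -, hBx⟩ := Ma.exists_sing hx₀ a23.mem hx2
  obtain ⟨y₀, hy₀, hy1, hy2⟩ := Mb.exists_perp (u₀ := q 0 * q 4) (u := q 0 * q 1) b04 b01 n2
  obtain ⟨y, hy, -, hBy⟩ := Mb.exists_sing hy₀ b01.mem hy2
  have hx' : Adj p (q 0 * q 1) x := hx
  have hy' : Adj p (q 2 * q 3) y := hy
  have hBx1 : B (q 0 * q 1) x (q 2 * q 4) = 0 := by rw [hBx _ a24.mem, hx1]
  have hBx2 : B (q 0 * q 1) x (q 2 * q 3) = 1 := by rw [hBx _ a23.mem, hx2]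
  have hBy1 : B (q 2 * q 3) y (q 0 * q 4) = 0 := by rw [hBy _ b04.mem, hy1]
  have hBy2 : B (q 2 * q 3) y (q 0 * q 1) = 1 := by rw [hBy _ b01.mem, hy2]
  have hxne : x ≠ q 2 * q 4 := by
    rintro rfl
    have h1 := T.line' h.std hq (i := 0) (j := 1) (k := 2) (l := 4) (m := 3) (by decide)
    rw [hBx2] at h1
    exact absurd h1 (by decide)
  have hyne : y ≠ q 0 * q 4 := by
    rintro rfl
    have h1 := T.line' h.std hq (i := 2) (j := 3) (k := 0) (l := 4) (m := 1) (by decide)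
    rw [hBy2] at h1
    exact absurd h1 (by decide)
  have s1 : q 0 * q 1 * x ∈ NN p (q 1 * q 3) := T.star h.std hR (fun g x e he => EE_conj he) htr hz hq hx' hBx1 hxne
  have s2 : q 2 * q 3 * y ∈ NN p (q 3 * q 1) :=
    T.star h.std hR (fun g x e he => EE_conj he) htr hz
      (Fm.mk5 h.std hq (i := 2) (j := 3) (k := 0) (l := 1) (m := 4) (by decide)) hy' hBy1 hyne
  rw [Fm.comm h.std hq 3 1] at s2
  have h1 := NN_comm h (hq.pt h.std (i := 1) (j := 3) (by decide)) s1 s2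
  -- `x`, `y` commute
  have c1 : q 0 * q 1 * y = y * (q 0 * q 1) := NN_comm h b01.pt b01.mem hy'.mem
  have c2 : q 2 * q 3 * x = x * (q 2 * q 3) := NN_comm h a23.pt a23.mem hx'.mem
  have c3 : q 0 * q 1 * (q 2 * q 3) = q 2 * q 3 * (q 0 * q 1) := Fm.comm2 h.std hq 0 1 2 3
  have h2 : x * y = y * x := by
    have e1 : q 0 * q 1 * x * (q 2 * q 3 * y) = q 0 * q 1 * (q 2 * q 3) * (x * y) := by
      calc q 0 * q 1 * x * (q 2 * q 3 * y) = q 0 * q 1 * (x * (q 2 * q 3)) * y := by group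
        _ = q 0 * q 1 * (q 2 * q 3 * x) * y := by rw [c2]
        _ = q 0 * q 1 * (q 2 * q 3) * (x * y) := by group
    have e2 : q 2 * q 3 * y * (q 0 * q 1 * x) = q 0 * q 1 * (q 2 * q 3) * (y * x) := by
      calc q 2 * q 3 * y * (q 0 * q 1 * x) = q 2 * q 3 * (y * (q 0 * q 1)) * x := by group
        _ = q 2 * q 3 * (q 0 * q 1 * y) * x := by rw [c1]
        _ = q 2 * q 3 * (q 0 * q 1) * (y * x) := by group
        _ = q 0 * q 1 * (q 2 * q 3) * (y * x) := by rw [c3]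
    rw [e1, e2] at h1
    exact mul_left_cancel h1
  obtain ⟨v, hv, w, hw, hne⟩ := hcon' _ _ a23
  exact hne (comm_all h T hr a23 hx'.mem hy'.mem hBx2 hBy2 h2 v hv w hw)

/-- **(II.B) is impossible for polar modules.** -/
theorem comm (h : FiveL S P p) (T : Typ p r B) (hr : (∀ x, r x = x) ∨ ∀ x, r x = 1) {a b : G} (hab : Adj p a b) :
    ∀ v ∈ NN p a, ∀ w ∈ NN p b, v * w = w * v := by
  rcases hr with hR | hN
  · exact comm_r h T hR hab
  · exact comm_nr h T hN hab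

end Cfsg.Agent.Omega.NO3S.Sym.IIB
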