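import Cfsg.Agent.Omega.S5.Def

/-!
# NO-3S, `V_P` = even subsets of `{1..n}`, `n` odd: the KEY LEMMA (B) of text #14965 (helper215)

`Key n W W' Λ Λ'`: two elementary abelian groups `W = ⟨Λ⟩`, `W' = ⟨Λ'⟩`, generated by "lines" = modules
`EvenSet n V N(V)`, such that `C(u) ≤ N(V)` for the light elements (weight 2) `u` of each line, `[W, W']` is
centralised by `W` and by `W'`, and two lines (one of each side) which normalise each other commute (NOFF).
Then an element of `W` normalising a line of `Λ'` centralises it, and conversely.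
-/

set_option autoImplicit false

namespace Cfsg.Agent.Omega.NO3S.Sym

open Subgroup Cfsg.Agent.Omega.S5.Def

universe u

variable {G : Type u} [Group G]

/-- the light element `{i, j}` -/
def lt {n : ℕ} (ε : (Fin n → ZMod 2) → G) (i j : Fin n) : G := ε (Pi.single i 1 + Pi.single j 1)

/-- a line: an even-subset module with `C(u) ≤ N(V)` for all light `u`; every 2-subgroup of `N(V)` permutes the
letters of such a labelling (so the full group `N(V)` may be larger than the symmetric group). -/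
def Ln (n : ℕ) (V : Subgroup G) : Prop :=
  ∀ X ≤ normalizer (V : Set G), IsPGroup 2 X → ∃ ε L, EvenSet n V L ε ∧ X ≤ L ∧
    ∀ i j, i ≠ j → centralizer ({lt ε i j} : Set G) ≤ normalizer (V : Set G)

/-- one side -/
structure Side (n : ℕ) (W : Subgroup G) (Λ : Set (Subgroup G)) : Prop where
  comm : ∀ a ∈ W, ∀ b ∈ W, a * b = b * a
  sq : ∀ a ∈ W, a * a = 1
  ln : ∀ V ∈ Λ, Ln n V
  le : ∀ V ∈ Λ, V ≤ W
  gen : W ≤ sSup Λ

/-- the setting of the KEY LEMMA -/
structure Key (n : ℕ) (W W' : Subgroup G) (Λ Λ' : Set (Subgroup G)) : Prop where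
  side : Side n W Λ
  side' : Side n W' Λ'
  cen : ∀ w ∈ W, ∀ w' ∈ W', ∀ a ∈ W, w * w' * w⁻¹ * w'⁻¹ * a = a * (w * w' * w⁻¹ * w'⁻¹)
  cen' : ∀ w ∈ W, ∀ w' ∈ W', ∀ a ∈ W', w * w' * w⁻¹ * w'⁻¹ * a = a * (w * w' * w⁻¹ * w'⁻¹)
  noff : ∀ V ∈ Λ, ∀ V' ∈ Λ', V ≤ normalizer (V' : Set G) → V' ≤ normalizer (V : Set G) →
    ∀ a ∈ V, ∀ b ∈ V', a * b = b * a

theorem Key.symm {n : ℕ} {W W' : Subgroup G} {Λ Λ' : Set (Subgroup G)} (h : Key n W W' Λ Λ') :
    Key n W' W Λ' Λ where
  side := h.side'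
  side' := h.side
  cen w' hw' w hw a ha := by
    have h1 := h.cen' w hw w' hw' a ha
    have e : w' * w * w'⁻¹ * w⁻¹ = (w * w' * w⁻¹ * w'⁻¹)⁻¹ := by group
    rw [e]
    exact (Commute.inv_left (show Commute _ a from h1)).eq
  cen' w' hw' w hw a ha := by
    have h1 := h.cen w hw w' hw' a ha
    have e : w' * w * w'⁻¹ * w⁻¹ = (w * w' * w⁻¹ * w'⁻¹)⁻¹ := by group
    rw [e]
    exact (Commute.inv_left (show Commute _ a from h1)).eq
  noff V' hV' V hV h1 h2 a ha b hb := (h.noff V hV V' hV' h2 h1 b hb a ha).symm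

section lt

variable {n : ℕ} {V : Subgroup G} {ε : (Fin n → ZMod 2) → G}

omit [Group G] in
theorem lt_symm (i j : Fin n) : lt ε i j = lt ε j i := by
  unfold lt; rw [add_comm]

theorem lt_mul {L : Subgroup G} (h : EvenSet n V L ε) (i j l : Fin n) : lt ε i j * lt ε j l = lt ε i l := by
  unfold lt
  rw [← h.add]
  congr 1
  have key : ∀ a b c : Fin n → ZMod 2, a + b + (b + c) = a + c := fun a b c => by
    rw [add_assoc, ← add_assoc b b c, add_self, zero_add]
  exact key _ _ _

theorem lt_eq {L : Subgroup G} (h : EvenSet n V L ε) (i j : Fin n) :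
    lt ε i j = ε (Pi.single i 1) * ε (Pi.single j 1) := h.add _ _

theorem lt_mem {L : Subgroup G} (h : EvenSet n V L ε) (i j : Fin n) : lt ε i j ∈ V := h.mem _

/-- for odd `n` every element of the module is an even subset -/
theorem exists_even {L : Subgroup G} (h : EvenSet n V L ε) (hn : Odd n) {v : G} (hv : v ∈ V) :
    ∃ x : Fin n → ZMod 2, ε x = v ∧ ∑ i, x i = 0 := by
  obtain ⟨x, rfl⟩ := h.surj v hv
  have h1 : ∀ a : ZMod 2, a = 0 ∨ a = 1 := by decide
  rcases h1 (∑ i, x i) with h0 | h0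
  · exact ⟨x, rfl, h0⟩
  · refine ⟨x + 1, ?_, ?_⟩
    · rw [h.add, h.one, mul_one]
    · simp only [Pi.add_apply, Pi.one_apply, Finset.sum_add_distrib, h0, Finset.sum_const, Finset.card_univ,
        Fintype.card_fin, nsmul_eq_mul, mul_one]
      obtain ⟨m, rfl⟩ := hn
      push_cast
      have : (2 : ZMod 2) = 0 := by decide
      rw [this, zero_mul, zero_add]
      decide

/-- the module is generated by the light elements (`n` odd): an element commuting with all of them centralises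
`V`. -/
theorem comm_of_lt {L : Subgroup G} (h : EvenSet n V L ε) (hn : Odd n) {g : G}
    (hg : ∀ i j, g * lt ε i j = lt ε i j * g) : ∀ v ∈ V, g * v = v * g := by
  intro v hv
  obtain ⟨x, rfl, hx⟩ := exists_even h hn hv
  obtain ⟨m, hm⟩ := hn
  have hn0 : 0 < n := by omega
  let o : Fin n := ⟨0, hn0⟩
  -- `ε x = ∏ lt o i` over the support
  have key : ∀ s : Finset (Fin n), g * ε (∑ i ∈ s, (Pi.single o 1 + Pi.single i 1)) =
      ε (∑ i ∈ s, (Pi.single o 1 + Pi.single i 1)) * g := by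
    intro s
    induction s using Finset.induction_on with
    | empty => rw [Finset.sum_empty, h.zero, one_mul, mul_one]
    | insert a s ha ih =>
      rw [Finset.sum_insert ha, h.add, ← mul_assoc]
      have h1 := hg o a
      unfold lt at h1
      rw [h1, mul_assoc, ih, mul_assoc]
  have h2 : x = ∑ i ∈ Finset.univ.filter (fun i => x i = 1), (Pi.single o 1 + Pi.single i 1) := by
    funext l
    rw [Finset.sum_apply]
    simp only [Pi.add_apply, Finset.sum_add_distrib, Finset.sum_const]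
    have h3 : ∑ i ∈ Finset.univ.filter (fun i => x i = 1), (Pi.single i (1 : ZMod 2) : Fin n → ZMod 2) l = x l := by
      rw [Finset.sum_filter]
      have : ∀ i, (if x i = 1 then (Pi.single i (1 : ZMod 2) : Fin n → ZMod 2) l else 0) =
          if i = l then x l else 0 := by
        intro i
        by_cases hil : i = l
        · subst hil
          rw [if_pos rfl, Pi.single_eq_same]
          split_ifs with h4
          · exact h4.symm
          · have h5 : ∀ a : ZMod 2, a ≠ 1 → 0 = a := by decide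
            exact h5 _ h4
        · rw [if_neg hil, Pi.single_eq_of_ne (Ne.symm hil), ite_self]
      rw [Finset.sum_congr rfl fun i _ => this i, Finset.sum_ite_eq' Finset.univ l, if_pos (Finset.mem_univ l)]
    have h4 : ((Finset.univ.filter (fun i => x i = 1)).card : ZMod 2) = 0 := by
      have : ∑ i, x i = ∑ i, if x i = 1 then (1 : ZMod 2) else 0 := by
        apply Finset.sum_congr rfl
        intro i _
        split_ifs with h4
        · exact h4
        · have h5 : ∀ a : ZMod 2, a ≠ 1 → a = 0 := by decide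
          exact h5 _ h4
      rw [this, Finset.sum_boole] at hx
      exact hx
    rw [h3, nsmul_eq_mul, h4, zero_mul, zero_add]
  rw [h2]
  exact key _

end lt

section main

variable {n : ℕ} {W W' : Subgroup G} {Λ Λ' : Set (Subgroup G)}

/-- First step: if an element of `W` normalises but does not centralise a line `V'` of the other side, then
`W ≤ N(V')`. -/
theorem Key.step (h : Key n W W' Λ Λ') (hn : Odd n) (hn3 : 3 ≤ n) {V' : Subgroup G} (hV' : V' ∈ Λ') {w : G}
    (hw : w ∈ W) (hwN : w ∈ normalizer (V' : Set G)) (hwC : w ∉ centralizer (V' : Set G)) :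
    W ≤ normalizer (V' : Set G) := by
  have hw2 : IsPGroup 2 (zpowers w) := by
    rintro ⟨g, hg⟩
    obtain ⟨j, rfl⟩ := mem_zpowers_iff.1 hg
    refine ⟨1, Subtype.ext ?_⟩
    change (w ^ j) ^ 2 ^ 1 = 1
    rw [pow_one, ← zpow_natCast, ← zpow_mul, mul_comm, zpow_mul, zpow_natCast, pow_two, h.side.sq w hw, one_zpow]
  obtain ⟨ε, L, hε, hwL, ho1⟩ := h.side'.ln V' hV' _ ((zpowers_le).2 hwN) hw2
  obtain ⟨σ, hσ⟩ := hε.perm w (hwL (mem_zpowers w))
  -- `σ` is an involution
  have hσ2 : σ * σ = 1 := by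
    apply hε.acts_unique hn3 (hσ.mul hσ)
    rw [h.side.sq w hw]
    exact Acts.one
  have hσ1 : σ ≠ 1 := by
    intro h1
    rw [h1] at hσ
    exact hwC (hε.acts_one_iff.1 hσ)
  -- a fixed letter `f` and a moved letter `i`
  obtain ⟨i, hi⟩ : ∃ i, σ i ≠ i := by
    by_contra hcon
    push Not at hcon
    exact hσ1 (Equiv.ext hcon)
  obtain ⟨f, hf⟩ : ∃ f, σ f = f := by
    by_contra hcon
    push Not at hcon
    have h1 : σ.support = Finset.univ := by
      ext f
      simp only [Equiv.Perm.mem_support, Finset.mem_univ, iff_true]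
      exact hcon f
    have h2 := Equiv.Perm.two_dvd_card_support (σ := σ) (by rw [pow_two]; exact hσ2)
    rw [h1, Finset.card_univ, Fintype.card_fin] at h2
    obtain ⟨m, rfl⟩ := hn
    omega
  -- the light element `u = {i, σ i} = [w, {i, f}]`
  have hu : w * lt ε i f * w⁻¹ * (lt ε i f)⁻¹ = lt ε (σ i) i := by
    have h1 : w * lt ε i f * w⁻¹ = lt ε (σ i) f := by
      rw [lt_eq hε, lt_eq hε]
      calc w * (ε (Pi.single i 1) * ε (Pi.single f 1)) * w⁻¹
          = (w * ε (Pi.single i 1) * w⁻¹) * (w * ε (Pi.single f 1) * w⁻¹) := by group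
        _ = ε (Pi.single (σ i) 1) * ε (Pi.single f 1) := by rw [hσ.single, hσ.single, hf]
    rw [h1, lt_symm i f]
    unfold lt
    rw [hε.inv]
    exact lt_mul hε (σ i) f i
  have hcen : W ≤ centralizer ({lt ε (σ i) i} : Set G) := by
    intro a ha
    rw [mem_centralizer_singleton_iff, ← hu]
    exact (h.cen w hw _ (h.side'.le V' hV' (lt_mem hε i f)) a ha).symm
  exact hcen.trans (ho1 _ _ hi)

/-- **KEY LEMMA**: an element of `W` normalising a line of the other side centralises it. -/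
theorem Key.main (h : Key n W W' Λ Λ') (hn : Odd n) (hn3 : 3 ≤ n) {V' : Subgroup G} (hV' : V' ∈ Λ') {w : G}
    (hw : w ∈ W) (hwN : w ∈ normalizer (V' : Set G)) : w ∈ centralizer (V' : Set G) := by
  by_contra hwC
  have hWN := h.step hn hn3 hV' hw hwN hwC
  -- a line `V` of `Λ` not centralising `V'`
  obtain ⟨V, hV, hVV⟩ : ∃ V ∈ Λ, ¬ V ≤ centralizer (V' : Set G) := by
    by_contra hcon
    push Not at hcon
    exact hwC ((h.side.gen.trans (sSup_le hcon)) hw)
  obtain ⟨ε, L, hε, -, ho1⟩ := h.side.ln V hV ⊥ bot_le IsPGroup.of_bot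
  have hVN : V ≤ normalizer (V' : Set G) := (h.side.le V hV).trans hWN
  obtain ⟨ε', L', hε', hVL, -⟩ := h.side'.ln V' hV' V hVN hε.isPGroup
  -- elements of `V'` commuting with a light element of `V` centralise `V`
  have hC : ∀ i j, i ≠ j → ∀ b ∈ V', b * lt ε i j = lt ε i j * b → b ∈ centralizer (V : Set G) := by
    intro i j hij b hb hcomm
    by_contra hbC
    have hbN : b ∈ normalizer (V : Set G) := ho1 i j hij (mem_centralizer_singleton_iff.2 hcomm)
    have hW'N := h.symm.step hn hn3 hV (h.side'.le V' hV' hb) hbN hbC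
    have h1 := h.noff V hV V' hV' hVN ((h.side'.le V' hV').trans hW'N)
    apply hVV
    intro a ha
    rw [mem_centralizer_iff]
    exact fun b hb => (h1 a ha b hb).symm
  -- a point of `V'` not centralising `V`
  have hpt : ∃ p : Fin n, ε' (Pi.single p 1) ∉ centralizer (V : Set G) := by
    by_contra hcon
    push Not at hcon
    apply hVV
    intro a ha
    have h2 : ∀ i, a * ε' (Pi.single i 1) = ε' (Pi.single i 1) * a := fun i =>
      mem_centralizer_iff.1 (hcon i) a ha
    rw [mem_centralizer_iff]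
    intro b hb
    refine (comm_of_lt hε' hn (g := a) (fun i j => ?_) b hb).symm
    rw [lt_eq hε', ← mul_assoc, h2, mul_assoc, h2, mul_assoc]
  obtain ⟨p, hp⟩ := hpt
  -- three light elements of `V`
  have h0 : 0 < n := by omega
  have h1 : 1 < n := by omega
  have h2 : 2 < n := by omega
  -- a light element moves `p` to a point independent of the light element
  have hmove : ∀ i j, i ≠ j → ∃ σ : Equiv.Perm (Fin n), Acts ε' (lt ε i j) σ ∧ σ p ≠ p ∧ σ (σ p) = p := by
    intro i j hij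
    obtain ⟨σ, hσ⟩ := hε'.perm _ (hVL (lt_mem hε i j))
    refine ⟨σ, hσ, fun h3 => ?_, ?_⟩
    · apply hp
      apply hC i j hij _ (hε'.mem _)
      exact ((hε'.fixes_iff hn3 hσ p).2 h3).symm
    · have h4 : σ * σ = 1 := by
        apply hε'.acts_unique hn3 (hσ.mul hσ)
        rw [h.side.sq _ (h.side.le V hV (lt_mem hε i j))]
        exact Acts.one
      have := congrArg (fun τ : Equiv.Perm (Fin n) => τ p) h4
      simpa using this
  have hsame : ∀ i j i' j', i ≠ j → i' ≠ j' → ∀ σ τ : Equiv.Perm (Fin n), Acts ε' (lt ε i j) σ →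
      Acts ε' (lt ε i' j') τ → σ (σ p) = p → σ p ≠ p → τ p ≠ p → τ p = σ p := by
    intro i j i' j' hij hij' σ τ hσ hτ hs1 hs2 ht
    -- `lt ε' p (σ p)` commutes with `lt ε i j`, hence with `lt ε i' j'`
    have h3 : lt ε' p (σ p) * lt ε i j = lt ε i j * lt ε' p (σ p) := by
      have h4 : lt ε i j * lt ε' p (σ p) * (lt ε i j)⁻¹ = lt ε' p (σ p) := by
        conv_lhs => rw [lt_eq hε']
        calc lt ε i j * (ε' (Pi.single p 1) * ε' (Pi.single (σ p) 1)) * (lt ε i j)⁻¹
            = (lt ε i j * ε' (Pi.single p 1) * (lt ε i j)⁻¹) *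
              (lt ε i j * ε' (Pi.single (σ p) 1) * (lt ε i j)⁻¹) := by group
          _ = ε' (Pi.single (σ p) 1) * ε' (Pi.single p 1) := by rw [hσ.single, hσ.single, hs1]
          _ = lt ε' p (σ p) := by rw [← lt_eq hε', lt_symm]
      calc lt ε' p (σ p) * lt ε i j = (lt ε i j * lt ε' p (σ p) * (lt ε i j)⁻¹) * lt ε i j := by rw [h4]
        _ = lt ε i j * lt ε' p (σ p) := by group
    have h5 := hC i j hij _ (lt_mem hε' _ _) h3
    have h6 := mem_centralizer_iff.1 h5 _ (lt_mem hε i' j')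
    -- `τ` fixes the set `{p, σ p}`
    have h7 : lt ε' (τ p) (τ (σ p)) = lt ε' p (σ p) := by
      rw [lt_eq hε' (τ p), ← hτ.single, ← hτ.single]
      calc lt ε i' j' * ε' (Pi.single p 1) * (lt ε i' j')⁻¹ * (lt ε i' j' * ε' (Pi.single (σ p) 1) * (lt ε i' j')⁻¹)
          = lt ε i' j' * (ε' (Pi.single p 1) * ε' (Pi.single (σ p) 1)) * (lt ε i' j')⁻¹ := by group
        _ = lt ε i' j' * lt ε' p (σ p) * (lt ε i' j')⁻¹ := by rw [lt_eq hε' p]
        _ = lt ε' p (σ p) := by rw [h6, mul_inv_cancel_right]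
    by_contra hne
    -- evaluate: the even sets `{τ p, τ σ p}` and `{p, σ p}` coincide
    have h8 : (Pi.single (τ p) 1 + Pi.single (τ (σ p)) 1 : Fin n → ZMod 2) = Pi.single p 1 + Pi.single (σ p) 1 := by
      rcases hε'.eq_iff.1 h7 with h9 | h9
      · exact h9
      · exfalso
        have h10 := congrArg (fun x : Fin n → ZMod 2 => ∑ l, x l) h9
        simp only [Pi.add_apply, Finset.sum_add_distrib, Finset.sum_pi_single', Finset.mem_univ, if_true,
          Pi.one_apply, Finset.sum_const, Finset.card_univ, Fintype.card_fin, nsmul_eq_mul, mul_one] at h10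
        obtain ⟨m, rfl⟩ := hn
        push_cast at h10
        have h12 : (2 : ZMod 2) = 0 := by decide
        rw [h12, zero_mul, zero_add] at h10
        exact absurd h10 (by decide)
    have h9 := congrFun h8 (τ p)
    simp only [Pi.add_apply, Pi.single_eq_same] at h9
    rw [Pi.single_eq_of_ne (fun h => hs2 (τ.injective h).symm), Pi.single_eq_of_ne ht, Pi.single_eq_of_ne hne] at h9
    exact absurd h9 (by decide)
  obtain ⟨a, ha⟩ := hmove ⟨0, h0⟩ ⟨1, h1⟩ (by simp)
  obtain ⟨b, hb⟩ := hmove ⟨1, h1⟩ ⟨2, h2⟩ (by simp)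
  obtain ⟨c, hc⟩ := hmove ⟨0, h0⟩ ⟨2, h2⟩ (by simp)
  have hab := hsame _ _ _ _ (by simp) (by simp) a b ha.1 hb.1 ha.2.2 ha.2.1 hb.2.1
  have hac := hsame _ _ _ _ (by simp) (by simp) a c ha.1 hc.1 ha.2.2 ha.2.1 hc.2.1
  have hmul : c = a * b := by
    refine hε'.acts_unique hn3 hc.1 ?_
    rw [← lt_mul hε ⟨0, h0⟩ ⟨1, h1⟩ ⟨2, h2⟩]
    exact ha.1.mul hb.1
  have : c p = p := by
    rw [hmul, Equiv.Perm.mul_apply, hab, ha.2.2]
  exact hc.2.1 this

/-- An element of `W` normalising all lines of the other side centralises `W'`. -/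
theorem Key.cent_all (h : Key n W W' Λ Λ') (hn : Odd n) (hn3 : 3 ≤ n) {w : G} (hw : w ∈ W)
    (hwN : ∀ V' ∈ Λ', w ∈ normalizer (V' : Set G)) : w ∈ centralizer (W' : Set G) := by
  have h1 : W' ≤ centralizer ({w} : Set G) := by
    refine h.side'.gen.trans (sSup_le fun V' hV' => ?_)
    intro b hb
    rw [mem_centralizer_singleton_iff]
    exact (mem_centralizer_iff.1 (h.main hn hn3 hV' hw (hwN V' hV')) b hb)
  rw [mem_centralizer_iff]
  exact fun b hb => mem_centralizer_singleton_iff.1 (h1 hb)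

/-- **COROLLARY**: `C_{W'}(u) = C_{W'}(V)` for the light elements `u` of a line `V` of `Λ`. -/
theorem Key.cent_lt (h : Key n W W' Λ Λ') (hn : Odd n) (hn3 : 3 ≤ n) {V : Subgroup G} (hV : V ∈ Λ)
    {u : G} (hu : centralizer ({u} : Set G) ≤ normalizer (V : Set G)) {b : G} (hb : b ∈ W')
    (hbu : b * u = u * b) : b ∈ centralizer (V : Set G) :=
  h.symm.main hn hn3 hV hb (hu (mem_centralizer_singleton_iff.2 hbu))

/-- **COROLLARY**: a light element `u` of a line `V` of `Λ` which normalises a line `V'` of `Λ'`: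
then `V` and `V'` commute. -/
theorem Key.comm_lines (h : Key n W W' Λ Λ') (hn : Odd n) (hn3 : 3 ≤ n) {V : Subgroup G} (hV : V ∈ Λ)
    {u : G} (huV : u ∈ V) (hu : centralizer ({u} : Set G) ≤ normalizer (V : Set G)) {V' : Subgroup G}
    (hV' : V' ∈ Λ') (huN : u ∈ normalizer (V' : Set G)) : V' ≤ centralizer (V : Set G) := by
  have h1 := h.main hn hn3 hV' (h.side.le V hV huV) huN
  intro b hb
  exact h.cent_lt hn hn3 hV hu (h.side'.le V' hV' hb) (mem_centralizer_iff.1 h1 b hb)

/-- **COROLLARY**: a light element of a line `V` not centralised by `W'` moves a line of the other side. -/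
theorem Key.not_all (h : Key n W W' Λ Λ') (hn : Odd n) (hn3 : 3 ≤ n) {V : Subgroup G} (hV : V ∈ Λ)
    {u : G} (huV : u ∈ V) (hu : centralizer ({u} : Set G) ≤ normalizer (V : Set G))
    (hVW : ¬ W' ≤ centralizer (V : Set G)) : ∃ V' ∈ Λ', u ∉ normalizer (V' : Set G) := by
  by_contra hcon
  push Not at hcon
  have h1 := h.cent_all hn hn3 (h.side.le V hV huV) hcon
  apply hVW
  intro b hb
  exact h.cent_lt hn hn3 hV hu hb (mem_centralizer_iff.1 h1 b hb)

end main

/-! ### Five letters -/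

section five

variable {V L W W' : Subgroup G} {ε : (Fin 5 → ZMod 2) → G} {Λ Λ' : Set (Subgroup G)}

/-- `n = 5`: every element of `V` different from `1`, `z_o` is light, or light times `z_o`. -/
theorem exists_lt_five (h : EvenSet 5 V L ε) (o : Fin 5) {v : G} (hv : v ∈ V) (hv1 : v ≠ 1)
    (hvo : v ≠ ε (Pi.single o 1)) : ∃ i j, i ≠ j ∧ (v = lt ε i j ∨ v * ε (Pi.single o 1) = lt ε i j) := by
  obtain ⟨x, rfl⟩ := h.surj v hv
  have key : ∀ (o : Fin 5) (x : Fin 5 → ZMod 2), x = 0 ∨ x = 1 ∨ x = Pi.single o 1 ∨ x = Pi.single o 1 + 1 ∨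
      ∃ i j, i ≠ j ∧ (x = Pi.single i 1 + Pi.single j 1 ∨ x = Pi.single i 1 + Pi.single j 1 + 1 ∨
        x + Pi.single o 1 = Pi.single i 1 + Pi.single j 1 ∨
        x + Pi.single o 1 = Pi.single i 1 + Pi.single j 1 + 1) := by decide +kernel
  rcases key o x with h1 | h1 | h1 | h1 | ⟨i, j, hij, h1 | h1 | h1 | h1⟩
  · exact absurd ((h.ker x).2 (Or.inl h1)) hv1
  · exact absurd ((h.ker x).2 (Or.inr h1)) hv1
  · exact absurd (h.eq_iff.2 (Or.inl h1)) hvo
  · exact absurd (h.eq_iff.2 (Or.inr h1)) hvo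
  · exact ⟨i, j, hij, Or.inl (h.eq_iff.2 (Or.inl h1))⟩
  · exact ⟨i, j, hij, Or.inl (h.eq_iff.2 (Or.inr h1))⟩
  · refine ⟨i, j, hij, Or.inr ?_⟩
    rw [← h.add]
    exact h.eq_iff.2 (Or.inl h1)
  · refine ⟨i, j, hij, Or.inr ?_⟩
    rw [← h.add]
    exact h.eq_iff.2 (Or.inr h1)

/-- **COROLLARY, `n = 5`**: if `W'` centralises the heavy point `z_o` of the line `V` then
`C_{W'}(v) = C_{W'}(V)` for all `v ∈ V`, `v ∉ ⟨z_o⟩`. -/
theorem Key.cent_five (h : Key 5 W W' Λ Λ') (hV : V ∈ Λ) (he : EvenSet 5 V L ε)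
    (ho1 : ∀ i j, i ≠ j → centralizer ({lt ε i j} : Set G) ≤ normalizer (V : Set G)) {o : Fin 5}
    (ho : W' ≤ centralizer ({ε (Pi.single o 1)} : Set G)) {v : G} (hv : v ∈ V) (hv1 : v ≠ 1)
    (hvo : v ≠ ε (Pi.single o 1)) {b : G} (hb : b ∈ W') (hbv : b * v = v * b) :
    b ∈ centralizer (V : Set G) := by
  obtain ⟨i, j, hij, h1 | h1⟩ := exists_lt_five he o hv hv1 hvo
  · exact h.cent_lt (by decide) (by decide) hV (ho1 i j hij) hb (by rw [← h1]; exact hbv)
  · refine h.cent_lt (by decide) (by decide) hV (ho1 i j hij) hb ?_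
    have h2 := mem_centralizer_singleton_iff.1 (ho hb)
    rw [← h1, ← mul_assoc, hbv, mul_assoc, h2, mul_assoc]

/-- **COROLLARY, `n = 5`**: if `v ∈ V`, `v ∉ ⟨z_o⟩`, normalises the line `V'` of `Λ'` then `V` and `V'`
commute. -/
theorem Key.fix_five (h : Key 5 W W' Λ Λ') (hV : V ∈ Λ) (he : EvenSet 5 V L ε)
    (ho1 : ∀ i j, i ≠ j → centralizer ({lt ε i j} : Set G) ≤ normalizer (V : Set G)) {o : Fin 5}
    (ho : W' ≤ centralizer ({ε (Pi.single o 1)} : Set G)) {v : G} (hv : v ∈ V) (hv1 : v ≠ 1)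
    (hvo : v ≠ ε (Pi.single o 1)) {V' : Subgroup G} (hV' : V' ∈ Λ') (hvN : v ∈ normalizer (V' : Set G)) :
    V' ≤ centralizer (V : Set G) := by
  have h1 := h.main (by decide) (by decide) hV' (h.side.le V hV hv) hvN
  intro b hb
  exact h.cent_five hV he ho1 ho hv hv1 hvo (h.side'.le V' hV' hb) (mem_centralizer_iff.1 h1 b hb)

end five

end Cfsg.Agent.Omega.NO3S.Sym
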