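import Cfsg.Agent.Omega.NO3S.Sym.Key
import Cfsg.Agent.Omega.NO3S.Basic

/-!
# NO-3S, `V_P` = even subsets of `{1..n}`: the KEY LEMMA for a critical pair

`Key.of_crit`: a critical pair `(x, y)` of `Hyp S P` with `EvenSet n V_P P ε` and `C_G(u) ≤ N(V_P)` for the
light elements gives the setting `Key` of `Sym/Key.lean` (lines on `x` against lines on `y`).
-/

set_option autoImplicit false

namespace Cfsg.Agent.Omega.NO3S.Sym

open Subgroup Cfsg Cfsg.Agent.ZN Cfsg.Agent.Omega.S5.Def Cfsg.Agent.Omega.NO3S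
open Cfsg.Agent.Omega.NoFF.Lines Cfsg.Agent.Omega.NoFF.Basic Cfsg.Agent.Omega.FrameNOFF Cfsg.Agent.Omega.MinPar Cfsg.Agent.Omega.Frame
open scoped Pointwise

universe u

variable {G : Type u} [Group G]

theorem centralizer_conj_singleton (g u : G) :
    centralizer ({g * u * g⁻¹} : Set G) = MulAut.conj g • centralizer ({u} : Set G) := by
  ext x
  rw [NoFF.Basic.mem_conj, mem_centralizer_singleton_iff, mem_centralizer_singleton_iff]
  constructor
  · intro h
    have := congrArg (fun t => g⁻¹ * t * g) h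
    simpa [mul_assoc] using this
  · intro h
    have := congrArg (fun t => g * t * g⁻¹) h
    simpa [mul_assoc] using this

/-- From the labelling of the minimal parabolic to all 2-subgroups of `N(V)`. -/
theorem Ln.of_sylow [Finite G] (S : Sylow 2 G) {P V : Subgroup G} {n : ℕ} {ε : (Fin n → ZMod 2) → G}
    (he : EvenSet n V P ε) (hSP : (S : Subgroup G) ≤ P)
    (ho1 : ∀ i j, i ≠ j → centralizer ({lt ε i j} : Set G) ≤ normalizer (V : Set G)) : Ln n V := by
  intro X hXN hX
  have : Fact (Nat.Prime 2) := ⟨Nat.prime_two⟩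
  obtain ⟨m, hm, hXm⟩ := NoFF.Main.exists_le_conj S (hSP.trans he.le_normalizer) hX hXN
  have hVm : MulAut.conj m • V = V := NoFF.Main.conj_eq_of_mem_normalizer hm
  refine ⟨fun x => m * ε x * m⁻¹, MulAut.conj m • P, ?_, hXm.trans (NoFF.Basic.conj_le_iff.2 hSP), ?_⟩
  · have := he.conj m
    rwa [hVm] at this
  · intro i j hij
    have h1 : lt (fun x => m * ε x * m⁻¹) i j = m * lt ε i j * m⁻¹ := rfl
    rw [h1, centralizer_conj_singleton]
    have h2 := NoFF.Basic.conj_le_iff (g := m) |>.2 (ho1 i j hij)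
    rwa [← NoFF.Main.normalizer_conj, hVm] at h2

theorem Ln.conj {n : ℕ} {V : Subgroup G} (h : Ln n V) (g : G) : Ln n (MulAut.conj g • V) := by
  intro X hXN hX
  have h1 : MulAut.conj g⁻¹ • X ≤ normalizer (V : Set G) := by
    rw [NoFF.Main.normalizer_conj] at hXN
    have := NoFF.Basic.conj_le_iff (g := g⁻¹) |>.2 hXN
    rwa [NoFF.Basic.conj_conj, inv_mul_cancel, map_one, one_smul] at this
  obtain ⟨ε, L, he, hXL, ho1⟩ := h _ h1 (hX.map (MulAut.conj g⁻¹).toMonoidHom)
  refine ⟨fun x => g * ε x * g⁻¹, MulAut.conj g • L, he.conj g, ?_, ?_⟩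
  · have := NoFF.Basic.conj_le_iff (g := g) |>.2 hXL
    rwa [NoFF.Basic.conj_conj, mul_inv_cancel, map_one, one_smul] at this
  · intro i j hij
    have h1 : lt (fun x => g * ε x * g⁻¹) i j = g * lt ε i j * g⁻¹ := rfl
    rw [h1, centralizer_conj_singleton, NoFF.Main.normalizer_conj]
    exact NoFF.Basic.conj_le_iff.2 (ho1 i j hij)

/-- The lines on the point `x`. -/
def lines (S P : Subgroup G) (x : G) : Set (Subgroup G) :=
  {L | ∃ c ∈ CZ S, L = MulAut.conj (x * c) • zl S P}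

/-- **The KEY LEMMA applies to a critical pair.** -/
theorem Key.of_crit [Finite G] {S : Sylow 2 G} {P : Subgroup G} (h : Hyp S P) {n : ℕ}
    {ε : (Fin n → ZMod 2) → G} (he : EvenSet n (zl (S : Subgroup G) P) P ε)
    (ho1 : ∀ i j, i ≠ j → centralizer ({lt ε i j} : Set G) ≤ normalizer (zl (S : Subgroup G) P : Set G))
    {d : ℕ} {x y : G} (hc : CritP (S : Subgroup G) P (d + 1) x y) :
    Key n (MulAut.conj x • WW (S : Subgroup G) P) (MulAut.conj y • WW (S : Subgroup G) P)
      (lines (S : Subgroup G) P x) (lines (S : Subgroup G) P y) := by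
  have hside : ∀ x : G, Side n (MulAut.conj x • WW (S : Subgroup G) P) (lines (S : Subgroup G) P x) := by
    intro x
    refine ⟨fun a ha b hb => (mem_centralizer_iff.1 (h.geo.W_comm' x ha) b hb).symm, fun a ha => ?_, ?_, ?_, ?_⟩
    · have := h.geo.W_sq' x a ha
      rwa [pow_two] at this
    · rintro _ ⟨c, -, rfl⟩
      exact (Ln.of_sylow S he h.star.isLoc.le ho1).conj _
    · rintro _ ⟨c, hc, rfl⟩
      exact conj_line_le (Z := zc (S : Subgroup G)) (Set.mem_singleton P) x hc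
    · refine conj_W_le fun Q hQ c hc => ?_
      rw [Set.mem_singleton_iff.1 hQ]
      exact le_sSup ⟨c, hc, rfl⟩
  refine ⟨hside x, hside y, fun w hw w' hw' a ha => ?_, fun w hw w' hw' a ha => ?_, ?_⟩
  · have h1 := (h.geo.commutator_le hc (commutator_mem_commutator hw hw')).1
    rw [commutatorElement_def] at h1
    exact (mem_centralizer_iff.1 (h.geo.W_comm' x h1) a ha).symm
  · have h1 := (h.geo.commutator_le hc (commutator_mem_commutator hw hw')).2
    rw [commutatorElement_def] at h1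
    exact (mem_centralizer_iff.1 (h.geo.W_comm' y h1) a ha).symm
  · rintro _ ⟨c, hc, rfl⟩ _ ⟨c', hc', rfl⟩ h1 h2 a ha b hb
    have : Fact (Nat.Prime 2) := ⟨Nat.prime_two⟩
    have h3 := NoFF.Lines.noff_lines h.geo.toSys (Set.mem_singleton P) (Set.mem_singleton P) h1 h2
    exact (mem_centralizer_iff.1 (h3 ha) b hb).symm

/-- An element of `W_x` which normalises a line on `y` centralises it. -/
theorem crit_cent [Finite G] {S : Sylow 2 G} {P : Subgroup G} (h : Hyp S P) {n : ℕ} (hn : Odd n) (hn3 : 3 ≤ n)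
    {ε : (Fin n → ZMod 2) → G} (he : EvenSet n (zl (S : Subgroup G) P) P ε)
    (ho1 : ∀ i j, i ≠ j → centralizer ({lt ε i j} : Set G) ≤ normalizer (zl (S : Subgroup G) P : Set G))
    {d : ℕ} {x y : G} (hc : CritP (S : Subgroup G) P (d + 1) x y) {c w : G} (hcC : c ∈ CZ (S : Subgroup G))
    (hw : w ∈ MulAut.conj x • WW (S : Subgroup G) P)
    (hwN : w ∈ normalizer ((MulAut.conj (y * c) • zl (S : Subgroup G) P : Subgroup G) : Set G)) :
    w ∈ centralizer ((MulAut.conj (y * c) • zl (S : Subgroup G) P : Subgroup G) : Set G) :=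
  (Key.of_crit h he ho1 hc).main hn hn3 ⟨c, hcC, rfl⟩ hw hwN

/-- **`W_x ∩ O₂(C_y)` centralises `W_y`** for a critical pair `(x, y)`. -/
theorem crit_o2 [Finite G] {S : Sylow 2 G} {P : Subgroup G} (h : Hyp S P) {n : ℕ} (hn : Odd n) (hn3 : 3 ≤ n)
    {ε : (Fin n → ZMod 2) → G} (he : EvenSet n (zl (S : Subgroup G) P) P ε)
    (ho1 : ∀ i j, i ≠ j → centralizer ({lt ε i j} : Set G) ≤ normalizer (zl (S : Subgroup G) P : Set G))
    {d : ℕ} {x y : G} (hc : CritP (S : Subgroup G) P (d + 1) x y) :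
    (MulAut.conj x • WW (S : Subgroup G) P) ⊓ (MulAut.conj y • o2 (CZ (S : Subgroup G))) ≤
      centralizer ((MulAut.conj y • WW (S : Subgroup G) P : Subgroup G) : Set G) := by
  intro w hw0
  obtain ⟨hw, hwQ⟩ := Subgroup.mem_inf.1 hw0
  refine (Key.of_crit h he ho1 hc).cent_all hn hn3 hw ?_
  rintro _ ⟨c, hcC, rfl⟩
  rw [NoFF.Main.normalizer_conj, NoFF.Basic.mem_conj]
  rw [NoFF.Basic.mem_conj] at hwQ
  have h1 : (y * c)⁻¹ * w * (y * c) = c⁻¹ * (y⁻¹ * w * y) * c := by group
  rw [h1]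
  have hloc := isLoc_centralizer_zc S (h.ctx.sylow_ne_bot S)
  have h2 : c⁻¹ * (y⁻¹ * w * y) * c ∈ o2 (CZ (S : Subgroup G)) := by
    have := (mem_normalizer_iff.1 (MinSimple.VModule.le_normalizer_o2 (CZ (S : Subgroup G))
      ((CZ (S : Subgroup G)).inv_mem hcC)) _).1 hwQ
    rwa [inv_inv] at this
  exact MinSimple.VModule.le_normalizer_zl _ _ (h.star.isLoc.le (hloc.o2_le S h2))

end Cfsg.Agent.Omega.NO3S.Sym
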