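import Cfsg.Agent.Omega.OM.Lev.Low.OneOf

/-!
# TORUS over the frame of `S₅` (two pairs): the line

`FrL B Q V X ZJ L W Z C A 2`, `c ≤ V` of order `4`, `N = C_X(K)`, `τ ∈ K` acting on `c` without fixed points; no
element of `Z l` is conjugate to `w b`, `w ∈ W l - Z l`, `1 ≠ b ∈ Z_J ∩ C l` (in `S₅`: light and heavy):

* `line5` : `c = W l` for one `l`, and `Z m ≤ N` for `m ≠ l`.
-/

set_option autoImplicit false
set_option linter.unusedSectionVars false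

namespace Cfsg.Agent.Omega.NO3S.Sym.LineFive

open Subgroup Cfsg Cfsg.Agent.ZN.ChoiceBase Cfsg.Agent.ZN.ChoiceSit
open Cfsg.Agent.ZN (jj zj bau zc zl o2)
open Cfsg.Agent.Omega.OM.Lev.Uni (FrL)
open Cfsg.Agent.Omega.OM.Lev.Low Cfsg.Agent.Omega.OM.Lev.Low.Line
open Cfsg.Agent.Omega.SQ1.Bau (elem_comm elem_sq)

universe u

variable {G : Type u} [Group G] {ι : Type*} {B Q V X ZJ : Subgroup G} {L W Z C A : ι → Subgroup G}

section base

variable (h : FrL B Q V X ZJ L W Z C A 2)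
include h

/-- **The line is `W l`.** -/
theorem line5 [Finite G] [Finite ι]
    (hHL : ∀ l, ∀ z ∈ Z l, z ≠ 1 → ∀ w ∈ W l, w ∉ Z l → ∀ b ∈ ZJ, b ∈ C l → b ≠ 1 → ∀ g : G, g * z * g⁻¹ ≠ w * b)
    {c N : Subgroup G} (hcV : c ≤ V) (hc4 : Nat.card c = 4) (hfix : ∀ x ∈ X, ∃ a ∈ c, a * x ∈ N)
    (htriv : c ⊓ N = ⊥) (hBc : ∀ b ∈ B, ∀ x ∈ c, b * x * b⁻¹ ∈ c) (hBN : ∀ b ∈ B, ∀ x ∈ N, b * x * b⁻¹ ∈ N)
    (hZJ : ¬ ZJ ≤ N) {τ : G} (hτc : ∀ x ∈ c, τ * x * τ⁻¹ ∈ c) (hτ1 : ∀ x ∈ c, τ * x * τ⁻¹ = x → x = 1) :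
    ∃ l, c = W l ∧ ∀ m, m ≠ l → Z m ≤ N := by
  classical
  -- a root element which centralises `c` has its `Z i` in `N`
  have key1 : ∀ i, (∀ t ∈ A i, ∀ x ∈ c, t * x = x * t) → Z i ≤ N := by
    intro i hi z hz
    have hne := h.Ane i
    push Not at hne
    obtain ⟨t, ht, w0, hw0, hne⟩ := hne
    obtain ⟨w, hw, e⟩ := exists_comm h (h.AB i ht) (fun hh => hne (hh w0 hw0)) hz
    have hwV : w ∈ V := h.WV i hw
    obtain ⟨a, ha, haN⟩ := hfix w (h.VX hwV)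
    have haV := hcV ha
    have h1 := hBN t (h.AB i ht) _ haN
    have h2 := mul_mem haN h1
    have hta : t * a * t⁻¹ = a := mul_inv_eq_iff_eq_mul.2 (hi t ht a ha)
    have htw : t * w * t⁻¹ ∈ V := h.LV i t ((h.blk i).BL (h.AB i ht)) w hwV
    have e1 : a * w * (t * (a * w) * t⁻¹) = w * (t * w * t⁻¹) := by
      have e2 : t * (a * w) * t⁻¹ = a * (t * w * t⁻¹) := by
        calc t * (a * w) * t⁻¹ = (t * a * t⁻¹) * (t * w * t⁻¹) := by group
          _ = _ := by rw [hta]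
      rw [e2]
      calc a * w * (a * (t * w * t⁻¹)) = a * (w * a) * (t * w * t⁻¹) := by group
        _ = (a * a) * w * (t * w * t⁻¹) := by rw [mc h hwV haV]; group
        _ = _ := by rw [mi h haV, one_mul]
    rwa [e1, e] at h2
  -- (1)
  obtain ⟨l, t, ht, x0, hx0, hne⟩ : ∃ l, ∃ t ∈ A l, ∃ x ∈ c, t * x ≠ x * t := by
    by_contra hcon
    push Not at hcon
    exact hZJ (zj_le h fun i => key1 i fun t ht x hx => hcon i t ht x hx)
  -- (2)
  have hxV := hcV hx0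
  have h1 : t * x0 * t⁻¹ * x0⁻¹ ∈ Z l := h.A_comm ht hxV
  have h2 : t * x0 * t⁻¹ * x0⁻¹ ∈ c := mul_mem (hBc t (h.AB l ht) x0 hx0) (inv_mem hx0)
  have h3 : t * x0 * t⁻¹ * x0⁻¹ ≠ 1 := fun e => hne (mul_inv_eq_iff_eq_mul.1 (mul_inv_eq_one.1 e))
  have hZc : Z l ≤ c := by
    intro z hz
    by_cases hz1 : z = 1
    · rw [hz1]; exact one_mem _
    · rw [Z_two h hz hz1 h1 h3]; exact h2
  obtain ⟨zl, hzl, hzl1⟩ := exists_z h l
  -- (3)
  have hidx : ((Z l).subgroupOf c).index = 2 := by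
    have e1 := Subgroup.card_mul_index ((Z l).subgroupOf c)
    have e2 : Nat.card ((Z l).subgroupOf c) = 2 := by
      rw [Nat.card_congr (subgroupOfEquivOfLe hZc).toEquiv, h.cardZ l]
    rw [e2, hc4] at e1
    omega
  have h4 : ∀ b ∈ B, ∀ x ∈ c, b * x * b⁻¹ * x⁻¹ ∈ Z l := by
    intro b hb x hx
    have hbx := hBc b hb x hx
    by_cases hxZ : x ∈ Z l
    · rw [(h.blk l).cZ b hb x hxZ]
      simp [one_mem]
    · have hbxZ : b * x * b⁻¹ ∉ Z l := by
        intro h5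
        apply hxZ
        have h6 := (h.blk l).cZ b hb _ h5
        have e : x = b * x * b⁻¹ := by
          have h7 : b * x = b * (b * x * b⁻¹) := by rw [h6]; group
          exact mul_left_cancel h7
        rw [e]; exact h5
      have h5 := Subgroup.mul_mem_iff_of_index_two hidx (a := ⟨b * x * b⁻¹, hbx⟩) (b := ⟨x, hx⟩⁻¹)
      have h6 : ((⟨b * x * b⁻¹, hbx⟩ * ⟨x, hx⟩⁻¹ : c) : G) = b * x * b⁻¹ * x⁻¹ := rfl
      rw [mem_subgroupOf, mem_subgroupOf, mem_subgroupOf, h6] at h5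
      refine h5.2 (iff_of_false hbxZ ?_)
      intro h7
      exact hxZ (by simpa using h7)
  -- (4)
  have h5 : ∀ x ∈ c, ∃ w ∈ W l, ∃ b ∈ C l, b ∈ ZJ ∧ x = w * b := by
    intro x hx
    obtain ⟨w, hw, b', hb', rfl⟩ := h.WC l x (hcV hx)
    refine ⟨w, hw, b', hb', (h.mem_ZJ b').2 ⟨h.CV l hb', fun b hb => ?_⟩, rfl⟩
    have h6 := h4 b hb _ hx
    have h7 := (h.blk l).BV hb hw
    have h8 := h.BC l b hb b' hb'
    have e : b * (w * b') * b⁻¹ * (w * b')⁻¹ = (b * w * b⁻¹ * w⁻¹) * (b * b' * b⁻¹ * b'⁻¹) := by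
      calc b * (w * b') * b⁻¹ * (w * b')⁻¹ = (b * w * b⁻¹) * ((b * b' * b⁻¹ * b'⁻¹) * w⁻¹) := by group
        _ = (b * w * b⁻¹) * (w⁻¹ * (b * b' * b⁻¹ * b'⁻¹)) := by
          rw [mc h (h.CV l (mul_mem h8 (inv_mem hb'))) (inv_mem (h.WV l hw))]
        _ = _ := by group
    rw [e] at h6
    have h9 : b * b' * b⁻¹ * b'⁻¹ ∈ W l :=
      (mul_mem_cancel_left (mul_mem h7 (inv_mem hw))).1 (ZW h l h6)
    have h10 := one_of h h9 (mul_mem h8 (inv_mem hb'))
    exact mul_inv_eq_iff_eq_mul.1 (mul_inv_eq_one.1 h10)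
  -- (5)
  have h6 : ∀ m, m ≠ l → Z m ≤ N := by
    intro m hm
    refine key1 m fun s hs x hx => ?_
    obtain ⟨w, hw, b, hb, hbZ, rfl⟩ := h5 x hx
    have c1 : Commute s w := h.AC m s hs w (h.WjC m l hm hw)
    have c2 : Commute s b := ((h.mem_ZJ b).1 hbZ).2 s (h.AB m hs)
    exact (c1.mul_right c2).eq
  -- (6) every element of `c` is a conjugate of `zl`
  have hzlc : zl ∈ c := hZc hzl
  have horb : ∀ x ∈ c, x ≠ 1 → ∃ g : G, g * zl * g⁻¹ = x := by
    intro x hx hx1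
    by_cases hxz : x = zl
    · exact ⟨1, by rw [hxz]; group⟩
    have e1 := hτc zl hzlc
    have e1n : τ * zl * τ⁻¹ ≠ zl := fun e => hzl1 (hτ1 zl hzlc e)
    have e11 : τ * zl * τ⁻¹ ≠ 1 := fun e => hzl1 (conj_eq_one_iff.1 e)
    by_cases hx2 : x = τ * zl * τ⁻¹
    · exact ⟨τ, hx2.symm⟩
    -- the third element
    have e2 := hτc _ e1
    have e2n : τ * (τ * zl * τ⁻¹) * τ⁻¹ ≠ τ * zl * τ⁻¹ := fun e => e11 (hτ1 _ e1 e)
    have e21 : τ * (τ * zl * τ⁻¹) * τ⁻¹ ≠ 1 := fun e => e11 (conj_eq_one_iff.1 e)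
    have e3 : τ * (τ * zl * τ⁻¹) * τ⁻¹ ≠ zl := by
      intro e
      have hV1 : zl ∈ V := h.ZV l hzl
      have hV2 : τ * zl * τ⁻¹ ∈ V := hcV e1
      have hp : τ * (zl * (τ * zl * τ⁻¹)) * τ⁻¹ = zl * (τ * zl * τ⁻¹) := by
        calc τ * (zl * (τ * zl * τ⁻¹)) * τ⁻¹ = (τ * zl * τ⁻¹) * (τ * (τ * zl * τ⁻¹) * τ⁻¹) := by group
          _ = (τ * zl * τ⁻¹) * zl := by rw [e]
          _ = _ := mc h hV2 hV1
      have h7 := hτ1 _ (mul_mem hzlc e1) hp
      apply e1n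
      have h8 : zl⁻¹ = τ * zl * τ⁻¹ := inv_eq_of_mul_eq_one_right h7
      rw [← h8, inv_eq h hV1]
    by_cases hx3 : x = τ * (τ * zl * τ⁻¹) * τ⁻¹
    · exact ⟨τ * τ, by rw [hx3]; group⟩
    exfalso
    -- five elements in a group of order four
    let f : Fin 5 → c := ![1, ⟨zl, hzlc⟩, ⟨_, e1⟩, ⟨_, e2⟩, ⟨x, hx⟩]
    have hf : Function.Injective f := by
      intro a b hab
      have hv := congrArg (Subtype.val : c → G) hab
      fin_cases a <;> fin_cases b <;> simp [f] at hv ⊢ <;> first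
        | exact absurd hv hzl1 | exact absurd hv.symm hzl1
        | exact absurd hv e11 | exact absurd hv.symm e11
        | exact absurd hv e21 | exact absurd hv.symm e21
        | exact absurd hv hx1 | exact absurd hv.symm hx1
        | exact absurd hv e1n | exact absurd hv.symm e1n
        | exact absurd hv e2n | exact absurd hv.symm e2n
        | exact absurd hv e3 | exact absurd hv.symm e3
        | exact absurd hv hxz | exact absurd hv.symm hxz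
        | exact absurd hv hx2 | exact absurd hv.symm hx2
        | exact absurd hv hx3 | exact absurd hv.symm hx3
    have := Nat.card_le_card_of_injective f hf
    rw [Nat.card_eq_fintype_card, Fintype.card_fin, hc4] at this
    omega
  have hcW : c ≤ W l := by
    intro x hx
    obtain ⟨w, hw, b, hb, hbZ, rfl⟩ := h5 x hx
    by_cases hb1 : b = 1
    · rw [hb1, mul_one]; exact hw
    exfalso
    by_cases hwZ : w ∈ Z l
    · have h7 : b ∈ c := (mul_mem_cancel_left (hZc hwZ)).1 hx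
      have h8 : b ∈ c ⊓ N := mem_inf.2 ⟨h7, ZJ_C_le h h6 hbZ hb⟩
      rw [htriv] at h8
      exact hb1 (mem_bot.1 h8)
    · have hx1 : w * b ≠ 1 := by
        intro e
        apply hb1
        have h7 : b ∈ W l := by
          have : b = w⁻¹ := (inv_eq_of_mul_eq_one_right e).symm
          rw [this]; exact inv_mem hw
        exact one_of h h7 hb
      obtain ⟨g, hg⟩ := horb _ hx hx1
      exact hHL l zl hzl hzl1 w hw hwZ b hbZ hb hb1 g hg
  refine ⟨l, ?_, h6⟩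
  have hWl : Nat.card (W l) = 4 := by rw [(h.blk l).card, h.cardZ l]
  exact Subgroup.eq_of_le_of_card_ge hcW (by rw [hWl, hc4])

end base

end Cfsg.Agent.Omega.NO3S.Sym.LineFive
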