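import Cfsg.Agent.Omega.OM.Lev.Low.TwoMain
import Cfsg.Agent.Omega.OM.Lev.Low.PushRes
import Cfsg.Agent.Omega.NO3S.Sym.Light
import Cfsg.Agent.Omega.NO3S.Sym.LineFive

/-!
# `V_P` = even subsets of five letters: no minimal parabolic of smaller stage over `T` moves `Ω₁(Z(T))`

`FiveL S P p`, `Ln S P n L W Z C A 2` with `ι = Fin 2` (two pairs), `Id5` : `B = T = Std.T S p`,
`Z 0 = ⟨n⟩`, `Z 1 = ⟨a⟩`, `W 0 = {1, n, p 0 p 4, p 1 p 4}`, `W 1 = {1, a, p 2 p 4, p 3 p 4}`: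

* `Tor.line_five`, `res_five` : the line of the torus block, the frame `TwoRes.Res`;
* **`low_five`** : a minimal parabolic of smaller stage over `T` centralises `Ω₁(Z(T))`.
-/

set_option autoImplicit false
set_option linter.unusedSectionVars false

namespace Cfsg.Agent.Omega.NO3S.Sym.LowFive

open Subgroup Cfsg Cfsg.Agent.ZN Cfsg.Agent.ZN.ChoiceBase
open Cfsg.Agent.ZN.ChoiceSit (Syl)
open Cfsg.Agent.MinSimple.MinParabolic (IsMinPar)
open Cfsg.Agent.Omega.MinPar (IsLoc IsPar IsParS)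
open Cfsg.Agent.Omega.NO3S.Level (lev lev_mono lev_isLev lev_le)
open Cfsg.Agent.Omega.OM.SwapL (Ln ZL)
open Cfsg.Agent.Omega.OM
open Cfsg.Agent.Omega.OM.GLev
open Cfsg.Agent.Omega.OM.Lev.Uni (FrL)
open Cfsg.Agent.Omega.OM.Lev.Low
open Cfsg.Agent.Omega.FFThm (NatKM)
open Cfsg.Agent.Omega.FrameFF (cv)
open Cfsg.Agent.Omega.SQ1.Bau (elem_comm elem_sq card_sup_comm)
open Cfsg.Agent.Omega.NTwo (Std nn aa)
open Cfsg.Agent.Omega.NO3S.Sym.Light (FiveL)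
open scoped commutatorElement

universe u

variable {G : Type u} [Group G] [Finite G]

/-- The two pairs of the frame are `{0, 1}`, `{2, 3}`. -/
structure Id5 (S B : Subgroup G) (W Z : Fin 2 → Subgroup G) (p : Fin 5 → G) : Prop where
  BT : B = Std.T S p
  Z0 : ∀ x, x ∈ Z 0 ↔ x = 1 ∨ x = nn p
  Z1 : ∀ x, x ∈ Z 1 ↔ x = 1 ∨ x = aa p
  W0 : ∀ x, x ∈ W 0 ↔ x = 1 ∨ x = nn p ∨ x = p 0 * p 4 ∨ x = p 1 * p 4
  W1 : ∀ x, x ∈ W 1 ↔ x = 1 ∨ x = aa p ∨ x = p 2 * p 4 ∨ x = p 3 * p 4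

section id5

variable {S : Sylow 2 G} {P B : Subgroup G} {W Z : Fin 2 → Subgroup G} {p : Fin 5 → G}
  (h : FiveL S P p) (hid : Id5 (S : Subgroup G) B W Z p)
include h hid

theorem BS : B ≤ (S : Subgroup G) := by rw [hid.BT]; exact Std.T_le

theorem idx {a b : G} (ha : a ∈ (S : Subgroup G)) (haB : a ∉ B) (hb : b ∈ (S : Subgroup G)) (hbB : b ∉ B) :
    a * b ∈ B := by
  rw [hid.BT] at haB hbB ⊢
  have h1 := h.std.two_T (inv_mem ha) hb (fun h2 => haB ((inv_mem_iff).1 h2)) hbB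
  rwa [inv_inv] at h1

theorem exists_out : ∃ s ∈ (S : Subgroup G), s ∉ B := by
  obtain ⟨s, hs, e⟩ := h.std.tau
  refine ⟨s, hs, fun hsB => h.std.n_ne_a ?_⟩
  rw [hid.BT] at hsB
  exact (Std.mem_T.1 hsB).2.symm.trans e

/-- `t ∈ S - B` moves `n` onto `a` -/
theorem cj_n {t : G} (ht : t ∈ (S : Subgroup G)) (htB : t ∉ B) : t * nn p * t⁻¹ = aa p :=
  (h.std.part t ht).resolve_left fun e => htB (by rw [hid.BT]; exact Std.mem_T.2 ⟨ht, e⟩)

theorem cj_W0 {t : G} (ht : t ∈ (S : Subgroup G)) (htB : t ∉ B) {x : G} (hx : x ∈ W 0) : t * x * t⁻¹ ∈ W 1 := by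
  have hn := cj_n h hid ht htB
  obtain ⟨σ, hσ⟩ := h.std.perm t (h.std.le ht)
  have h4 : σ 4 = 4 := by
    have h1 := h.std.fix t ht
    rw [hσ] at h1
    exact h.std.inj h1
  have h01 : (σ 0 = 2 ∧ σ 1 = 3) ∨ (σ 0 = 3 ∧ σ 1 = 2) := by
    rw [nn, NTwo.cm, hσ, hσ] at hn
    exact h.std.pair_inj (fun e => absurd (σ.injective e) (by decide)) (by decide) hn
  rw [hid.W1]
  rcases (hid.W0 x).1 hx with rfl | rfl | rfl | rfl
  · left; group
  · right; left; exact hn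
  · right; right
    rw [NTwo.cm, hσ, hσ, h4]
    rcases h01 with ⟨e, -⟩ | ⟨e, -⟩
    · left; rw [e]
    · right; rw [e]
  · right; right
    rw [NTwo.cm, hσ, hσ, h4]
    rcases h01 with ⟨-, e⟩ | ⟨-, e⟩
    · right; rw [e]
    · left; rw [e]

theorem cj_W1 {t : G} (ht : t ∈ (S : Subgroup G)) (htB : t ∉ B) {x : G} (hx : x ∈ W 1) : t * x * t⁻¹ ∈ W 0 := by
  have hn := h.std.s_eq_conj ht (cj_n h hid ht htB)
  obtain ⟨σ, hσ⟩ := h.std.perm t (h.std.le ht)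
  have h4 : σ 4 = 4 := by
    have h1 := h.std.fix t ht
    rw [hσ] at h1
    exact h.std.inj h1
  have h01 : (σ 2 = 0 ∧ σ 3 = 1) ∨ (σ 2 = 1 ∧ σ 3 = 0) := by
    rw [aa, NTwo.cm, hσ, hσ] at hn
    exact h.std.pair_inj (fun e => absurd (σ.injective e) (by decide)) (by decide) hn
  rw [hid.W0]
  rcases (hid.W1 x).1 hx with rfl | rfl | rfl | rfl
  · left; group
  · right; left; exact hn
  · right; right
    rw [NTwo.cm, hσ, hσ, h4]
    rcases h01 with ⟨e, -⟩ | ⟨e, -⟩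
    · left; rw [e]
    · right; rw [e]
  · right; right
    rw [NTwo.cm, hσ, hσ, h4]
    rcases h01 with ⟨-, e⟩ | ⟨-, e⟩
    · right; rw [e]
    · left; rw [e]

/-- an element of `S - B` interchanges `W 0` and `W 1` -/
theorem cj_W {t : G} (ht : t ∈ (S : Subgroup G)) (htB : t ∉ B) {i i' : Fin 2} (hii : i ≠ i') : cj t (W i) = W i' := by
  have htB' : t⁻¹ ∉ B := fun h1 => htB ((inv_mem_iff).1 h1)
  have key : ∀ i i' : Fin 2, i ≠ i' → (i = 0 ∧ i' = 1) ∨ (i = 1 ∧ i' = 0) := by decide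
  rcases key i i' hii with ⟨rfl, rfl⟩ | ⟨rfl, rfl⟩
  · apply le_antisymm
    · rintro _ ⟨x, hx, rfl⟩
      exact cj_W0 h hid ht htB hx
    · intro x hx
      refine ⟨t⁻¹ * x * t, ?_, by simp [MulAut.conj_apply]; group⟩
      have := cj_W1 h hid (inv_mem ht) htB' hx
      rwa [inv_inv] at this
  · apply le_antisymm
    · rintro _ ⟨x, hx, rfl⟩
      exact cj_W1 h hid ht htB hx
    · intro x hx
      refine ⟨t⁻¹ * x * t, ?_, by simp [MulAut.conj_apply]; group⟩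
      have := cj_W0 h hid (inv_mem ht) htB' hx
      rwa [inv_inv] at this

/-- `z = z_i z_i'` -/
theorem exists_pair {i i' : Fin 2} (hii : i ≠ i') : ∃ z1 ∈ Z i, ∃ z2 ∈ Z i', z1 ≠ 1 ∧ z2 ≠ 1 ∧ p 4 = z1 * z2 := by
  have key : ∀ i i' : Fin 2, i ≠ i' → (i = 0 ∧ i' = 1) ∨ (i = 1 ∧ i' = 0) := by decide
  rcases key i i' hii with ⟨rfl, rfl⟩ | ⟨rfl, rfl⟩
  · exact ⟨_, (hid.Z0 _).2 (Or.inr rfl), _, (hid.Z1 _).2 (Or.inr rfl), h.std.n_ne_one, h.std.a_ne_one, h.std.na.symm⟩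
  · exact ⟨_, (hid.Z1 _).2 (Or.inr rfl), _, (hid.Z0 _).2 (Or.inr rfl), h.std.a_ne_one, h.std.n_ne_one, h.std.an.symm⟩

/-- no element of `Z l` is conjugate to `w b`, `w ∈ W l - Z l`, `1 ≠ b ∈ Z_J ∩ C l` (light, heavy) -/
theorem heavy_light {l m : Fin 2} (hlm : l ≠ m) {z : G} (hz : z ∈ Z l) (hz1 : z ≠ 1) {w : G} (hw : w ∈ W l)
    (hwZ : w ∉ Z l) {b : G} (hb : b ∈ Z m) (hb1 : b ≠ 1) (g : G) : g * z * g⁻¹ ≠ w * b := by
  intro e
  -- `z` is light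
  obtain ⟨y, hy⟩ : ∃ y : G, y * nn p * y⁻¹ = z := by
    have key : ∀ l : Fin 2, l = 0 ∨ l = 1 := by decide
    rcases key l with rfl | rfl
    · rcases (hid.Z0 z).1 hz with e | e
      · exact absurd e hz1
      · exact ⟨1, by rw [e]; group⟩
    · rcases (hid.Z1 z).1 hz with e | e
      · exact absurd e hz1
      · obtain ⟨y, -, hy⟩ := h.lights (i := 2) (j := 3) (by decide)
        exact ⟨y, hy.trans e.symm⟩
  -- `w b` is heavy
  have c01 := h.std.comm 0 1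
  have heavy : ∃ i, w * b = p i := by
    have key : ∀ l m : Fin 2, l ≠ m → (l = 0 ∧ m = 1) ∨ (l = 1 ∧ m = 0) := by decide
    have hpp : ∀ i j k l : Fin 5, p i * p j * (p k * p l) = p i * (p j * p k) * p l := fun i j k l => by group
    rcases key l m hlm with ⟨rfl, rfl⟩ | ⟨rfl, rfl⟩
    · have hb' : b = aa p := ((hid.Z1 b).1 hb).resolve_left hb1
      have e4 : p 4 * aa p = nn p := by
        rw [h.std.a_eq, ← mul_assoc, ← h.std.ns, mul_assoc, h.std.sq, mul_one]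
      rcases (hid.W0 w).1 hw with rfl | rfl | rfl | rfl
      · exact absurd (one_mem _) hwZ
      · exact absurd ((hid.Z0 _).2 (Or.inr rfl)) hwZ
      · refine ⟨1, ?_⟩
        rw [hb', mul_assoc, e4, nn, ← mul_assoc, h.std.sq, one_mul]
      · refine ⟨0, ?_⟩
        rw [hb', mul_assoc, e4, nn, c01, ← mul_assoc, h.std.sq, one_mul]
    · have hb' : b = nn p := ((hid.Z0 b).1 hb).resolve_left hb1
      have e4 : p 4 * nn p = aa p := by rw [← h.std.ns, ← h.std.a_eq]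
      rcases (hid.W1 w).1 hw with rfl | rfl | rfl | rfl
      · exact absurd (one_mem _) hwZ
      · exact absurd ((hid.Z1 _).2 (Or.inr rfl)) hwZ
      · refine ⟨3, ?_⟩
        rw [hb', mul_assoc, e4, aa, ← mul_assoc, h.std.sq, one_mul]
      · refine ⟨2, ?_⟩
        rw [hb', mul_assoc, e4, aa, h.std.comm 2 3, ← mul_assoc, h.std.sq, one_mul]
  obtain ⟨i, hi⟩ := heavy
  obtain ⟨k, -, hk⟩ := h.heavy i
  refine h.not_conj (y⁻¹ * g⁻¹ * k) ?_
  calc y⁻¹ * g⁻¹ * k * p 4 * (y⁻¹ * g⁻¹ * k)⁻¹ = y⁻¹ * (g⁻¹ * (k * p 4 * k⁻¹) * g) * y := by group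
    _ = y⁻¹ * (g⁻¹ * (g * z * g⁻¹) * g) * y := by rw [hk, ← hi, e]
    _ = y⁻¹ * z * y := by group
    _ = nn p := by rw [← hy]; group

end id5

section main

variable {S : Sylow 2 G} {P : Subgroup G} {n : ℕ} {L W Z C A : Fin 2 → Subgroup G} {R : Subgroup G} {j : ℕ}
  {K N₁ c : Subgroup G} {τ : G} {p : Fin 5 → G}

/-- `Z_J ∩ C l = Z m` -/
theorem mem_Z_of {B Q V X ZJ : Subgroup G} (hf : FrL B Q V X ZJ L W Z C A 2) {l m : Fin 2} (hlm : l ≠ m) {b : G}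
    (hb : b ∈ ZJ) (hbC : b ∈ C l) : b ∈ Z m := by
  refine Line.ZJ_C_le hf (l := l) (N := Z m) (fun k hk => ?_) hb hbC
  have key : ∀ l m k : Fin 2, l ≠ m → k ≠ l → k = m := by decide
  rw [key l m k hlm hk]

/-- **The line of the torus block is `W l`.** -/
theorem line_five (h : FiveL S P p) (hid : Id5 (S : Subgroup G) (SwapL.BL (S : Subgroup G) n) W Z p)
    (ht : TwoMain.Tor S P n L W Z C A R j K N₁ c τ)
    (hZ : ¬ R ≤ centralizer (zc (SwapL.BL (S : Subgroup G) n) : Set G)) (hV : c ≤ zl (S : Subgroup G) P) :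
    ∃ i, c = W i ∧ ∀ m, m ≠ i → Z m ≤ centralizer (K : Set G) := by
  have hyb := ht.inp.yk.yb
  have hfix : ∀ b ∈ SwapL.BL (S : Subgroup G) n, Mv (fun _ : Fin 1 => zc (lev (S : Subgroup G) j) ⊓ centralizer (K : Set G))
      (fun _ => c) b 0 0 := fun b hb => by
    obtain ⟨m, hm⟩ := hyb.perm b hb 0
    rwa [Subsingleton.elim m 0] at hm
  obtain ⟨i, h1, h2⟩ := LineFive.line5 ht.inp.ln.fr (c := c) (N := zc (lev (S : Subgroup G) j) ⊓ centralizer (K : Set G))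
    (τ := τ)
    (fun l z hz hz1 w hw hwZ b hb hbC hb1 g => by
      obtain ⟨m, hlm⟩ : ∃ m, l ≠ m := by
        have key : ∀ l : Fin 2, ∃ m, l ≠ m := by decide
        exact key l
      exact heavy_light h hid hlm hz hz1 hw hwZ (mem_Z_of ht.inp.ln.fr hlm hb hbC) hb1 g)
    hV ht.c4
    (fun x hx => hyb.fix 0 x ((lev_isLev (S : Subgroup G) j).zc_le_zc (lev_mono _ ht.inp.jn) (lev_le _ n) hx))
    (hyb.triv 0)
    (fun b hb x hx => by
      have h3 := (hfix b hb).2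
      have h4 : b * x * b⁻¹ ∈ cj b c := ⟨x, hx, rfl⟩
      rwa [h3] at h4)
    (fun b hb x hx => by
      have h3 := (hfix b hb).1
      have h4 : b * x * b⁻¹ ∈ cj b (zc (lev (S : Subgroup G) j) ⊓ centralizer (K : Set G)) := ⟨x, hx, rfl⟩
      rwa [h3] at h4)
    (fun hle => hZ ((ht.inp.yk.sup 0).trans (sup_le (NO3S.Level.le_centralizer_zc _) (by
      have e : zc (SwapL.BL (S : Subgroup G) n) = ZL (S : Subgroup G) n := LevB.zc_B S (n + 1)
      rw [e]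
      exact le_centralizer_iff.1 (hle.trans inf_le_right)))))
    (fun x hx => by
      have h4 : τ * x * τ⁻¹ ∈ cj τ c := ⟨x, hx, rfl⟩
      rwa [ht.τc] at h4) ht.τ1
  exact ⟨i, h1, fun m hm => (h2 m hm).trans inf_le_right⟩

/-- `|V_P| ≥ 16` -/
theorem card_V (hln : Ln S P n L W Z C A 2) : 16 ≤ Nat.card (zl (S : Subgroup G) P) := by
  have hW : ∀ i, Nat.card (W i) = 4 := fun i => by
    rw [(hln.fr.blk i).card, hln.fr.cardZ i]
  have h01 : W 0 ⊓ W 1 = ⊥ := by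
    rw [eq_bot_iff, ← hln.fr.dir 0]
    exact inf_le_inf_left _ (hln.fr.WjC 0 1 (by decide))
  have h1 := card_sup_comm (A := W 0) (B := W 1) fun a ha b hb => hln.fr.Vc (hln.fr.WV 0 ha) (hln.fr.WV 1 hb)
  rw [h01, Subgroup.card_bot, mul_one, hW, hW] at h1
  calc 16 = Nat.card ↥(W 0 ⊔ W 1) := h1.symm
    _ ≤ _ := Subgroup.card_le_of_le (sup_le (hln.fr.WV 0) (hln.fr.WV 1))

/-- **The instance of `Res`.** -/
theorem res_five (h : FiveL S P p) (hid : Id5 (S : Subgroup G) (SwapL.BL (S : Subgroup G) n) W Z p)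
    (hln : Ln S P n L W Z C A 2) {M N₁ D K c : Subgroup G}
    {j : ℕ} (hj : j ≤ n) (hpb : PB (LevB.BL (S : Subgroup G) j) K M N₁ D 4)
    (hBN : SwapL.BL (S : Subgroup G) n ≤ normalizer ((⁅M, K⁆ : Subgroup G) : Set G))
    (hyb : YB (SwapL.BL (S : Subgroup G) n) (zc (lev (S : Subgroup G) j))
      (fun _ : Fin 1 => zc (lev (S : Subgroup G) j) ⊓ centralizer (K : Set G)) (fun _ => c))
    (hc1 : c ≤ N₁) (hc2 : N₁ ≤ c ⊔ D) (hcD : c ⊓ D = ⊥) (hc4 : Nat.card c = 4) (hcV : c ≤ ⁅M, K⁆)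
    {z1 z2 : G} (hz1 : z1 ≠ 1) (hz2 : z2 ≠ 1) (e : p 4 = z1 * z2) (h1 : z1 ∈ c) (h2V : z2 ∈ zl (S : Subgroup G) P)
    (h2 : z2 ∈ centralizer (K : Set G)) :
    TwoRes.Res S (SwapL.BL (S : Subgroup G) n) (LevB.BL (S : Subgroup G) j) (zc (lev (S : Subgroup G) j)) M N₁ D K c
      (p 4) z1 z2 where
  BS := (SwapL.lb S n).BS
  SB := by rw [hid.BT]; exact h.std.le_norm_T
  idx := fun a ha haB b hb hbB => idx h hid ha haB hb hbB
  ne := exists_out h hid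
  SX := ((lev_isLev (S : Subgroup G) j).S_norm).trans (NO3S.Level.normalizer_le_zc _)
  X2 := NO3S.OneLine.zc_elem _
  B0eq := rfl
  B0B := BL_mono (S : Subgroup G) (by omega : j ≤ n + 1)
  XB0 := by
    have h3 := LevB.zc_B S j
    rw [← h3]
    exact fun x hx => (ChoiceBase.mem_zc.1 hx).1
  pb := hpb
  BN := hBN
  yb := hyb
  cN1 := hc1
  N1c := hc2
  cD := hcD
  c4 := hc4
  cV := hcV
  zz := ChoiceBase.mem_zc.2 ⟨h.std.mem 4, by rw [pow_two]; exact h.std.sq 4,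
    fun s hs => mul_inv_eq_iff_eq_mul.1 (h.std.fix s hs)⟩
  zS := fun x hx hx1 => (h.std.zc4 x hx).resolve_left hx1
  ez := e
  z1c := h1
  z1n := hz1
  z2c := mem_inf.2 ⟨(hln.fr.VX.trans ((lev_isLev (S : Subgroup G) j).zc_le_zc (lev_mono _ hj) (lev_le _ n))) h2V, h2⟩
  z2n := hz2
  X16 := (card_V hln).trans (Subgroup.card_le_of_le
    (hln.fr.VX.trans ((lev_isLev (S : Subgroup G) j).zc_le_zc (lev_mono _ hj) (lev_le _ n))))

/-- **`Res`, and (D)** -/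
theorem exists_res (h : FiveL S P p) (hid : Id5 (S : Subgroup G) (SwapL.BL (S : Subgroup G) n) W Z p)
    (ht : TwoMain.Tor S P n L W Z C A R j K N₁ c τ)
    (hZ : ¬ R ≤ centralizer (zc (SwapL.BL (S : Subgroup G) n) : Set G)) (hV : c ≤ zl (S : Subgroup G) P) :
    ∃ z1 z2, TwoRes.Res S (SwapL.BL (S : Subgroup G) n) (LevB.BL (S : Subgroup G) j) (zc (lev (S : Subgroup G) j))
        (zl (SwapL.BL (S : Subgroup G) n) R) N₁ (cv (SwapL.BL (S : Subgroup G) n) R) K c (p 4) z1 z2 ∧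
      ∀ t ∈ (S : Subgroup G), t ∉ SwapL.BL (S : Subgroup G) n →
        cj t ⁅(⁅zl (SwapL.BL (S : Subgroup G) n) R, K⁆ : Subgroup G), LevB.BL (S : Subgroup G) j⁆ ≠
          ⁅(⁅zl (SwapL.BL (S : Subgroup G) n) R, K⁆ : Subgroup G), LevB.BL (S : Subgroup G) j⁆ := by
  obtain ⟨i, hcW, hZm⟩ := line_five h hid ht hZ hV
  obtain ⟨i', hii⟩ : ∃ i', i ≠ i' := by
    have h5 : ∀ i : Fin 2, ∃ i', i ≠ i' := by decide
    exact h5 i
  obtain ⟨z1, hz1, z2, hz2, hz11, hz21, e⟩ := exists_pair h hid hii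
  have hcl : c ≤ ⁅zl (SwapL.BL (S : Subgroup G) n) R, K⁆ := by
    refine ht.cl.trans ?_
    rw [commutator_le]
    intro x hx b hb
    have h1 := mul_mem hx ((mem_normalizer_iff.1 (ht.pb.LV (ht.pb.BL hb)) _).1 (inv_mem hx))
    have e : x * (b * x⁻¹ * b⁻¹) = ⁅x, b⁆ := by rw [commutatorElement_def]; group
    rwa [e] at h1
  refine ⟨z1, z2, res_five h hid ht.inp.ln ht.inp.jn ht.pb ht.TV ht.inp.yk.yb ht.cN1 ht.N1c ht.cD ht.c4 hcl
    hz11 hz21 e ?_ (ht.inp.ln.fr.ZV i' hz2) (hZm i' (Ne.symm hii) hz2), fun t hs htB => ?_⟩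
  · rw [hcW]
    exact (ht.inp.ln.fr.blk i).ZV hz1
  · intro he
    have hne := ht.inp.ln.fr.Ane i'
    push Not at hne
    obtain ⟨a, ha, w, hw, hne⟩ := hne
    apply hne
    have haB := ht.inp.ln.fr.AB i' ha
    refine ht.hat a haB (fun x hx => ht.inp.ln.fr.AC i' a ha x (ht.inp.ln.fr.WjC i' i (Ne.symm hii) (hcW ▸ hx))) w ?_
    rw [← he]
    refine cj_mono t ht.cl ?_
    rw [hcW, cj_W h hid hs htB hii]
    exact hw

/-- **`⟨K, S⟩` is not local.** -/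
theorem not_loc (h : FiveL S P p) (hid : Id5 (S : Subgroup G) (SwapL.BL (S : Subgroup G) n) W Z p)
    (ht : TwoMain.Tor S P n L W Z C A R j K N₁ c τ)
    (hall : ∀ R, IsParS (S : Subgroup G) R → lev (S : Subgroup G) n ≤ o2 R)
    (hZ : ¬ R ≤ centralizer (zc (SwapL.BL (S : Subgroup G) n) : Set G)) :
    ¬ IsLoc (S : Subgroup G) (K ⊔ (S : Subgroup G)) := by
  intro hL
  obtain ⟨z1, z2, hR, hD⟩ := exists_res h hid ht hZ (ht.le_V hZ)
  have hz1 : p 4 ≠ 1 := h.std.ne 4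
  exact TwoEnd.false_of hR (H := R) ht.inp.syl.1 (ht.inp.yk.KY 0) (ht.inp.yk.sup 0)
    (MinSimple.VModule.le_normalizer_zl _ R) ht.line ht.τK ht.τc ht.τD ht.K_norm ht.inp.ln.hyp.ctx.char2 hL hD
    (TwoInst.gen_le S hL ht.inp.jn hall hR.zz hz1 hR.zS)

/-- **The torus block does not exist.** -/
theorem tor_false (h : FiveL S P p) (hid : Id5 (S : Subgroup G) (SwapL.BL (S : Subgroup G) n) W Z p)
    (ht : TwoMain.Tor S P n L W Z C A R j K N₁ c τ)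
    (hall : ∀ R, IsParS (S : Subgroup G) R → lev (S : Subgroup G) n ≤ o2 R)
    (hZ : ¬ R ≤ centralizer (zc (SwapL.BL (S : Subgroup G) n) : Set G)) : False := by
  obtain ⟨z1, z2, hR, hD⟩ := exists_res h hid ht hZ (ht.le_V hZ)
  exact not_loc h hid ht hall hZ (hR.isLoc hD)

/-- **A minimal parabolic of smaller stage over `T` centralises `Ω₁(Z(T))`** (the frame indexed by `Fin 2`). -/
theorem low_five_two (h : FiveL S P p) (hid : Id5 (S : Subgroup G) (SwapL.BL (S : Subgroup G) n) W Z p)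
    (hln : Ln S P n L W Z C A 2) (hall : ∀ R, IsParS (S : Subgroup G) R → lev (S : Subgroup G) n ≤ o2 R)
    (hP : IsMinPar (SwapL.BL (S : Subgroup G) n) R) (hR : Syl (SwapL.BL (S : Subgroup G) n) R)
    (hc : R ⊓ centralizer (o2 R : Set G) ≤ o2 R) (hn : ¬ lev (S : Subgroup G) n ≤ o2 R) :
    R ≤ centralizer (zc (SwapL.BL (S : Subgroup G) n) : Set G) := by
  by_contra hZ
  obtain ⟨j, K, N₁, c, τ, ht⟩ := TwoMain.exists_tor' hln hR hP hc hn hZ
  exact tor_false h hid ht hall hZ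

end main

end Cfsg.Agent.Omega.NO3S.Sym.LowFive
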