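import Cfsg.Agent.Omega.OM.SwapL.Frame
import Cfsg.Agent.Omega.NO3S.Sym.Light

/-!
# The level frame `Ln S P n L W Z C A 2` with two blocks for `S₅` on `even{0..4}`

`p : Fin 5 → G` the heavy vectors (`Five S P p`), `nn p = p 0 * p 1`, `aa p = p 2 * p 3`, `ι = Fin 2`, `q = 2`.

* `idx` : `Z i = ⟨nn⟩` and some `a ∈ A i` acts as `(0 1)`, or `Z i = ⟨aa⟩` and some `a ∈ A i` acts as `(2 3)`;
* `Z_cases` : `{Z 0, Z 1} = {⟨nn⟩, ⟨aa⟩}`;
* `mem_ZL` : `ZL S n = {1, nn, aa, p 4}`, `BL_eq` : `BL S n = Std.T S p`;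
* `card_W`, `C_eq` : `|W i| = 4`, `C i = W j` (`j ≠ i`);
* `heavy_ne_light` (`FiveL`) : heavy and light vectors are not conjugate; `mem_W_N`, `mem_W_A` : `W i = even{0,1,4}`
  resp. `even{2,3,4}`.
-/

set_option autoImplicit false
set_option linter.unusedSectionVars false

namespace Cfsg.Agent.Omega.NO3S.Sym.LowFrm

open Subgroup Cfsg Cfsg.Agent.ZN Cfsg.Agent.Omega.NTwo
open Cfsg.Agent.Omega.NO3S.Sym.Exit (Five)
open Cfsg.Agent.Omega.NO3S.Sym.Light (FiveL)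
open Cfsg.Agent.Omega.OM.SwapL (Ln ZL)
open Cfsg.Agent.Omega.OM.Lev.Uni (FrL)
open Cfsg.Agent.Omega.SQ1.Bau (card_sup_comm mem_sup_comm)
open Cfsg.Agent.ZN.ChoiceBase (cj mem_cj)
open scoped Pointwise

universe u

variable {G : Type u} [Group G] [Finite G] {S : Sylow 2 G} {P : Subgroup G} {p : Fin 5 → G} {n : ℕ}
  {ι : Type} {L W Z C A : ι → Subgroup G}

theorem perm_cases : ∀ σ : Equiv.Perm (Fin 5), σ 4 = 4 →
    ((σ 0 = 0 ∧ σ 1 = 1) ∨ (σ 0 = 1 ∧ σ 1 = 0) ∨ (σ 0 = 2 ∧ σ 1 = 3) ∨ (σ 0 = 3 ∧ σ 1 = 2)) →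
    (∀ j k, σ j ≠ j → σ k ≠ k → (j = k ∨ j = σ k)) → (∃ j, σ j ≠ j) →
    σ = Equiv.swap 0 1 ∨ σ = Equiv.swap 2 3 := by
  decide +kernel

section Std

variable (hs : Std (S : Subgroup G) P p)
include hs

/-- `(0 1)` moves a light vector fixed by `(2 3)`. -/
theorem light_cases {k m : Fin 5} (hkm : k ≠ m) {a b : G} (ha : ∀ i, a * p i * a⁻¹ = p (Equiv.swap 0 1 i))
    (hb : ∀ i, b * p i * b⁻¹ = p (Equiv.swap 2 3 i)) (h1 : a * (p k * p m) * a⁻¹ ≠ p k * p m)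
    (h2 : b * (p k * p m) * b⁻¹ = p k * p m) : p k * p m = p 0 * p 4 ∨ p k * p m = p 1 * p 4 := by
  rw [cm, ha, ha] at h1
  rw [cm, hb, hb] at h2
  have h3 := hs.pair_inj (fun e => hkm ((Equiv.swap (2 : Fin 5) 3).injective e)) hkm h2
  have key : ∀ k m : Fin 5, k ≠ m →
      ((Equiv.swap (2 : Fin 5) 3 k = k ∧ Equiv.swap (2 : Fin 5) 3 m = m) ∨
        (Equiv.swap (2 : Fin 5) 3 k = m ∧ Equiv.swap (2 : Fin 5) 3 m = k)) →
      ((Equiv.swap (0 : Fin 5) 1 k = k ∧ Equiv.swap (0 : Fin 5) 1 m = m) ∨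
        (Equiv.swap (0 : Fin 5) 1 k = m ∧ Equiv.swap (0 : Fin 5) 1 m = k)) ∨
      (k = 0 ∧ m = 4) ∨ (k = 4 ∧ m = 0) ∨ (k = 1 ∧ m = 4) ∨ (k = 4 ∧ m = 1) := by decide
  rcases key k m hkm h3 with (⟨h4, h5⟩ | ⟨h4, h5⟩) | h4 | h4 | h4 | h4
  · exact absurd (by rw [h4, h5]) h1
  · exact absurd (by rw [h4, h5, hs.comm]) h1
  · left; rw [h4.1, h4.2]
  · left; rw [h4.1, h4.2, hs.comm]
  · right; rw [h4.1, h4.2]
  · right; rw [h4.1, h4.2, hs.comm]

/-- `(2 3)` moves a light vector fixed by `(0 1)`. -/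
theorem light_cases' {k m : Fin 5} (hkm : k ≠ m) {a b : G} (ha : ∀ i, a * p i * a⁻¹ = p (Equiv.swap 2 3 i))
    (hb : ∀ i, b * p i * b⁻¹ = p (Equiv.swap 0 1 i)) (h1 : a * (p k * p m) * a⁻¹ ≠ p k * p m)
    (h2 : b * (p k * p m) * b⁻¹ = p k * p m) : p k * p m = p 2 * p 4 ∨ p k * p m = p 3 * p 4 := by
  rw [cm, ha, ha] at h1
  rw [cm, hb, hb] at h2
  have h3 := hs.pair_inj (fun e => hkm ((Equiv.swap (0 : Fin 5) 1).injective e)) hkm h2
  have key : ∀ k m : Fin 5, k ≠ m →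
      ((Equiv.swap (0 : Fin 5) 1 k = k ∧ Equiv.swap (0 : Fin 5) 1 m = m) ∨
        (Equiv.swap (0 : Fin 5) 1 k = m ∧ Equiv.swap (0 : Fin 5) 1 m = k)) →
      ((Equiv.swap (2 : Fin 5) 3 k = k ∧ Equiv.swap (2 : Fin 5) 3 m = m) ∨
        (Equiv.swap (2 : Fin 5) 3 k = m ∧ Equiv.swap (2 : Fin 5) 3 m = k)) ∨
      (k = 2 ∧ m = 4) ∨ (k = 4 ∧ m = 2) ∨ (k = 3 ∧ m = 4) ∨ (k = 4 ∧ m = 3) := by decide
  rcases key k m hkm h3 with (⟨h4, h5⟩ | ⟨h4, h5⟩) | h4 | h4 | h4 | h4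
  · exact absurd (by rw [h4, h5]) h1
  · exact absurd (by rw [h4, h5, hs.comm]) h1
  · left; rw [h4.1, h4.2]
  · left; rw [h4.1, h4.2, hs.comm]
  · right; rw [h4.1, h4.2]
  · right; rw [h4.1, h4.2, hs.comm]

end Std

section five

variable (h : Five S P p) (hln : Ln S P n L W Z C A 2)
include hln

theorem exists_z (i : ι) : ∃ ζ, ζ ≠ 1 ∧ ∀ x, x ∈ Z i ↔ x = 1 ∨ x = ζ := by
  have hc := hln.fr.cardZ i
  obtain ⟨ζ, hζ, hζ1⟩ : ∃ ζ ∈ Z i, ζ ≠ 1 := by
    by_contra hcon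
    push Not at hcon
    have h1 : Z i = ⊥ := (Subgroup.eq_bot_iff_forall _).2 hcon
    rw [h1, Subgroup.card_bot] at hc
    omega
  refine ⟨ζ, hζ1, fun x => ⟨fun hx => ?_, fun hx => ?_⟩⟩
  · by_contra hcon
    push Not at hcon
    obtain ⟨h1, h2⟩ := hcon
    have h3 : ({1, ζ, x} : Set G).ncard = 3 := by
      rw [Set.ncard_insert_of_notMem (by simp [h1.symm, hζ1.symm]), Set.ncard_pair (Ne.symm h2)]
    have h4 : ({1, ζ, x} : Set G) ⊆ (Z i : Set G) := by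
      rintro y (rfl | rfl | rfl)
      · exact one_mem _
      · exact hζ
      · exact hx
    have h5 := Set.ncard_le_ncard h4 (Set.toFinite _)
    have h6 : (Z i : Set G).ncard = Nat.card (Z i) := rfl
    omega
  · rcases hx with rfl | rfl
    · exact one_mem _
    · exact hζ

/-- an element of `A i` which moves `W i` -/
theorem exists_a (i : ι) : ∃ a ∈ A i, (∃ w ∈ W i, a * w ≠ w * a) ∧
    ∀ v ∈ zl (S : Subgroup G) P, a * v * a⁻¹ * v⁻¹ ∈ Z i := by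
  have h1 := hln.fr.Ane i
  push Not at h1
  obtain ⟨a, ha, w, hw, hne⟩ := h1
  refine ⟨a, ha, ⟨w, hw, hne⟩, fun v hv => ?_⟩
  obtain ⟨w', hw', c, hc, rfl⟩ := hln.fr.WC i v hv
  have h2 := hln.fr.AC i a ha c hc
  have e : a * (w' * c) * a⁻¹ * (w' * c)⁻¹ = a * w' * a⁻¹ * w'⁻¹ := by
    calc a * (w' * c) * a⁻¹ * (w' * c)⁻¹ = a * w' * (c * a⁻¹) * c⁻¹ * w'⁻¹ := by group
      _ = a * w' * (a⁻¹ * (a * c) * a⁻¹) * c⁻¹ * w'⁻¹ := by group
      _ = a * w' * (a⁻¹ * (c * a) * a⁻¹) * c⁻¹ * w'⁻¹ := by rw [h2]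
      _ = _ := by group
  rw [e]
  exact (hln.fr.blk i).com a (hln.fr.AB i ha) w' hw'

theorem Z_disj {i j : ι} (hij : i ≠ j) {x : G} (h1 : x ∈ Z i) (h2 : x ∈ Z j) : x = 1 := by
  have h3 : x ∈ W i ⊓ C i := ⟨(hln.fr.blk i).ZV h1, hln.fr.WjC i j hij ((hln.fr.blk j).ZV h2)⟩
  rw [hln.fr.dir i] at h3
  exact mem_bot.1 h3

theorem card_W (i : ι) : Nat.card (W i) = 4 := by
  rw [(hln.fr.blk i).card, hln.fr.cardZ i]

theorem BL_le : OM.SwapL.BL (S : Subgroup G) n ≤ (S : Subgroup G) := inf_le_left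

include h

/-- **`A i` acts as `(0 1)` or `(2 3)`.** -/
theorem idx (i : ι) :
    ((∀ x, x ∈ Z i ↔ x = 1 ∨ x = nn p) ∧ ∃ a ∈ A i, ∀ k, a * p k * a⁻¹ = p (Equiv.swap 0 1 k)) ∨
      ((∀ x, x ∈ Z i ↔ x = 1 ∨ x = aa p) ∧ ∃ a ∈ A i, ∀ k, a * p k * a⁻¹ = p (Equiv.swap 2 3 k)) := by
  obtain ⟨a, ha, ⟨w, hw, hne⟩, hcom⟩ := exists_a hln i
  obtain ⟨ζ, hζ1, hζ⟩ := exists_z hln i
  have haS : a ∈ (S : Subgroup G) := BL_le hln (hln.fr.AB i ha)
  obtain ⟨σ, hσ⟩ := h.std.perm a (h.std.le haS)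
  have h4 : σ 4 = 4 := by
    have h1 := h.std.fix a haS
    rw [hσ] at h1
    exact h.std.inj h1
  have hc : ∀ j, σ j ≠ j → p (σ j) * p j = ζ := by
    intro j hj
    have h1 := hcom _ (h.p_mem j)
    rw [hσ, h.std.pinv] at h1
    rcases (hζ _).1 h1 with h2 | h2
    · exact absurd h2 (h.std.mul_ne_one hj)
    · exact h2
  have hpart : (σ 0 = 0 ∧ σ 1 = 1) ∨ (σ 0 = 1 ∧ σ 1 = 0) ∨ (σ 0 = 2 ∧ σ 1 = 3) ∨ (σ 0 = 3 ∧ σ 1 = 2) := by
    have h01 : σ 0 ≠ σ 1 := fun e => absurd (σ.injective e) (by decide)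
    rcases h.std.part a haS with h1 | h1 <;> rw [cm, hσ, hσ] at h1
    · rcases h.std.pair_inj h01 (by decide) h1 with h2 | h2
      · exact Or.inl h2
      · exact Or.inr (Or.inl h2)
    · rcases h.std.pair_inj h01 (by decide) h1 with h2 | h2
      · exact Or.inr (Or.inr (Or.inl h2))
      · exact Or.inr (Or.inr (Or.inr h2))
  have hu : ∀ j k, σ j ≠ j → σ k ≠ k → (j = k ∨ j = σ k) := by
    intro j k hj hk
    have h1 := (hc j hj).trans (hc k hk).symm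
    rcases h.std.pair_inj hj hk h1 with h2 | h2
    · exact Or.inl h2.2
    · exact Or.inr h2.2
  have hex : ∃ j, σ j ≠ j := by
    by_contra hcon
    push Not at hcon
    apply hne
    have h1 : ∀ v ∈ closure (Set.range p), a * v = v * a := by
      intro v hv
      induction hv using closure_induction with
      | mem x hx =>
        obtain ⟨j, rfl⟩ := hx
        have h2 := hσ j
        rw [hcon j] at h2
        exact comm_iff.1 h2
      | one => group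
      | mul x y _ _ ihx ihy => exact ((show Commute a x from ihx).mul_right ihy).eq
      | inv x _ ih => exact (show Commute a x from ih).inv_right.eq
    exact h1 w (by rw [← h.gen]; exact hln.fr.WV i hw)
  rcases perm_cases σ h4 hpart hu hex with rfl | rfl
  · left
    have h1 := hc 0 (by decide)
    rw [Equiv.swap_apply_left, h.std.comm] at h1
    exact ⟨by rw [nn, h1]; exact hζ, a, ha, hσ⟩
  · right
    have h1 := hc 2 (by decide)
    rw [Equiv.swap_apply_left, h.std.comm] at h1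
    exact ⟨by rw [aa, h1]; exact hζ, a, ha, hσ⟩

/-- the data of the two indices -/
def IsN (Z A : ι → Subgroup G) (p : Fin 5 → G) (i : ι) : Prop :=
  (∀ x, x ∈ Z i ↔ x = 1 ∨ x = nn p) ∧ ∃ a ∈ A i, ∀ k, a * p k * a⁻¹ = p (Equiv.swap 0 1 k)

/-- the data of the two indices -/
def IsA (Z A : ι → Subgroup G) (p : Fin 5 → G) (i : ι) : Prop :=
  (∀ x, x ∈ Z i ↔ x = 1 ∨ x = aa p) ∧ ∃ a ∈ A i, ∀ k, a * p k * a⁻¹ = p (Equiv.swap 2 3 k)

theorem nonempty : Nonempty ι := by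
  by_contra hcon
  have h1 : p 0 = 1 := hln.fr.C0 _ (h.p_mem 0) fun i => absurd ⟨i⟩ hcon
  exact h.std.ne 0 h1

/-- **There are exactly two indices.** -/
theorem exists_na : ∃ i j : ι, i ≠ j ∧ IsN Z A p i ∧ IsA Z A p j ∧ ∀ k, k = i ∨ k = j := by
  have hN : ∀ i j : ι, IsN Z A p i → IsN Z A p j → i = j := fun i j hi hj => by
    by_contra hij
    exact h.std.n_ne_one (Z_disj hln hij ((hi.1 _).2 (Or.inr rfl)) ((hj.1 _).2 (Or.inr rfl)))
  have hA : ∀ i j : ι, IsA Z A p i → IsA Z A p j → i = j := fun i j hi hj => by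
    by_contra hij
    exact h.std.a_ne_one (Z_disj hln hij ((hi.1 _).2 (Or.inr rfl)) ((hj.1 _).2 (Or.inr rfl)))
  have hall : ∀ i : ι, IsN Z A p i ∨ IsA Z A p i := fun i => idx h hln i
  obtain ⟨i⟩ := nonempty h hln
  obtain ⟨j, hji⟩ := hln.two i
  rcases hall i with hi | hi
  · have hj : IsA Z A p j := (hall j).resolve_left fun h1 => hji (hN j i h1 hi)
    refine ⟨i, j, hji.symm, hi, hj, fun k => ?_⟩
    rcases hall k with hk | hk
    · exact Or.inl (hN k i hk hi)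
    · exact Or.inr (hA k j hk hj)
  · have hj : IsN Z A p j := (hall j).resolve_right fun h1 => hji (hA j i h1 hi)
    refine ⟨j, i, hji, hj, hi, fun k => ?_⟩
    rcases hall k with hk | hk
    · exact Or.inl (hN k j hk hj)
    · exact Or.inr (hA k i hk hi)

/-- **`ZL = {1, nn, aa, p 4}`.** -/
theorem mem_ZL {x : G} : x ∈ ZL (S : Subgroup G) n ↔ x = 1 ∨ x = nn p ∨ x = aa p ∨ x = p 4 := by
  obtain ⟨i, j, -, ⟨hn, a, ha, haσ⟩, ⟨hm, b, hb, hbσ⟩, -⟩ := exists_na h hln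
  have hnZ : nn p ∈ ZL (S : Subgroup G) n := hln.fr.Z_le i ((hn _).2 (Or.inr rfl))
  have haZ : aa p ∈ ZL (S : Subgroup G) n := hln.fr.Z_le j ((hm _).2 (Or.inr rfl))
  constructor
  · intro hx
    obtain ⟨hxV, hxB⟩ := (hln.fr.mem_ZJ x).1 hx
    have h1 := comm_iff.2 (hxB a (hln.fr.AB i ha))
    have h2 := comm_iff.2 (hxB b (hln.fr.AB j hb))
    rcases h.elts hxV with rfl | ⟨k, rfl⟩ | ⟨k, m, hkm, rfl⟩
    · exact Or.inl rfl
    · rw [haσ] at h1
      rw [hbσ] at h2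
      have key : ∀ k : Fin 5, Equiv.swap (0 : Fin 5) 1 k = k → Equiv.swap (2 : Fin 5) 3 k = k → k = 4 := by decide
      rw [key k (h.std.inj h1) (h.std.inj h2)]
      exact Or.inr (Or.inr (Or.inr rfl))
    · rw [cm, haσ, haσ] at h1
      rw [cm, hbσ, hbσ] at h2
      have k1 := h.std.pair_inj (fun e => hkm ((Equiv.swap (0 : Fin 5) 1).injective e)) hkm h1
      have k2 := h.std.pair_inj (fun e => hkm ((Equiv.swap (2 : Fin 5) 3).injective e)) hkm h2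
      have key : ∀ k m : Fin 5, k ≠ m →
          ((Equiv.swap (0 : Fin 5) 1 k = k ∧ Equiv.swap (0 : Fin 5) 1 m = m) ∨
            (Equiv.swap (0 : Fin 5) 1 k = m ∧ Equiv.swap (0 : Fin 5) 1 m = k)) →
          ((Equiv.swap (2 : Fin 5) 3 k = k ∧ Equiv.swap (2 : Fin 5) 3 m = m) ∨
            (Equiv.swap (2 : Fin 5) 3 k = m ∧ Equiv.swap (2 : Fin 5) 3 m = k)) →
          (k = 0 ∧ m = 1) ∨ (k = 1 ∧ m = 0) ∨ (k = 2 ∧ m = 3) ∨ (k = 3 ∧ m = 2) := by decide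
      rcases key k m hkm k1 k2 with h4 | h4 | h4 | h4
      · rw [h4.1, h4.2]; exact Or.inr (Or.inl rfl)
      · rw [h4.1, h4.2, h.std.comm]; exact Or.inr (Or.inl rfl)
      · rw [h4.1, h4.2]; exact Or.inr (Or.inr (Or.inl rfl))
      · rw [h4.1, h4.2, h.std.comm]; exact Or.inr (Or.inr (Or.inl rfl))
  · rintro (rfl | rfl | rfl | rfl)
    · exact one_mem _
    · exact hnZ
    · exact haZ
    · rw [← h.std.na]
      exact mul_mem hnZ haZ

/-- **`BL S n = Std.T S p`.** -/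
theorem BL_eq : OM.SwapL.BL (S : Subgroup G) n = Std.T (S : Subgroup G) p := by
  apply le_antisymm
  · rintro x ⟨hxS, hxc⟩
    refine Std.mem_T.2 ⟨hxS, comm_iff.2 ?_⟩
    exact (mem_centralizer_iff.1 hxc _ ((mem_ZL h hln).2 (Or.inr (Or.inl rfl)))).symm
  · intro x hx
    obtain ⟨hxS, hxn⟩ := Std.mem_T.1 hx
    refine ⟨hxS, mem_centralizer_iff.2 fun y hy => ?_⟩
    have h1 : x * y * x⁻¹ = y := by
      rcases (mem_ZL h hln).1 hy with rfl | rfl | rfl | rfl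
      · group
      · exact hxn
      · exact h.std.T_a hx
      · exact h.std.fix x hxS
    exact (comm_iff.1 h1).symm

/-- `C i = W j` for `j ≠ i`. -/
theorem C_eq {i j : ι} (hij : i ≠ j) : C i = W j := by
  refine le_antisymm (fun c hc => ?_) (hln.fr.WjC i j hij)
  obtain ⟨w, hw, d, hd, rfl⟩ := hln.fr.WC j c (hln.fr.CV i hc)
  have h1 : d ∈ C i := by
    have h2 := mul_mem (inv_mem (hln.fr.WjC i j hij hw)) hc
    rwa [inv_mul_cancel_left] at h2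
  have h2 : d = 1 := by
    refine hln.fr.C0 d (hln.fr.CV j hd) fun k => ?_
    obtain ⟨i', j', -, -, -, hall⟩ := exists_na h hln
    have hk : k = i ∨ k = j := by
      rcases hall i with rfl | rfl <;> rcases hall j with rfl | rfl <;> rcases hall k with rfl | rfl <;> simp_all
    rcases hk with rfl | rfl
    · exact h1
    · exact hd
  rw [h2, mul_one]
  exact hw

/-- `W i ≠ Z i` is moved: an element of `W i` outside `Z i`, conjugate to the generator of `Z i` -/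
theorem exists_w (i : ι) {ζ : G} (hζ : ∀ x, x ∈ Z i ↔ x = 1 ∨ x = ζ) (hζ1 : ζ ≠ 1) :
    ∃ l ∈ L i, l * ζ * l⁻¹ ∈ W i ∧ l * ζ * l⁻¹ ∉ Z i := by
  obtain ⟨l, hl, hne⟩ := hln.fr.exists_mv i
  have hζZ : ζ ∈ Z i := (hζ ζ).2 (Or.inr rfl)
  refine ⟨l, hl, (hln.fr.blk i).nV l hl ζ ((hln.fr.blk i).ZV hζZ), fun hcon => hne ?_⟩
  have h1 : l * ζ * l⁻¹ = ζ := by
    rcases (hζ _).1 hcon with h2 | h2
    · exact absurd (conj_eq_one_iff.1 h2) hζ1
    · exact h2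
  apply le_antisymm
  · rintro _ ⟨x, hx, rfl⟩
    change l * x * l⁻¹ ∈ Z i
    rcases (hζ x).1 hx with rfl | rfl
    · rw [mul_one, mul_inv_cancel]; exact one_mem _
    · rw [h1]; exact hζZ
  · intro x hx
    rcases (hζ x).1 hx with rfl | rfl
    · exact one_mem _
    · exact ⟨x, hx, h1⟩

/-- two elements of `W i` outside `Z i` differ by the generator of `Z i` -/
theorem W_cases (i : ι) {ζ : G} (hζ : ∀ x, x ∈ Z i ↔ x = 1 ∨ x = ζ) {w x : G} (hw : w ∈ W i) (hwZ : w ∉ Z i)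
    (hx : x ∈ W i) : x = 1 ∨ x = ζ ∨ x = w ∨ x = ζ * w := by
  by_cases hxZ : x ∈ Z i
  · rcases (hζ x).1 hxZ with h1 | h1
    · exact Or.inl h1
    · exact Or.inr (Or.inl h1)
  have hind : ((Z i).subgroupOf (W i)).index = 2 := by
    have h1 := card_mul_index ((Z i).subgroupOf (W i))
    have e : Nat.card ((Z i).subgroupOf (W i)) = Nat.card (Z i) :=
      Nat.card_congr (subgroupOfEquivOfLe (hln.fr.blk i).ZV).toEquiv
    rw [e, (hln.fr.blk i).card] at h1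
    exact Nat.eq_of_mul_eq_mul_left Nat.card_pos h1
  have h2 : (⟨x, hx⟩ * ⟨w, hw⟩⁻¹ : W i) ∈ (Z i).subgroupOf (W i) := by
    rw [Subgroup.mul_mem_iff_of_index_two hind, inv_mem_iff, mem_subgroupOf, mem_subgroupOf]
    exact iff_of_false hxZ hwZ
  have h3 : x * w⁻¹ ∈ Z i := h2
  right; right
  rcases (hζ _).1 h3 with h4 | h4
  · left
    exact mul_inv_eq_one.1 h4
  · right
    rw [← h4]; group

end five

/-! ### The light case -/

/-- **Heavy and light vectors are not conjugate.** -/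
theorem heavy_ne_light (h : FiveL S P p) {g : G} {i j k : Fin 5} (hjk : j ≠ k) : g * p i * g⁻¹ ≠ p j * p k := by
  intro he
  obtain ⟨x, -, hx⟩ := h.toFive.heavy i
  obtain ⟨y, -, hy⟩ := h.toFive.lights hjk
  have h1 : (y⁻¹ * g * x) * p 4 * (y⁻¹ * g * x)⁻¹ = nn p := by
    calc (y⁻¹ * g * x) * p 4 * (y⁻¹ * g * x)⁻¹ = y⁻¹ * (g * (x * p 4 * x⁻¹) * g⁻¹) * y := by group
      _ = y⁻¹ * (y * nn p * y⁻¹) * y := by rw [hx, he, ← hy]
      _ = nn p := by group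
  set u := y⁻¹ * g * x with hu
  refine h.light (u • S) fun s hs => ?_
  have hs' : u⁻¹ * s * u ∈ (S : Subgroup G) := by
    have h2 : s ∈ MulAut.conj u • (S : Subgroup G) := hs
    rw [Cfsg.Agent.Omega.NoFF.Basic.mem_conj] at h2
    exact h2
  have h3 := h.std.fix _ hs'
  rw [← h1]
  calc s * (u * p 4 * u⁻¹) * s⁻¹ = u * (u⁻¹ * s * u * p 4 * (u⁻¹ * s * u)⁻¹) * u⁻¹ := by group
    _ = _ := by rw [h3]

section light

variable (h : FiveL S P p) (hln : Ln S P n L W Z C A 2)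
include h hln

/-- **`W i = even{0,1,4}`.** -/
theorem mem_W_N {i j : ι} (hij : i ≠ j) (hi : IsN Z A p i) (hj : IsA Z A p j) {x : G} :
    x ∈ W i ↔ x = 1 ∨ x = p 0 * p 1 ∨ x = p 0 * p 4 ∨ x = p 1 * p 4 := by
  obtain ⟨hζ, a, ha, haσ⟩ := hi
  obtain ⟨-, b, hb, hbσ⟩ := hj
  obtain ⟨l, hl, hlW, hlZ⟩ := exists_w h.toFive hln i hζ h.std.n_ne_one
  have hnW : nn p ∈ W i := (hln.fr.blk i).ZV ((hζ _).2 (Or.inr rfl))
  have hlV := hln.fr.WV i hlW
  obtain ⟨k, m, hkm, e⟩ : ∃ k m, k ≠ m ∧ l * nn p * l⁻¹ = p k * p m := by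
    rcases h.toFive.elts hlV with h1 | ⟨k, h1⟩ | h1
    · exact absurd (conj_eq_one_iff.1 h1) h.std.n_ne_one
    · exfalso
      refine heavy_ne_light h (g := l⁻¹) (i := k) (j := 0) (k := 1) (by decide) ?_
      rw [← h1]; group
    · exact h1
  have hbw : b * (p k * p m) * b⁻¹ = p k * p m := by
    rw [← e]
    exact comm_iff.2 (hln.fr.AC j b hb _ (hln.fr.WjC j i (Ne.symm hij) hlW))
  have haw : a * (p k * p m) * a⁻¹ ≠ p k * p m := by
    intro h1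
    rw [← e] at h1
    have h2 := (hln.fr.blk i).free a (hln.fr.AB i ha) _ hlW hlZ (comm_iff.1 h1)
    have h3 : ∀ v ∈ zl (S : Subgroup G) P, a * v = v * a := by
      intro v hv
      obtain ⟨w, hw, c, hc, rfl⟩ := hln.fr.WC i v hv
      exact ((show Commute a w from h2 w hw).mul_right (hln.fr.AC i a ha c hc)).eq
    have h4 := comm_iff.2 (h3 _ (h.toFive.p_mem 0))
    rw [haσ, Equiv.swap_apply_left] at h4
    exact absurd (h.std.inj h4) (by decide)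
  have e01 : p 0 * p 1 * (p 0 * p 4) = p 1 * p 4 := by
    calc p 0 * p 1 * (p 0 * p 4) = p 1 * (p 0 * p 0) * p 4 := by rw [h.std.comm 0 1]; group
      _ = p 1 * p 4 := by rw [h.std.sq, mul_one]
  have e10 : p 0 * p 1 * (p 1 * p 4) = p 0 * p 4 := by
    calc p 0 * p 1 * (p 1 * p 4) = p 0 * (p 1 * p 1) * p 4 := by group
      _ = p 0 * p 4 := by rw [h.std.sq, mul_one]
  have hmem : p 0 * p 4 ∈ W i ∧ p 1 * p 4 ∈ W i := by
    rcases light_cases h.std hkm haσ hbσ haw hbw with h1 | h1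
    · have h2 : p 0 * p 4 ∈ W i := by rw [← h1, ← e]; exact hlW
      exact ⟨h2, by rw [← e01]; exact mul_mem hnW h2⟩
    · have h2 : p 1 * p 4 ∈ W i := by rw [← h1, ← e]; exact hlW
      exact ⟨by rw [← e10]; exact mul_mem hnW h2, h2⟩
  have hnZ : p 0 * p 4 ∉ Z i := by
    intro h1
    rcases (hζ _).1 h1 with h2 | h2
    · exact h.std.mul_ne_one (by decide) h2
    · exact absurd (h.std.inj (mul_left_cancel h2)) (by decide)
  constructor
  · intro hx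
    rcases W_cases h.toFive hln i hζ hmem.1 hnZ hx with h1 | h1 | h1 | h1
    · exact Or.inl h1
    · exact Or.inr (Or.inl h1)
    · exact Or.inr (Or.inr (Or.inl h1))
    · right; right; right
      rw [h1]
      exact e01
  · rintro (rfl | rfl | rfl | rfl)
    · exact one_mem _
    · exact hnW
    · exact hmem.1
    · exact hmem.2

/-- **`W j = even{2,3,4}`.** -/
theorem mem_W_A {i j : ι} (hij : i ≠ j) (hi : IsN Z A p i) (hj : IsA Z A p j) {x : G} :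
    x ∈ W j ↔ x = 1 ∨ x = p 2 * p 3 ∨ x = p 2 * p 4 ∨ x = p 3 * p 4 := by
  obtain ⟨-, b, hb, hbσ⟩ := hi
  obtain ⟨hζ, a, ha, haσ⟩ := hj
  obtain ⟨l, hl, hlW, hlZ⟩ := exists_w h.toFive hln j hζ h.std.a_ne_one
  have hnW : aa p ∈ W j := (hln.fr.blk j).ZV ((hζ _).2 (Or.inr rfl))
  have hlV := hln.fr.WV j hlW
  obtain ⟨k, m, hkm, e⟩ : ∃ k m, k ≠ m ∧ l * aa p * l⁻¹ = p k * p m := by
    rcases h.toFive.elts hlV with h1 | ⟨k, h1⟩ | h1
    · exact absurd (conj_eq_one_iff.1 h1) h.std.a_ne_one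
    · exfalso
      refine heavy_ne_light h (g := l⁻¹) (i := k) (j := 2) (k := 3) (by decide) ?_
      rw [← h1]; group
    · exact h1
  have hbw : b * (p k * p m) * b⁻¹ = p k * p m := by
    rw [← e]
    exact comm_iff.2 (hln.fr.AC i b hb _ (hln.fr.WjC i j hij hlW))
  have haw : a * (p k * p m) * a⁻¹ ≠ p k * p m := by
    intro h1
    rw [← e] at h1
    have h2 := (hln.fr.blk j).free a (hln.fr.AB j ha) _ hlW hlZ (comm_iff.1 h1)
    have h3 : ∀ v ∈ zl (S : Subgroup G) P, a * v = v * a := by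
      intro v hv
      obtain ⟨w, hw, c, hc, rfl⟩ := hln.fr.WC j v hv
      exact ((show Commute a w from h2 w hw).mul_right (hln.fr.AC j a ha c hc)).eq
    have h4 := comm_iff.2 (h3 _ (h.toFive.p_mem 2))
    rw [haσ, Equiv.swap_apply_left] at h4
    exact absurd (h.std.inj h4) (by decide)
  have e01 : p 2 * p 3 * (p 2 * p 4) = p 3 * p 4 := by
    calc p 2 * p 3 * (p 2 * p 4) = p 3 * (p 2 * p 2) * p 4 := by rw [h.std.comm 2 3]; group
      _ = p 3 * p 4 := by rw [h.std.sq, mul_one]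
  have e10 : p 2 * p 3 * (p 3 * p 4) = p 2 * p 4 := by
    calc p 2 * p 3 * (p 3 * p 4) = p 2 * (p 3 * p 3) * p 4 := by group
      _ = p 2 * p 4 := by rw [h.std.sq, mul_one]
  have hmem : p 2 * p 4 ∈ W j ∧ p 3 * p 4 ∈ W j := by
    rcases light_cases' h.std hkm haσ hbσ haw hbw with h1 | h1
    · have h2 : p 2 * p 4 ∈ W j := by rw [← h1, ← e]; exact hlW
      exact ⟨h2, by rw [← e01]; exact mul_mem hnW h2⟩
    · have h2 : p 3 * p 4 ∈ W j := by rw [← h1, ← e]; exact hlW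
      exact ⟨by rw [← e10]; exact mul_mem hnW h2, h2⟩
  have hnZ : p 2 * p 4 ∉ Z j := by
    intro h1
    rcases (hζ _).1 h1 with h2 | h2
    · exact h.std.mul_ne_one (by decide) h2
    · exact absurd (h.std.inj (mul_left_cancel h2)) (by decide)
  constructor
  · intro hx
    rcases W_cases h.toFive hln j hζ hmem.1 hnZ hx with h1 | h1 | h1 | h1
    · exact Or.inl h1
    · exact Or.inr (Or.inl h1)
    · exact Or.inr (Or.inr (Or.inl h1))
    · right; right; right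
      rw [h1]
      exact e01
  · rintro (rfl | rfl | rfl | rfl)
    · exact one_mem _
    · exact hnW
    · exact hmem.1
    · exact hmem.2

/-- The frame over `Fin 2` in terms of the five heavy vectors. -/
structure Id5 (S B : Subgroup G) (W Z : Fin 2 → Subgroup G) (p : Fin 5 → G) : Prop where
  BT : B = Std.T S p
  Z0 : ∀ x, x ∈ Z 0 ↔ x = 1 ∨ x = nn p
  Z1 : ∀ x, x ∈ Z 1 ↔ x = 1 ∨ x = aa p
  W0 : ∀ x, x ∈ W 0 ↔ x = 1 ∨ x = nn p ∨ x = p 0 * p 4 ∨ x = p 1 * p 4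
  W1 : ∀ x, x ∈ W 1 ↔ x = 1 ∨ x = aa p ∨ x = p 2 * p 4 ∨ x = p 3 * p 4

/-- **The index type is `Fin 2`, with the standard frame.** -/
theorem exists_id5 : ∃ e : Fin 2 ≃ ι, Id5 (S : Subgroup G) (OM.SwapL.BL (S : Subgroup G) n) (W ∘ e) (Z ∘ e) p := by
  obtain ⟨i, j, hij, hi, hj, hall⟩ := exists_na h.toFive hln
  have hbij : Function.Bijective ![i, j] := by
    constructor
    · have key : ∀ a b : Fin 2, a = b ∨ (a = 0 ∧ b = 1) ∨ (a = 1 ∧ b = 0) := by decide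
      intro a b hab
      rcases key a b with h1 | ⟨rfl, rfl⟩ | ⟨rfl, rfl⟩
      · exact h1
      · exact absurd hab hij
      · exact absurd hab hij.symm
    · intro k
      rcases hall k with rfl | rfl
      · exact ⟨0, rfl⟩
      · exact ⟨1, rfl⟩
  refine ⟨Equiv.ofBijective _ hbij, BL_eq h.toFive hln, fun x => ?_, fun x => ?_, fun x => ?_, fun x => ?_⟩
  · exact hi.1 x
  · exact hj.1 x
  · exact mem_W_N h hln hij hi hj
  · exact mem_W_A h hln hij hi hj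

end light

end Cfsg.Agent.Omega.NO3S.Sym.LowFrm
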