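import Mathlib

/-!
# LightL `n = 5`, UNI over `T` at the stage of `V`: (3) of LEMMA NT (helper548)

Three transvections `a, a1, b` of `⟨n, m, w⟩` (order 8) with the centres `n, m, w`; `a` moves `m`, `a1` and `b` move `n`:
`⟨a, a1, b⟩` contains an element which acts on `⟨n, m, w⟩` with order 4.
-/

set_option autoImplicit false

namespace Cfsg.Agent.Omega.NO3S.Sym.NTrans

open Subgroup Matrix

universe u

variable {G : Type u} [Group G]

/-- `n ^ x 0 * m ^ x 1 * w ^ x 2` -/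
def vec (n m w : G) (x : Fin 3 → ZMod 2) : G := n ^ (x 0).val * m ^ (x 1).val * w ^ (x 2).val

/-- `n, m, w` independent commuting involutions -/
structure Ind (n m w : G) : Prop where
  n1 : n ≠ 1
  m1 : m ≠ 1
  w1 : w ≠ 1
  hnm : n ≠ m
  wn : w ≠ n
  wm : w ≠ m
  wnm : w ≠ n * m
  sn : n * n = 1
  sm : m * m = 1
  sw : w * w = 1
  cnm : n * m = m * n
  cnw : n * w = w * n
  cmw : m * w = w * m

theorem two (a : ZMod 2) : a = 0 ∨ a = 1 := by revert a; decide

theorem pow_add' {x : G} (hx : x * x = 1) (a b : ZMod 2) : x ^ (a + b).val = x ^ a.val * x ^ b.val := by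
  rcases two a with rfl | rfl <;> rcases two b with rfl | rfl
  · simp
  · simp
  · simp
  · have e : ((1 : ZMod 2) + 1).val = 0 := by decide
    have e1 : (1 : ZMod 2).val = 1 := by decide
    rw [e, e1, pow_zero, pow_one, hx]

namespace Ind

variable {n m w : G} (h : Ind n m w)
include h

theorem vec_add (x y : Fin 3 → ZMod 2) : vec n m w (x + y) = vec n m w x * vec n m w y := by
  have c1 : Commute n m := h.cnm
  have c2 : Commute n w := h.cnw
  have c3 : Commute m w := h.cmw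
  have e1 := (c3.symm.pow_pow (x 2).val (y 1).val).eq
  have e2 := (c2.symm.pow_pow (x 2).val (y 0).val).eq
  have e3 := (c1.symm.pow_pow (x 1).val (y 0).val).eq
  simp only [vec, Pi.add_apply, pow_add' h.sn, pow_add' h.sm, pow_add' h.sw]
  generalize n ^ (x 0).val = A, n ^ (y 0).val = A', m ^ (x 1).val = B, m ^ (y 1).val = B', w ^ (x 2).val = C,
    w ^ (y 2).val = C' at *
  calc A * A' * (B * B') * (C * C') = A * (A' * B) * B' * C * C' := by group
    _ = A * (B * A') * B' * C * C' := by rw [← e3]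
    _ = A * B * A' * (B' * C) * C' := by group
    _ = A * B * A' * (C * B') * C' := by rw [← e1]
    _ = A * B * (A' * C) * B' * C' := by group
    _ = A * B * (C * A') * B' * C' := by rw [← e2]
    _ = A * B * C * (A' * B' * C') := by group

omit h in
theorem vec_zero : vec n m w 0 = 1 := by simp [vec]

theorem inv_n : n⁻¹ = n := inv_eq_of_mul_eq_one_left h.sn
theorem inv_m : m⁻¹ = m := inv_eq_of_mul_eq_one_left h.sm
theorem inv_w : w⁻¹ = w := inv_eq_of_mul_eq_one_left h.sw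

theorem vec_one {x : Fin 3 → ZMod 2} (hx : vec n m w x = 1) : x = 0 := by
  have e1 : (1 : ZMod 2).val = 1 := by decide
  rcases two (x 0) with h0 | h0 <;> rcases two (x 1) with h1 | h1 <;> rcases two (x 2) with h2 | h2 <;>
    simp only [vec, h0, h1, h2, ZMod.val_zero, e1, pow_zero, pow_one, one_mul, mul_one] at hx
  · funext i
    fin_cases i
    · exact h0
    · exact h1
    · exact h2
  · exact absurd hx h.w1
  · exact absurd hx h.m1
  · exact absurd (by rw [← h.inv_w]; exact (eq_inv_of_mul_eq_one_left hx).symm) h.wm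
  · exact absurd hx h.n1
  · exact absurd (by rw [← h.inv_w]; exact (eq_inv_of_mul_eq_one_left hx).symm) h.wn
  · exact absurd (by rw [← h.inv_m]; exact eq_inv_of_mul_eq_one_left hx) h.hnm
  · exact absurd (by rw [← h.inv_w]; exact (eq_inv_of_mul_eq_one_left hx).symm) h.wnm

theorem vec_inj {x y : Fin 3 → ZMod 2} (hx : vec n m w x = vec n m w y) : x = y := by
  have h1 : vec n m w (x + y) = 1 := by
    rw [h.vec_add, hx, ← h.vec_add]
    have : y + y = 0 := by
      funext i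
      have h2 : ∀ a : ZMod 2, a + a = 0 := by decide
      exact h2 (y i)
    rw [this, vec_zero]
  have h2 := h.vec_one h1
  funext i
  have h3 := congrFun h2 i
  have h4 : ∀ a b : ZMod 2, a + b = 0 → a = b := by decide
  exact h4 _ _ h3

end Ind

/-- `g` acts as the matrix `M` -/
def Act (n m w : G) (g : G) (M : Matrix (Fin 3) (Fin 3) (ZMod 2)) : Prop :=
  ∀ x, g * vec n m w x * g⁻¹ = vec n m w (M *ᵥ x)

variable {n m w g g' : G} {M M' : Matrix (Fin 3) (Fin 3) (ZMod 2)}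

theorem Act.mul (h1 : Act n m w g M) (h2 : Act n m w g' M') : Act n m w (g * g') (M * M') := by
  intro x
  rw [← Matrix.mulVec_mulVec, ← h1, ← h2]; group

theorem Act.one : Act n m w 1 1 := by
  intro x
  rw [Matrix.one_mulVec]; group

theorem Act.pow (h1 : Act n m w g M) : ∀ k : ℕ, Act n m w (g ^ k) (M ^ k)
  | 0 => by rw [pow_zero, pow_zero]; exact Act.one
  | k + 1 => by rw [pow_succ, pow_succ]; exact (h1.pow k).mul h1

theorem Act.inv (h1 : Act n m w g M) (hM : M * M = 1) : Act n m w g⁻¹ M := by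
  intro x
  have h2 := h1 (M *ᵥ x)
  rw [Matrix.mulVec_mulVec, hM, Matrix.one_mulVec] at h2
  rw [← h2]; group

/-- the action from the images of `n, m, w` -/
theorem Act.of (h : Ind n m w) (hn : g * n * g⁻¹ = vec n m w (M *ᵥ ![1, 0, 0]))
    (hm : g * m * g⁻¹ = vec n m w (M *ᵥ ![0, 1, 0])) (hw : g * w * g⁻¹ = vec n m w (M *ᵥ ![0, 0, 1])) :
    Act n m w g M := by
  have key : ∀ u : G, ∀ v : Fin 3 → ZMod 2, g * u * g⁻¹ = vec n m w (M *ᵥ v) → ∀ a : ZMod 2,
      g * u ^ a.val * g⁻¹ = vec n m w (M *ᵥ (a • v)) := by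
    intro u v hu a
    have e1 : (1 : ZMod 2).val = 1 := by decide
    rcases two a with rfl | rfl
    · rw [ZMod.val_zero, pow_zero, zero_smul, Matrix.mulVec_zero, Ind.vec_zero]; group
    · rw [e1, pow_one, one_smul]; exact hu
  intro x
  have hx : x = x 0 • ![1, 0, 0] + x 1 • ![0, 1, 0] + x 2 • ![0, 0, 1] := by
    funext i
    fin_cases i <;> simp
  conv_rhs => rw [hx]
  rw [Matrix.mulVec_add, Matrix.mulVec_add, h.vec_add, h.vec_add, ← key n _ hn, ← key m _ hm, ← key w _ hw, vec]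
  group

/-- no element of order 4 -/
theorem Act.no4 (h : Ind n m w) (h1 : Act n m w g M) (e4 : M ^ 4 = 1) (e2 : M ^ 2 ≠ 1)
    (h4 : (∀ u ∈ ({n, m, w} : Set G), g ^ 4 * u * (g ^ 4)⁻¹ = u) →
      ∀ u ∈ ({n, m, w} : Set G), g ^ 2 * u * (g ^ 2)⁻¹ = u) : False := by
  have e1 : (1 : ZMod 2).val = 1 := by decide
  have vn : vec n m w ![1, 0, 0] = n := by simp [vec, e1]
  have vm : vec n m w ![0, 1, 0] = m := by simp [vec, e1]
  have vw : vec n m w ![0, 0, 1] = w := by simp [vec, e1]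
  have h5 := h1.pow 4
  have h6 := h1.pow 2
  rw [e4] at h5
  have h7 := h4 (by
    rintro u (rfl | rfl | rfl)
    · have := h5 ![1, 0, 0]
      rwa [vn, Matrix.one_mulVec, vn] at this
    · have := h5 ![0, 1, 0]
      rwa [vm, Matrix.one_mulVec, vm] at this
    · have := h5 ![0, 0, 1]
      rwa [vw, Matrix.one_mulVec, vw] at this)
  apply e2
  have k0 : (M ^ 2) *ᵥ ![1, 0, 0] = ![1, 0, 0] := by
    apply h.vec_inj
    rw [← h6, vn, h7 n (by simp)]
  have k1 : (M ^ 2) *ᵥ ![0, 1, 0] = ![0, 1, 0] := by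
    apply h.vec_inj
    rw [← h6, vm, h7 m (by simp)]
  have k2 : (M ^ 2) *ᵥ ![0, 0, 1] = ![0, 0, 1] := by
    apply h.vec_inj
    rw [← h6, vw, h7 w (by simp)]
  ext i j
  have s0 : (![1, 0, 0] : Fin 3 → ZMod 2) = Pi.single 0 1 := by ext i; fin_cases i <;> rfl
  have s1 : (![0, 1, 0] : Fin 3 → ZMod 2) = Pi.single 1 1 := by ext i; fin_cases i <;> rfl
  have s2 : (![0, 0, 1] : Fin 3 → ZMod 2) = Pi.single 2 1 := by ext i; fin_cases i <;> rfl
  rw [s0] at k0
  rw [s1] at k1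
  rw [s2] at k2
  have key : ∀ j : Fin 3, (M ^ 2) *ᵥ (Pi.single j 1 : Fin 3 → ZMod 2) = Pi.single j 1 := by
    intro j
    fin_cases j
    · exact k0
    · exact k1
    · exact k2
  have h8 := congrFun (key j) i
  rw [Matrix.mulVec_single_one] at h8
  rw [Matrix.one_apply]
  change (M ^ 2) i j = _ at h8
  rw [h8, Pi.single_apply]

/-- **(3) of LEMMA NT.** -/
theorem false_of {n m w a a1 b : G} (h : Ind n m w)
    (an : a * n * a⁻¹ = n) (am : a * m * a⁻¹ = m * n) (aw : a * w * a⁻¹ = w ∨ a * w * a⁻¹ = w * n)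
    (a1n : a1 * n * a1⁻¹ = n * m) (a1m : a1 * m * a1⁻¹ = m) (a1w : a1 * w * a1⁻¹ = w ∨ a1 * w * a1⁻¹ = w * m)
    (bn : b * n * b⁻¹ = n * w) (bm : b * m * b⁻¹ = m ∨ b * m * b⁻¹ = m * w) (bw : b * w * b⁻¹ = w)
    (h4 : ∀ g ∈ closure ({a, a1, b} : Set G), (∀ u ∈ ({n, m, w} : Set G), g ^ 4 * u * (g ^ 4)⁻¹ = u) →
      ∀ u ∈ ({n, m, w} : Set G), g ^ 2 * u * (g ^ 2)⁻¹ = u) : False := by
  have ha : a ∈ closure ({a, a1, b} : Set G) := subset_closure (by simp)
  have ha1 : a1 ∈ closure ({a, a1, b} : Set G) := subset_closure (by simp)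
  have hb : b ∈ closure ({a, a1, b} : Set G) := subset_closure (by simp)
  have e1 : (1 : ZMod 2).val = 1 := by decide
  have cnm := h.cnm
  have cnw := h.cnw
  have cmw := h.cmw
  obtain ⟨f, Ha⟩ : ∃ f : ZMod 2, Act n m w a !![1, 1, f; 0, 1, 0; 0, 0, 1] := by
    rcases aw with aw | aw
    · refine ⟨0, Act.of h ?_ ?_ ?_⟩
      · rw [an]; simp [vec, e1]
      · rw [am]; simp [vec, e1, cnm]
      · rw [aw]; simp [vec, e1]
    · refine ⟨1, Act.of h ?_ ?_ ?_⟩
      · rw [an]; simp [vec, e1]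
      · rw [am]; simp [vec, e1, cnm]
      · rw [aw]; simp [vec, e1, cnw]
  obtain ⟨φ, Ha1⟩ : ∃ φ : ZMod 2, Act n m w a1 !![1, 0, 0; 1, 1, φ; 0, 0, 1] := by
    rcases a1w with a1w | a1w
    · refine ⟨0, Act.of h ?_ ?_ ?_⟩
      · rw [a1n]; simp [vec, e1]
      · rw [a1m]; simp [vec, e1]
      · rw [a1w]; simp [vec, e1]
    · refine ⟨1, Act.of h ?_ ?_ ?_⟩
      · rw [a1n]; simp [vec, e1]
      · rw [a1m]; simp [vec, e1]
      · rw [a1w]; simp [vec, e1, cmw]
  obtain ⟨ψ, Hb⟩ : ∃ ψ : ZMod 2, Act n m w b !![1, 0, 0; 0, 1, 0; 1, ψ, 1] := by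
    rcases bm with bm | bm
    · refine ⟨0, Act.of h ?_ ?_ ?_⟩
      · rw [bn]; simp [vec, e1]
      · rw [bm]; simp [vec, e1]
      · rw [bw]; simp [vec, e1]
    · refine ⟨1, Act.of h ?_ ?_ ?_⟩
      · rw [bn]; simp [vec, e1]
      · rw [bm]; simp [vec, e1]
      · rw [bw]; simp [vec, e1]
  rcases two f with rfl | rfl <;> rcases two φ with rfl | rfl <;> rcases two ψ with rfl | rfl
  · exact (Ha.mul Hb).no4 h (by decide +kernel) (by decide +kernel) (h4 _ (mul_mem ha hb))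
  · exact (Ha1.mul Hb).no4 h (by decide +kernel) (by decide +kernel) (h4 _ (mul_mem ha1 hb))
  · exact (Ha1.mul Hb).no4 h (by decide +kernel) (by decide +kernel) (h4 _ (mul_mem ha1 hb))
  · exact (((Hb.mul Ha1).mul (Hb.inv (by decide +kernel))).mul Ha).no4 h (by decide +kernel) (by decide +kernel)
      (h4 _ (mul_mem (mul_mem (mul_mem hb ha1) (inv_mem hb)) ha))
  · exact (Ha.mul (Ha1.mul Hb)).no4 h (by decide +kernel) (by decide +kernel) (h4 _ (mul_mem ha (mul_mem ha1 hb)))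
  · exact (Ha1.mul Hb).no4 h (by decide +kernel) (by decide +kernel) (h4 _ (mul_mem ha1 hb))
  · exact (Ha1.mul Hb).no4 h (by decide +kernel) (by decide +kernel) (h4 _ (mul_mem ha1 hb))
  · exact (Ha.mul (Ha1.mul ((Ha.mul Hb).mul (Ha.inv (by decide +kernel))))).no4 h (by decide +kernel)
      (by decide +kernel) (h4 _ (mul_mem ha (mul_mem ha1 (mul_mem (mul_mem ha hb) (inv_mem ha)))))

end Cfsg.Agent.Omega.NO3S.Sym.NTrans
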