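import Mathlib

/-!
# Three transvections with independent centres and no element of order 4

`n, m, w` independent commuting involutions, `U = ⟨n, m, w⟩`; `a, a₁, b` act on `U` as transvections with centres
`n, m, w`, `[m, a] = n`, `[n, a₁] = m`, `[n, b] = w`:

* `ord4` : the product of two transvections `(c, f)`, `(c', g)` with `f c' = 0`, `g c = 1` has order 4 on `U`;
* **`tv_false`** : some product of `a, a₁, b` has order 4 on `U`.
-/

set_option autoImplicit false
set_option linter.unusedSectionVars false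
set_option linter.unusedVariables false
set_option linter.unusedSimpArgs false

namespace Cfsg.Agent.Omega.NO3S.Sym.TvFour

open Subgroup

universe u

variable {G : Type u} [Group G]

/-- conjugation -/
def kk (α e : G) : G := α * e * α⁻¹

theorem kk_mul (α e e' : G) : kk α (e * e') = kk α e * kk α e' := by unfold kk; group

theorem kk_one (α : G) : kk α 1 = 1 := by unfold kk; group

theorem kk_inv (α e : G) : kk α e⁻¹ = (kk α e)⁻¹ := by unfold kk; group

theorem kk_comp (α β e : G) : kk (α * β) e = kk α (kk β e) := by unfold kk; group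

theorem kk_one' (e : G) : kk 1 e = e := by unfold kk; group

theorem kk_pow_succ (α e : G) (n : ℕ) : kk (α ^ (n + 1)) e = kk (α ^ n) (kk α e) := by
  rw [pow_succ, kk_comp]

theorem kk_cj (β α e : G) : kk (β * α * β⁻¹) (kk β e) = kk β (kk α e) := by unfold kk; group

/-- `α` acts on `U` trivially or as a transvection with centre `c` -/
def Tr (U : Subgroup G) (α c : G) : Prop := ∀ e ∈ U, kk α e = e ∨ kk α e = e * c

section

variable {U : Subgroup G} (hab : ∀ x ∈ U, ∀ y ∈ U, x * y = y * x) (hsq : ∀ x ∈ U, x * x = 1)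
include hab hsq

open scoped Classical in
theorem ord4 {α β c c' : G} (hc : c ∈ U) (hc' : c' ∈ U) (hα : Tr U α c) (hβ : Tr U β c') (h1 : kk α c = c)
    (h2 : kk α c' = c') (h3 : kk β c' = c') (h4 : kk β c = c * c') :
    (∀ e ∈ U, kk ((α * β) ^ 4) e = e) ∧ ∀ e ∈ U, kk α e = e * c → kk ((α * β) ^ 2) e = e * c' := by
  have uc : kk (α * β) c = c * c' := by rw [kk_comp, h4, kk_mul, h1, h2]
  have uc' : kk (α * β) c' = c' := by rw [kk_comp, h3, h2]
  have cc := hsq c hc
  have c'c' := hsq c' hc'
  have ccc : c' * c = c * c' := hab c' hc' c hc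
  have e2 : ∀ e ∈ U, kk ((α * β) ^ 2) e = if kk α e = e then e else e * c' := by
    intro e he
    rw [pow_two, kk_comp (α * β) (α * β)]
    have hce : c * e = e * c := hab c hc e he
    have hce' : c' * e = e * c' := hab c' hc' e he
    have r1 : ∀ x, c * (c * x) = x := fun x => by rw [← mul_assoc, cc, one_mul]
    have r2 : ∀ x, c' * (c' * x) = x := fun x => by rw [← mul_assoc, c'c', one_mul]
    have r3 : ∀ x, c' * (c * x) = c * (c' * x) := fun x => by rw [← mul_assoc, ccc, mul_assoc]
    have ne1 : kk α e = e * c → kk α e = e → c = 1 := fun h h' => by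
      have : e * c = e := h.symm.trans h'
      simpa using this
    have key : kk (α * β) e = kk α (kk β e) := kk_comp _ _ _
    rcases hα e he with ha | ha <;> rcases hβ e he with hb | hb
    · rw [hb, ha] at key
      rw [key, key, if_pos ha]
    · rw [hb, kk_mul, ha, h2] at key
      rw [key, kk_mul, key, uc', mul_assoc, c'c', mul_one, if_pos ha]
    · by_cases hc1 : c = 1
      · have h5 : c' = 1 := by
          rw [hc1] at h4
          rw [kk_one, one_mul] at h4
          exact h4.symm
        rw [hb, ha, hc1, mul_one] at key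
        rw [key, key, h5]
        simp
      · have hne : kk α e ≠ e := fun h' => hc1 (ne1 ha h')
        rw [hb, ha] at key
        rw [key, kk_mul, key, uc, if_neg hne]
        simp only [mul_assoc, r1]
    · by_cases hc1 : c = 1
      · have h5 : c' = 1 := by
          rw [hc1] at h4
          rw [kk_one, one_mul] at h4
          exact h4.symm
        rw [hb, h5, mul_one, ha, hc1, mul_one] at key
        rw [key, key, h5]
        simp
      · have hne : kk α e ≠ e := fun h' => hc1 (ne1 ha h')
        rw [hb, kk_mul, ha, h2] at key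
        rw [key, kk_mul, kk_mul, key, uc, uc', if_neg hne]
        simp only [mul_assoc, r1, r2, r3, c'c', mul_one]
  have e2c' : kk ((α * β) ^ 2) c' = c' := by
    rw [e2 c' hc', if_pos h2]
  refine ⟨fun e he => ?_, fun e he h => ?_⟩
  · have e4 : (α * β) ^ 4 = (α * β) ^ 2 * (α * β) ^ 2 := by rw [← pow_add]
    rw [e4, kk_comp]
    by_cases h : kk α e = e
    · have := e2 e he
      rw [if_pos h] at this
      rw [this, this]
    · have := e2 e he
      rw [if_neg h] at this
      rw [this, kk_mul, this, e2c', mul_assoc, c'c', mul_one]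
  · rw [e2 e he]
    by_cases h' : kk α e = e
    · have h5 : e * c = e := h.symm.trans h'
      have h6 : c = 1 := by simpa using h5
      rw [h6, kk_one, one_mul] at h4
      rw [if_pos h', ← h4, mul_one]
    · rw [if_neg h']

theorem Tr.of_gen {s : Set G} (hU : U = closure s) {α c : G} (hc : c ∈ U) (h1 : kk α c = c)
    (h : ∀ e ∈ s, kk α e = e ∨ kk α e = e * c) : Tr U α c := by
  intro e he
  have cc := hsq c hc
  rw [hU] at he
  induction he using closure_induction with
  | mem x hx => exact h x hx
  | one => left; exact kk_one α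
  | mul x y hx hy ihx ihy =>
    rw [← hU] at hx hy
    have hcy : c * y = y * c := hab c hc y hy
    rw [kk_mul]
    rcases ihx with k1 | k1 <;> rcases ihy with k2 | k2 <;> rw [k1, k2]
    · left; rfl
    · right; group
    · right; rw [mul_assoc x c y, hcy, mul_assoc]
    · left; rw [mul_assoc x c, ← mul_assoc c y c, hcy, mul_assoc y c c, cc, mul_one]
  | inv x hx ih =>
    rw [← hU] at hx
    have hcx : c * x⁻¹ = x⁻¹ * c := hab c hc _ (inv_mem hx)
    have hci : c⁻¹ = c := inv_eq_of_mul_eq_one_left cc
    rw [kk_inv]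
    rcases ih with k1 | k1 <;> rw [k1]
    · left; rfl
    · right; rw [mul_inv_rev, hci, hcx]

/-- **Some product of the three transvections has order 4 on `U`.** -/
theorem tv_false {n m w a a₁ b : G} {D : Subgroup G} (hU : U = closure {n, m, w})
    (hP : ∀ u ∈ D, (∀ e ∈ U, kk (u ^ 4) e = e) → ∀ e ∈ U, kk (u ^ 2) e = e)
    (aD : a ∈ D) (a₁D : a₁ ∈ D) (bD : b ∈ D)
    (n1 : n ≠ 1) (m1 : m ≠ 1) (w1 : w ≠ 1) (mw1 : m * w ≠ 1) (nmw : m * w * n ≠ 1)
    (an : kk a n = n) (am : kk a m = m * n) (aw : kk a w = w ∨ kk a w = w * n)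
    (a₁n : kk a₁ n = n * m) (a₁m : kk a₁ m = m) (a₁w : kk a₁ w = w ∨ kk a₁ w = w * m)
    (bn : kk b n = n * w) (bm : kk b m = m ∨ kk b m = m * w) (bw : kk b w = w) : False := by
  have hn : n ∈ U := hU ▸ subset_closure (by simp)
  have hm : m ∈ U := hU ▸ subset_closure (by simp)
  have hw : w ∈ U := hU ▸ subset_closure (by simp)
  have nn := hsq n hn
  have mm := hsq m hm
  have ww := hsq w hw
  have nm : m * n = n * m := hab m hm n hn
  have nw : w * n = n * w := hab w hw n hn
  have mw : w * m = m * w := hab w hw m hm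
  have n2 : ∀ x, n * (n * x) = x := fun x => by rw [← mul_assoc, nn, one_mul]
  have m2 : ∀ x, m * (m * x) = x := fun x => by rw [← mul_assoc, mm, one_mul]
  have w2 : ∀ x, w * (w * x) = x := fun x => by rw [← mul_assoc, ww, one_mul]
  have nm2 : ∀ x, m * (n * x) = n * (m * x) := fun x => by rw [← mul_assoc, nm, mul_assoc]
  have nw2 : ∀ x, w * (n * x) = n * (w * x) := fun x => by rw [← mul_assoc, nw, mul_assoc]
  have mw2 : ∀ x, w * (m * x) = m * (w * x) := fun x => by rw [← mul_assoc, mw, mul_assoc]
  have Ta : Tr U a n := Tr.of_gen hab hsq hU hn an (by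
    rintro e (rfl | rfl | rfl)
    · exact Or.inl an
    · exact Or.inr am
    · exact aw)
  have Ta₁ : Tr U a₁ m := Tr.of_gen hab hsq hU hm a₁m (by
    rintro e (rfl | rfl | rfl)
    · exact Or.inr a₁n
    · exact Or.inl a₁m
    · exact a₁w)
  have Tb : Tr U b w := Tr.of_gen hab hsq hU hw bw (by
    rintro e (rfl | rfl | rfl)
    · exact Or.inr bn
    · exact bm
    · exact Or.inl bw)
  -- a pair of order 4 is impossible
  have key : ∀ {α β c c' e0 : G}, α ∈ D → β ∈ D → c ∈ U → c' ∈ U → Tr U α c → Tr U β c' → kk α c = c →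
      kk α c' = c' → kk β c' = c' → kk β c = c * c' → e0 ∈ U → kk α e0 = e0 * c → c' ≠ 1 → False := by
    intro α β c c' e0 hα hβ hc hc' Tα Tβ h1 h2 h3 h4 he0 h5 h6
    obtain ⟨k1, k2⟩ := ord4 hab hsq hc hc' Tα Tβ h1 h2 h3 h4
    have h7 := hP (α * β) (mul_mem hα hβ) k1 e0 he0
    rw [k2 e0 he0 h5] at h7
    exact h6 (by simpa using h7)
  rcases a₁w with a₁w | a₁w <;> rcases bm with bm | bm
  · -- `φ = ψ = 0`
    rcases aw with aw | aw
    · exact key aD bD hn hw Ta Tb an aw bw bn hm am w1
    · have hc' : m * w ∈ U := mul_mem hm hw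
      have gn : kk (a₁ * b) n = n * (m * w) := by
        rw [kk_comp, bn, kk_mul, a₁n, a₁w]
        simp only [mul_assoc]
      have gm : kk (a₁ * b) m = m := by rw [kk_comp, bm, a₁m]
      have gw : kk (a₁ * b) w = w := by rw [kk_comp, bw, a₁w]
      have gc : kk (a₁ * b) (m * w) = m * w := by rw [kk_mul, gm, gw]
      have Tg : Tr U (a₁ * b) (m * w) := Tr.of_gen hab hsq hU hc' gc (by
        rintro e (rfl | rfl | rfl)
        · exact Or.inr gn
        · exact Or.inl gm
        · exact Or.inl gw)
      refine key aD (mul_mem a₁D bD) hn hc' Ta Tg an ?_ gc gn hm am mw1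
      rw [kk_mul, am, aw]
      simp only [mul_assoc, nm, nw, mw, nm2, nw2, mw2, n2, m2, w2, nn, mm, ww, mul_one]
  · -- `φ = 0`, `ψ = 1`
    exact key a₁D bD hm hw Ta₁ Tb a₁m a₁w bw bm hn a₁n w1
  · -- `φ = 1`, `ψ = 0`
    exact key bD a₁D hw hm Tb Ta₁ bw bm a₁m a₁w hn bn m1
  · -- `φ = ψ = 1`
    rcases aw with aw | aw
    · have hc : m * w ∈ U := mul_mem hm hw
      have gD : b * a₁ * b⁻¹ ∈ D := mul_mem (mul_mem bD a₁D) (inv_mem bD)
      have g1 : ∀ e, kk (b * a₁ * b⁻¹) (kk b e) = kk b (kk a₁ e) := fun e => kk_cj b a₁ e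
      generalize b * a₁ * b⁻¹ = g at gD g1
      have gn : kk g n = n := by
        have h := g1 (n * w)
        simp only [kk_mul b, kk_mul a₁, bn, bw, a₁n, a₁w, bm, a₁m, mul_assoc, nm, nw, mw, nm2, nw2, mw2, n2, m2, w2,
          nn, mm, ww, mul_one] at h
        exact h
      have gm : kk g m = m * (m * w) := by
        have h := g1 (m * w)
        simp only [kk_mul b, kk_mul a₁, bn, bw, a₁n, a₁w, bm, a₁m, mul_assoc, nm, nw, mw, nm2, nw2, mw2, n2, m2, w2,
          nn, mm, ww, mul_one] at h
        rw [h, m2]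
      have gc : kk g (m * w) = m * w := by
        have h := g1 m
        rwa [bm, a₁m, bm] at h
      have gw : kk g w = w * (m * w) := by
        have h := g1 w
        rw [bw, a₁w, kk_mul, bw, bm] at h
        exact h
      have Tg : Tr U g (m * w) := Tr.of_gen hab hsq hU hc gc (by
        rintro e (rfl | rfl | rfl)
        · exact Or.inl gn
        · exact Or.inr gm
        · exact Or.inr gw)
      refine key gD aD hc hn Tg Ta gc gn an ?_ hm gm n1
      rw [kk_mul, am, aw]
      simp only [mul_assoc, nm, nw, mw, nm2, nw2, mw2, n2, m2, w2, nn, mm, ww, mul_one]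
    · have hc' : m * w * n ∈ U := mul_mem (mul_mem hm hw) hn
      have gD : a * b * a⁻¹ ∈ D := mul_mem (mul_mem aD bD) (inv_mem aD)
      have g1 : ∀ e, kk (a * b * a⁻¹) (kk a e) = kk a (kk b e) := fun e => kk_cj a b e
      generalize a * b * a⁻¹ = g at gD g1
      have gn : kk g n = w := by
        have h := g1 n
        simp only [kk_mul b, kk_mul a, am, an, aw, bm, bn, bw, mul_assoc, nm, nw, mw, nm2, nw2, mw2, n2, m2, w2, nn, mm,
          ww, mul_one] at h
        exact h
      have gm : kk g m = m := by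
        have h := g1 (m * n)
        simp only [kk_mul b, kk_mul a, am, an, aw, bm, bn, bw, mul_assoc, nm, nw, mw, nm2, nw2, mw2, n2, m2, w2, nn, mm,
          ww, mul_one] at h
        exact h
      have gw : kk g w = n := by
        have h := g1 (w * n)
        simp only [kk_mul b, kk_mul a, am, an, aw, bm, bn, bw, mul_assoc, nm, nw, mw, nm2, nw2, mw2, n2, m2, w2, nn, mm,
          ww, mul_one] at h
        exact h
      have en : kk (a₁ * g) n = n * (m * w * n) := by
        rw [kk_comp, gn, a₁w]
        simp only [mul_assoc, nm, nw, mw, nm2, nw2, mw2, n2, m2, w2, nn, mm, ww, mul_one]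
      have em : kk (a₁ * g) m = m := by rw [kk_comp, gm, a₁m]
      have ew : kk (a₁ * g) w = w * (m * w * n) := by
        rw [kk_comp, gw, a₁n]
        simp only [mul_assoc, nm, nw, mw, nm2, nw2, mw2, n2, m2, w2, nn, mm, ww, mul_one]
      have ec : kk (a₁ * g) (m * w * n) = m * w * n := by
        rw [kk_mul, kk_mul, em, ew, en]
        simp only [mul_assoc, nm, nw, mw, nm2, nw2, mw2, n2, m2, w2, nn, mm, ww, mul_one]
      have Tg : Tr U (a₁ * g) (m * w * n) := Tr.of_gen hab hsq hU hc' ec (by
        rintro e (rfl | rfl | rfl)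
        · exact Or.inr en
        · exact Or.inl em
        · exact Or.inr ew)
      refine key aD (mul_mem a₁D gD) hn hc' Ta Tg an ?_ ec en hm am nmw
      rw [kk_mul, kk_mul, am, aw, an]
      simp only [mul_assoc, nm, nw, mw, nm2, nw2, mw2, n2, m2, w2, nn, mm, ww, mul_one]

end

end Cfsg.Agent.Omega.NO3S.Sym.TvFour
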