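import Cfsg.Agent.ZN.ChoiceBase
import Cfsg.Agent.Omega.SQ1.Bau
import Cfsg.Agent.Omega.NO3S.Sym.TvFour

/-!
# LEMMA NT, abstract (helper548)

`T₀` is a Sylow 2-subgroup of `Γ = ⟨T₀, x, g₀⟩`, `x ∈ N(T₀)`, `g₀ ∈ N(V) ∩ N(C_{T₀}(V))`; `E = ⟨V^Γ⟩` is elementary
abelian; `[V, T₀] ≤ ⟨n⟩`, `x` centralises `n`, `m = n^{g₀}`; some best offender of `T₀` on `E` moves `V`.

* `Bst.exists_tv` : some `a ∈ T₀` is a transvection of `E` with centre `n` and moves `V`;
* **`NT.mem`** : `x m x⁻¹ ∈ V` (otherwise three transvections, `TvFour.tv_false`).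
-/

set_option autoImplicit false
set_option linter.unusedSectionVars false
set_option linter.unusedVariables false

namespace Cfsg.Agent.Omega.NO3S.Sym.NormT

open Subgroup Cfsg Cfsg.Agent.ZN Cfsg.Agent.ZN.ChoiceBase
open Cfsg.Agent.Omega.NO3S.Sym.TvFour

universe u

variable {G : Type u} [Group G]

/-- `A` is best on `E` -/
def Bst (E A : Subgroup G) : Prop := ∀ B : Subgroup G, B ≤ A →
  Nat.card B * Nat.card ↥(E ⊓ centralizer (B : Set G)) ≤ Nat.card A * Nat.card ↥(E ⊓ centralizer (A : Set G))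

theorem Bst.cj {E A : Subgroup G} (h : Bst E A) {y : G} (hy : y ∈ normalizer (E : Set G)) :
    Bst E (ChoiceBase.cj y A) := by
  have e1 : ChoiceBase.cj y E = E := cj_eq_of_mem_normalizer hy
  have e2 : ∀ C : Subgroup G, Nat.card ↥(E ⊓ centralizer ((ChoiceBase.cj y C : Subgroup G) : Set G)) =
      Nat.card ↥(E ⊓ centralizer (C : Set G)) := by
    intro C
    conv_lhs => rw [← e1]
    rw [← cj_centralizer, ← cj_inf, card_cj]
  intro B hB
  have hB' : ChoiceBase.cj y⁻¹ B ≤ A := by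
    have := cj_mono y⁻¹ hB
    rwa [cj_inv_cj] at this
  have h1 := h _ hB'
  have e3 : ChoiceBase.cj y (ChoiceBase.cj y⁻¹ B) = B := cj_cj_inv y B
  have e4 := e2 (ChoiceBase.cj y⁻¹ B)
  rw [e3] at e4
  rw [card_cj] at h1
  rw [e2 A, card_cj, e4]
  exact h1

/-- restriction of `Bst` to a smaller module -/
theorem Bst.mono [Finite G] {X E A : Subgroup G} (hE : E ≤ X) (hab : ∀ x ∈ X, ∀ y ∈ X, x * y = y * x) (h : Bst X A) :
    Bst E A := by
  intro B hB
  have h1 := h B hB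
  have hc : centralizer (A : Set G) ≤ centralizer (B : Set G) := centralizer_le hB
  have h2 := SQ1.Bau.card_sup_comm (A := E ⊓ centralizer (B : Set G)) (B := X ⊓ centralizer (A : Set G))
    fun a ha b hb => hab a (hE (mem_inf.1 ha).1) b (mem_inf.1 hb).1
  have h3 : (E ⊓ centralizer (B : Set G)) ⊓ (X ⊓ centralizer (A : Set G)) = E ⊓ centralizer (A : Set G) := by
    ext x
    simp only [mem_inf]
    exact ⟨fun h => ⟨h.1.1, h.2.2⟩, fun h => ⟨⟨h.1, hc h.2⟩, hE h.1, h.2⟩⟩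
  rw [h3] at h2
  have h4 : Nat.card ↥((E ⊓ centralizer (B : Set G)) ⊔ (X ⊓ centralizer (A : Set G))) ≤
      Nat.card ↥(X ⊓ centralizer (B : Set G)) :=
    Subgroup.card_le_of_le (sup_le (inf_le_inf_right _ hE) (inf_le_inf_left _ hc))
  have hpos : 0 < Nat.card ↥(X ⊓ centralizer (A : Set G)) := Nat.card_pos
  set b := Nat.card B
  set a := Nat.card A
  set eb := Nat.card ↥(E ⊓ centralizer (B : Set G))
  set ea := Nat.card ↥(E ⊓ centralizer (A : Set G))
  set xb := Nat.card ↥(X ⊓ centralizer (B : Set G))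
  set xa := Nat.card ↥(X ⊓ centralizer (A : Set G))
  have h5 : (b * eb) * xa ≤ (a * ea) * xa := by
    calc (b * eb) * xa = b * (eb * xa) := by ring
      _ = b * (Nat.card ↥((E ⊓ centralizer (B : Set G)) ⊔ (X ⊓ centralizer (A : Set G))) * ea) := by rw [h2]
      _ ≤ b * (xb * ea) := Nat.mul_le_mul_left _ (Nat.mul_le_mul_right _ h4)
      _ = (b * xb) * ea := by ring
      _ ≤ (a * xa) * ea := Nat.mul_le_mul_right _ h1
      _ = (a * ea) * xa := by ring
  exact Nat.le_of_mul_le_mul_right h5 hpos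

/-- Sylow's theorem in `N` -/
theorem exists_cj_le [Finite G] {N T X : Subgroup G} (hT : IsPGroup 2 T)
    (hd : ¬ 2 ∣ T.relIndex N) (hX : IsPGroup 2 X) (hXN : X ≤ N) : ∃ c ∈ N, ∀ x ∈ X, c * x * c⁻¹ ∈ T := by
  have : Fact (Nat.Prime 2) := ⟨Nat.prime_two⟩
  have hX' : IsPGroup 2 (X.subgroupOf N) := hX.comap_subtype
  obtain ⟨S2, hS2⟩ := hX'.exists_le_sylow
  obtain ⟨c, hc⟩ := MulAction.exists_smul_eq N S2
    ((hT.comap_of_injective _ N.subtype_injective).toSylow hd)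
  refine ⟨c, c.2, fun x hx => ?_⟩
  have h1 : (⟨x, hXN hx⟩ : N) ∈ (S2 : Subgroup N) := hS2 (Subgroup.mem_subgroupOf.mpr hx)
  have h2 : c * ⟨x, hXN hx⟩ * c⁻¹ ∈ ((c • S2 : Sylow 2 N) : Subgroup N) := by
    rw [Sylow.coe_subgroup_smul]
    exact Subgroup.smul_mem_pointwise_smul _ (MulAut.conj c) _ h1
  rw [hc] at h2
  exact mem_subgroupOf.1 h2

/-- **The setting.** -/
structure NT (T0 V E Γ : Subgroup G) (x g0 n : G) : Prop where
  two : IsPGroup 2 T0
  syl : ¬ 2 ∣ T0.relIndex Γ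
  TΓ : T0 ≤ Γ
  xΓ : x ∈ Γ
  gΓ : g0 ∈ Γ
  gen : ∀ F : Subgroup G, T0 ≤ F → x ∈ F → g0 ∈ F → Γ ≤ F
  VE : V ≤ E
  ΓE : Γ ≤ normalizer (E : Set G)
  /-- `E = ⟨V^Γ⟩` -/
  EV : ∀ F : Subgroup G, V ≤ F → Γ ≤ normalizer (F : Set G) → E ≤ F
  ab : ∀ e ∈ E, ∀ f ∈ E, e * f = f * e
  sq : ∀ e ∈ E, e * e = 1
  xT : x ∈ normalizer (T0 : Set G)
  gV : g0 ∈ normalizer (V : Set G)
  gQ : g0 ∈ normalizer ((T0 ⊓ centralizer (V : Set G) : Subgroup G) : Set G)
  nV : n ∈ V
  n1 : n ≠ 1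
  xn : x * n * x⁻¹ = n
  Tn : ∀ t ∈ T0, t * n * t⁻¹ = n
  TV : ∀ t ∈ T0, ∀ v ∈ V, t * v * t⁻¹ = v ∨ t * v * t⁻¹ = v * n
  /-- the elements of `T₀` which move `V` move `n^{g₀}` and `n^{g₀⁻¹}` -/
  mv : ∀ t ∈ T0, (∃ v ∈ V, t * v * t⁻¹ ≠ v) → t * (g0 * n * g0⁻¹) * t⁻¹ = g0 * n * g0⁻¹ * n ∧
    t * (g0⁻¹ * n * g0) * t⁻¹ = g0⁻¹ * n * g0 * n
  ex : ∃ A : Subgroup G, A ≤ T0 ∧ Bst E A ∧ ¬ A ≤ centralizer (V : Set G)

namespace NT

variable {T0 V E Γ : Subgroup G} {x g0 n : G} (h : NT T0 V E Γ x g0 n)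
include h

/-- **A transvection of `E` in `T₀` which moves `V`.** -/
theorem exists_tv [Finite G] : ∃ a ∈ T0, Tr E a n ∧ ∃ v ∈ V, a * v * a⁻¹ ≠ v := by
  classical
  obtain ⟨A0, hA0T, hA0B, hA0V⟩ := h.ex
  have hA0E : ¬ A0 ≤ centralizer (E : Set G) := fun hc => hA0V (hc.trans (centralizer_le h.VE))
  -- minimal members
  let 𝓐 : Set (Subgroup G) := {A | A ≤ T0 ∧ Bst E A ∧ ¬ A ≤ centralizer (E : Set G)}
  obtain ⟨A1, ⟨hA1T, hA1B, hA1E⟩, hmin⟩ : ∃ A ∈ 𝓐, ∀ B ∈ 𝓐, Nat.card A ≤ Nat.card B := by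
    have hne : ((fun A : Subgroup G => Nat.card A) '' 𝓐).Nonempty := ⟨_, A0, ⟨hA0T, hA0B, hA0E⟩, rfl⟩
    obtain ⟨A, hA, hA'⟩ := Nat.sInf_mem hne
    exact ⟨A, hA, fun B hB => hA'.trans_le (Nat.sInf_le ⟨B, hB, rfl⟩)⟩
  -- some minimal member moves `V`
  obtain ⟨A, hAT, hAB, hAc, hAV⟩ : ∃ A : Subgroup G, A ≤ T0 ∧ Bst E A ∧ Nat.card A = Nat.card A1 ∧
      ¬ A ≤ centralizer (V : Set G) := by
    by_contra hcon
    push Not at hcon
    let 𝓑 : Set (Subgroup G) := {A | A ≤ T0 ∧ Bst E A ∧ Nat.card A = Nat.card A1}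
    have hone : ∀ y ∈ normalizer (E : Set G), (∀ A ∈ 𝓑, ChoiceBase.cj y A ≤ T0) → ∀ A ∈ 𝓑, ChoiceBase.cj y A ∈ 𝓑 := by
      rintro y hy hT A ⟨h1, h2, h3⟩
      exact ⟨hT A ⟨h1, h2, h3⟩, h2.cj hy, by rw [card_cj, h3]⟩
    let F0 : Subgroup G :=
      { carrier := {y | y ∈ normalizer (E : Set G) ∧ (∀ A ∈ 𝓑, ChoiceBase.cj y A ∈ 𝓑) ∧
          ∀ A ∈ 𝓑, ChoiceBase.cj y⁻¹ A ∈ 𝓑}
        one_mem' := ⟨one_mem _, fun A hA => by rwa [cj_one], fun A hA => by rwa [inv_one, cj_one]⟩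
        mul_mem' := by
          rintro y z ⟨h1, h2, h3⟩ ⟨k1, k2, k3⟩
          exact ⟨mul_mem h1 k1, fun A hA => by rw [← cj_cj]; exact h2 _ (k2 A hA), fun A hA => by
            rw [mul_inv_rev, ← cj_cj]; exact k3 _ (h3 A hA)⟩
        inv_mem' := by
          rintro y ⟨h1, h2, h3⟩
          exact ⟨inv_mem h1, h3, fun A hA => by rw [inv_inv]; exact h2 A hA⟩ }
    have hF0 : Γ ≤ F0 := by
      have hTt : ∀ y ∈ normalizer (T0 : Set G), ∀ A ∈ 𝓑, ChoiceBase.cj y A ≤ T0 := by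
        rintro y hy A ⟨h1, -, -⟩
        have := cj_mono y h1
        rwa [cj_eq_of_mem_normalizer hy] at this
      have hgt : ∀ y ∈ normalizer ((T0 ⊓ centralizer (V : Set G) : Subgroup G) : Set G), ∀ A ∈ 𝓑,
          ChoiceBase.cj y A ≤ T0 := by
        rintro y hy A ⟨h1, h2, h3⟩
        have := cj_mono y (le_inf h1 (hcon A h1 h2 h3))
        rw [cj_eq_of_mem_normalizer hy] at this
        exact this.trans inf_le_left
      refine h.gen F0 (fun t ht => ?_) ?_ ?_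
      · have hE := h.ΓE (h.TΓ ht)
        have hN := Subgroup.le_normalizer ht
        exact ⟨hE, hone t hE (hTt t hN), hone _ (inv_mem hE) (hTt _ (inv_mem hN))⟩
      · have hE := h.ΓE h.xΓ
        exact ⟨hE, hone _ hE (hTt _ h.xT), hone _ (inv_mem hE) (hTt _ (inv_mem h.xT))⟩
      · have hE := h.ΓE h.gΓ
        exact ⟨hE, hone _ hE (hgt _ h.gQ), hone _ (inv_mem hE) (hgt _ (inv_mem h.gQ))⟩
    let F : Subgroup G :=
      { carrier := {e | ∀ A ∈ 𝓑, ∀ a ∈ A, a * e = e * a}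
        one_mem' := fun A _ a _ => by rw [mul_one, one_mul]
        mul_mem' := by
          intro e f he hf A hA a ha
          rw [← mul_assoc, he A hA a ha, mul_assoc, hf A hA a ha, mul_assoc]
        inv_mem' := by
          intro e he A hA a ha
          have : Commute a e := he A hA a ha
          exact this.inv_right }
    have hEF : E ≤ F := by
      refine h.EV F (fun v hv A hA a ha => ?_) (fun y hy => ?_)
      · exact (mem_centralizer_iff.1 (hcon A hA.1 hA.2.1 hA.2.2 ha) v hv).symm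
      · obtain ⟨-, h2, h3⟩ := hF0 hy
        have key : ∀ y, (∀ A ∈ 𝓑, ChoiceBase.cj y⁻¹ A ∈ 𝓑) → ∀ e ∈ F, y * e * y⁻¹ ∈ F := by
          intro y h3 e he A hA a ha
          have h4 := he _ (h3 A hA) (y⁻¹ * a * y) (mem_cj.2 (by
            have e1 : y⁻¹⁻¹ * (y⁻¹ * a * y) * y⁻¹ = a := by group
            rw [e1]; exact ha))
          have e2 : a * (y * e * y⁻¹) = y * ((y⁻¹ * a * y) * e) * y⁻¹ := by group
          rw [e2, h4]; group
        rw [mem_normalizer_iff]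
        refine fun e => ⟨fun he => key y h3 e he, fun he => ?_⟩
        have := key y⁻¹ (by rw [inv_inv]; exact h2) _ he
        have e1 : y⁻¹ * (y * e * y⁻¹) * y⁻¹⁻¹ = e := by group
        rwa [e1] at this
    exact hA1E fun a ha => mem_centralizer_iff.2 fun e he => (hEF he A1 ⟨hA1T, hA1B, rfl⟩ a ha).symm
  obtain ⟨a, ha, haV⟩ := SetLike.not_le_iff_exists.1 hAV
  rw [mem_centralizer_iff] at haV
  push Not at haV
  obtain ⟨v, hv, hne⟩ := haV
  have hne' : a * v * a⁻¹ ≠ v := fun e => hne (mul_inv_eq_iff_eq_mul.1 e).symm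
  refine ⟨a, hAT ha, ?_, v, hv, hne'⟩
  -- the hyperplane `C_A(v)`
  set B : Subgroup G := A ⊓ centralizer ({v} : Set G) with hBdef
  have hBA : B ≤ A := inf_le_left
  have haB : a ∉ B := fun h1 => hne' (mul_inv_eq_iff_eq_mul.2 (mem_centralizer_singleton_iff.1 h1.2))
  have hidx : (B.subgroupOf A).index = 2 := by
    rw [index_eq_two_iff]
    refine ⟨⟨a, ha⟩, fun b => ?_⟩
    have hb : (b : G) ∈ A := b.2
    have hmem : ∀ y : A, y ∈ B.subgroupOf A ↔ (y : G) * v * (y : G)⁻¹ = v := by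
      intro y
      rw [mem_subgroupOf, hBdef, mem_inf, mem_centralizer_singleton_iff]
      exact ⟨fun h1 => mul_inv_eq_iff_eq_mul.2 h1.2, fun h1 => ⟨y.2, mul_inv_eq_iff_eq_mul.1 h1⟩⟩
    rw [hmem, hmem]
    have hav : a * v * a⁻¹ = v * n := (h.TV a (hAT ha) v hv).resolve_left hne'
    have e1 : ((b * ⟨a, ha⟩ : A) : G) * v * ((b * ⟨a, ha⟩ : A) : G)⁻¹ = (b : G) * (a * v * a⁻¹) * (b : G)⁻¹ := by
      simp only [Subgroup.coe_mul]; group
    have hn := h.Tn b (hAT hb)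
    have nn := h.sq n (h.VE h.nV)
    rw [e1, hav]
    have e2 : (b : G) * (v * n) * (b : G)⁻¹ = (b * v * (b : G)⁻¹) * (b * n * (b : G)⁻¹) := by group
    rw [e2, hn]
    rcases h.TV b (hAT hb) v hv with k | k
    · rw [k]
      right
      exact ⟨rfl, fun e => h.n1 (by simpa using e)⟩
    · rw [k, mul_assoc, nn, mul_one]
      left
      exact ⟨rfl, fun e => h.n1 (by simpa using e)⟩
  have hcard : Nat.card A = 2 * Nat.card B := by
    have := Subgroup.card_mul_index (B.subgroupOf A)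
    rw [hidx, Nat.card_congr (subgroupOfEquivOfLe hBA).toEquiv] at this
    omega
  set EB : Subgroup G := E ⊓ centralizer (B : Set G) with hEB
  set EA : Subgroup G := E ⊓ centralizer (A : Set G) with hEA
  have hEAB : EA ≤ EB := inf_le_inf_left _ (centralizer_le hBA)
  have hvB : v ∈ EB := mem_inf.2 ⟨h.VE hv, mem_centralizer_iff.2 fun b hb => mem_centralizer_singleton_iff.1 hb.2⟩
  have hvA : v ∉ EA := fun h1 => hne' (mul_inv_eq_iff_eq_mul.2 (mem_centralizer_iff.1 h1.2 a ha))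
  have h2 : 2 * Nat.card EA ≤ Nat.card EB := by
    have := Subgroup.card_mul_index (EA.subgroupOf EB)
    rw [Nat.card_congr (subgroupOfEquivOfLe hEAB).toEquiv] at this
    have h3 : (EA.subgroupOf EB).index ≠ 1 := by
      intro e
      rw [index_eq_one, subgroupOf_eq_top] at e
      exact hvA (e hvB)
    have h4 : (EA.subgroupOf EB).index ≠ 0 := index_ne_zero_of_finite
    have h5 : 2 ≤ (EA.subgroupOf EB).index := by omega
    nlinarith
  have hBpos : 0 < Nat.card B := Nat.card_pos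
  have hBst : Bst E B := by
    intro C hC
    have h3 := hAB C (hC.trans hBA)
    have h4 := hAB B hBA
    rw [← hEB, ← hEA, hcard] at h4
    rw [← hEA, hcard] at h3
    rw [← hEB]
    nlinarith
  have hBE : B ≤ centralizer (E : Set G) := by
    by_contra hcon
    have h3 := hmin B ⟨hBA.trans hAT, hBst, hcon⟩
    rw [← hAc, hcard] at h3
    omega
  have hEBE : EB = E := by
    rw [hEB, inf_eq_left]
    exact le_centralizer_iff.1 hBE
  have h6 : Nat.card E ≤ 2 * Nat.card EA := by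
    have h4 := hAB B hBA
    rw [← hEB, ← hEA, hcard, hEBE] at h4
    nlinarith
  have hAE : EA ≤ E := inf_le_left
  have hidx2 : (EA.subgroupOf E).index = 2 := by
    have := Subgroup.card_mul_index (EA.subgroupOf E)
    rw [Nat.card_congr (subgroupOfEquivOfLe hAE).toEquiv] at this
    rw [hEBE] at h2
    have hpos : 0 < Nat.card EA := Nat.card_pos
    nlinarith
  intro e he
  by_cases heA : e ∈ EA
  · left
    exact mul_inv_eq_iff_eq_mul.2 (mem_centralizer_iff.1 heA.2 a ha)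
  · right
    have h7 := (Subgroup.mul_mem_iff_of_index_two hidx2 (a := ⟨e, he⟩) (b := ⟨v⁻¹, inv_mem (h.VE hv)⟩)).2 (by
      rw [mem_subgroupOf, mem_subgroupOf]
      exact ⟨fun h1 => absurd h1 heA, fun h1 => absurd ((inv_mem_iff).1 h1) hvA⟩)
    rw [mem_subgroupOf] at h7
    have h8 : e * v⁻¹ ∈ EA := h7
    have h9 : a * (e * v⁻¹) * a⁻¹ = e * v⁻¹ := mul_inv_eq_iff_eq_mul.2 (mem_centralizer_iff.1 h8.2 a ha)
    have hav : a * v * a⁻¹ = v * n := (h.TV a (hAT ha) v hv).resolve_left hne'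
    show a * e * a⁻¹ = e * n
    calc a * e * a⁻¹ = (a * (e * v⁻¹) * a⁻¹) * (a * v * a⁻¹) := by group
      _ = e * n := by rw [h9, hav]; group

omit h in
/-- `Tr` is inherited by conjugates -/
theorem tr_cj {E : Subgroup G} {a c y : G} (hy : y ∈ normalizer (E : Set G)) (ht : Tr E a c) :
    Tr E (y * a * y⁻¹) (y * c * y⁻¹) := by
  intro e he
  have he' : y⁻¹ * e * y ∈ E := by
    have := (mem_normalizer_iff.1 (inv_mem hy) e).1 he
    rwa [inv_inv] at this
  rcases ht _ he' with k | k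
  · left
    unfold kk at k ⊢
    calc y * a * y⁻¹ * e * (y * a * y⁻¹)⁻¹ = y * (a * (y⁻¹ * e * y) * a⁻¹) * y⁻¹ := by group
      _ = e := by rw [k]; group
  · right
    unfold kk at k ⊢
    calc y * a * y⁻¹ * e * (y * a * y⁻¹)⁻¹ = y * (a * (y⁻¹ * e * y) * a⁻¹) * y⁻¹ := by group
      _ = e * (y * c * y⁻¹) := by rw [k]; group

/-- **LEMMA NT.** -/
theorem mem [Finite G] : x * (g0 * n * g0⁻¹) * x⁻¹ ∈ V := by
  by_contra hw
  obtain ⟨a, ha, hta, v, hv, hav⟩ := h.exists_tv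
  obtain ⟨hm1, hm2⟩ := h.mv a ha ⟨v, hv, hav⟩
  set m := g0 * n * g0⁻¹ with hm
  set w := x * m * x⁻¹ with hwdef
  have hxE := h.ΓE h.xΓ
  have hgE := h.ΓE h.gΓ
  have hnE : n ∈ E := h.VE h.nV
  have hmV : m ∈ V := (mem_normalizer_iff.1 h.gV n).1 h.nV
  have hmE : m ∈ E := h.VE hmV
  have hwE : w ∈ E := (mem_normalizer_iff.1 hxE m).1 hmE
  have hnn := h.sq n hnE
  have hmm := h.sq m hmE
  have hww := h.sq w hwE
  set a₁ := g0 * a * g0⁻¹ with ha₁
  set b := x * a₁ * x⁻¹ with hb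
  have hta₁ : Tr E a₁ m := tr_cj hgE hta
  have htb : Tr E b w := tr_cj hxE hta₁
  have an : kk a n = n := h.Tn a ha
  have am : kk a m = m * n := hm1
  have a₁n : kk a₁ n = n * m := by
    have e : kk a₁ n = g0 * (a * (g0⁻¹ * n * g0) * a⁻¹) * g0⁻¹ := by unfold kk; rw [ha₁]; group
    rw [e, hm2, hm]; group
  have a₁m : kk a₁ m = m := by
    have e : kk a₁ m = g0 * (a * n * a⁻¹) * g0⁻¹ := by unfold kk; rw [ha₁, hm]; group
    rw [e, h.Tn a ha]
  have hxn : x⁻¹ * n * x = n := by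
    calc x⁻¹ * n * x = x⁻¹ * (x * n * x⁻¹) * x := by rw [h.xn]
      _ = n := by group
  have bn : kk b n = n * w := by
    have e : kk b n = x * (kk a₁ (x⁻¹ * n * x)) * x⁻¹ := by unfold kk; rw [hb]; group
    rw [e, hxn, a₁n]
    calc x * (n * m) * x⁻¹ = (x * n * x⁻¹) * (x * m * x⁻¹) := by group
      _ = n * w := by rw [h.xn]
  have bw : kk b w = w := by
    have e : kk b w = x * (kk a₁ m) * x⁻¹ := by unfold kk; rw [hb, hwdef]; group
    rw [e, a₁m]
  -- `U`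
  set U : Subgroup G := closure {n, m, w} with hU
  have hUE : U ≤ E := by
    rw [hU, closure_le]
    rintro y (rfl | rfl | rfl)
    · exact hnE
    · exact hmE
    · exact hwE
  have hnU : n ∈ U := subset_closure (by simp)
  have hmU : m ∈ U := subset_closure (by simp)
  have hwU : w ∈ U := subset_closure (by simp)
  have hUab : ∀ y ∈ U, ∀ z ∈ U, y * z = z * y := fun y hy z hz => h.ab y (hUE hy) z (hUE hz)
  have hUsq : ∀ y ∈ U, y * y = 1 := fun y hy => h.sq y (hUE hy)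
  -- `T₀` acts on `U` with centre `n`
  have hTw : ∀ t ∈ T0, kk t w = w ∨ kk t w = w * n := by
    intro t ht
    have ht' : x⁻¹ * t * x ∈ T0 := by
      have := (mem_normalizer_iff.1 (inv_mem h.xT) t).1 ht
      rwa [inv_inv] at this
    have e : kk t w = x * ((x⁻¹ * t * x) * m * (x⁻¹ * t * x)⁻¹) * x⁻¹ := by unfold kk; rw [hwdef]; group
    rcases h.TV _ ht' m hmV with k | k
    · left; rw [e, k]
    · right
      rw [e, k]
      calc x * (m * n) * x⁻¹ = (x * m * x⁻¹) * (x * n * x⁻¹) := by group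
        _ = w * n := by rw [h.xn]
  have hTU : ∀ t ∈ T0, Tr U t n := by
    intro t ht
    refine Tr.of_gen hUab hUsq hU hnU (h.Tn t ht) ?_
    rintro e (rfl | rfl | rfl)
    · exact Or.inl (h.Tn t ht)
    · exact h.TV t ht m hmV
    · exact hTw t ht
  -- the group `D`
  set D : Subgroup G := closure ((T0 : Set G) ∪ {a₁, b}) with hD
  have hTD : T0 ≤ D := fun t ht => subset_closure (Or.inl ht)
  have ha₁D : a₁ ∈ D := subset_closure (Or.inr (by simp))
  have hbD : b ∈ D := subset_closure (Or.inr (by simp))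
  have haΓ : a ∈ Γ := h.TΓ ha
  have ha₁Γ : a₁ ∈ Γ := mul_mem (mul_mem h.gΓ haΓ) (inv_mem h.gΓ)
  have hbΓ : b ∈ Γ := mul_mem (mul_mem h.xΓ ha₁Γ) (inv_mem h.xΓ)
  have hDΓ : D ≤ Γ := by
    rw [hD, closure_le]
    rintro y (hy | rfl | rfl)
    · exact h.TΓ hy
    · exact ha₁Γ
    · exact hbΓ
  have hDU : D ≤ normalizer (U : Set G) := by
    have key : ∀ y c, c ∈ U → Tr U y c → y ∈ normalizer (U : Set G) := by
      intro y c hc ht
      refine mem_normalizer_of_cj_le ?_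
      rintro _ ⟨e, he, rfl⟩
      rcases ht e he with k | k
      · show kk y e ∈ U
        rw [k]; exact he
      · show kk y e ∈ U
        rw [k]; exact mul_mem he hc
    rw [hD, closure_le]
    rintro y (hy | rfl | rfl)
    · exact key y n hnU (hTU y hy)
    · exact key _ m hmU fun e he => hta₁ e (hUE he)
    · exact key _ w hwU fun e he => htb e (hUE he)
  have hsylD : ¬ 2 ∣ T0.relIndex D := fun h2 => h.syl (h2.trans
    (Dvd.intro _ (relIndex_mul_relIndex T0 D Γ hTD hDΓ)))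
  have hkU : ∀ u ∈ D, ∀ e ∈ U, kk u e ∈ U := fun u hu e he => (mem_normalizer_iff.1 (hDU hu) e).1 he
  -- no element of `D` acts with order 4
  have hP : ∀ u ∈ D, (∀ e ∈ U, kk (u ^ 4) e = e) → ∀ e ∈ U, kk (u ^ 2) e = e := by
    intro u hu h4 e he
    obtain ⟨k, r, hr, ho⟩ := Nat.exists_eq_two_pow_mul_odd (orderOf_pos u).ne'
    have hru : IsPGroup 2 (zpowers (u ^ r)) := by
      rw [IsPGroup.iff_card, Nat.card_zpowers]
      refine ⟨k, ?_⟩
      rw [orderOf_pow, ho]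
      have hrpos : 0 < r := hr.pos
      rw [Nat.gcd_eq_right (Dvd.intro_left _ rfl), Nat.mul_div_cancel _ hrpos]
    have hruD : zpowers (u ^ r) ≤ D := by
      rw [zpowers_le]
      exact pow_mem hu r
    obtain ⟨c, hc, hcT⟩ := exists_cj_le h.two hsylD hru hruD
    have ht := hcT _ (mem_zpowers (u ^ r))
    set t := c * u ^ r * c⁻¹ with htdef
    have ht2 : ∀ f ∈ U, kk (t ^ 2) f = f := by
      intro f hf
      rw [pow_two, kk_comp]
      rcases hTU t ht f hf with k | k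
      · rw [k, k]
      · rw [k, kk_mul, k, h.Tn t ht |> (fun e => (show kk t n = n from e)), mul_assoc, hnn, mul_one]
    have hr2 : ∀ f ∈ U, kk (u ^ (2 * r)) f = f := by
      intro f hf
      have e1 : u ^ (2 * r) = c⁻¹ * t ^ 2 * c := by
        rw [mul_comm 2 r, pow_mul, htdef, conj_pow]; group
      rw [e1, kk_comp, kk_comp, ht2 _ (hkU c hc f hf)]
      unfold kk; group
    obtain ⟨s, hs⟩ := hr
    have h4s : ∀ s : ℕ, ∀ f ∈ U, kk ((u ^ 4) ^ s) f = f := by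
      intro s
      induction s with
      | zero => intro f _; rw [pow_zero]; exact kk_one' f
      | succ s ih => intro f hf; rw [pow_succ, kk_comp, h4 f hf, ih f hf]
    have e2 : u ^ (2 * r) = (u ^ 4) ^ s * u ^ 2 := by
      rw [hs, ← pow_mul, ← pow_add]; ring_nf
    have h5 := hr2 e he
    rw [e2, kk_comp, h4s s _ (hkU _ (pow_mem hu 2) e he)] at h5
    exact h5
  have hm1' : m ≠ 1 := by
    intro e
    apply h.n1
    have : n = g0⁻¹ * m * g0 := by rw [hm]; group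
    rw [this, e]; group
  refine tv_false (D := D) hUab hUsq hU hP (hTD ha) ha₁D hbD h.n1 hm1' ?_ ?_ ?_ an am ?_ a₁n a₁m ?_ bn ?_ bw
  · exact fun e => hw (e ▸ one_mem _)
  · intro e
    apply hw
    have : w = m⁻¹ := (inv_eq_of_mul_eq_one_right e).symm
    rw [this]; exact inv_mem hmV
  · intro e
    apply hw
    have : w = m⁻¹ * n⁻¹ := by
      calc w = m⁻¹ * (m * w * n) * n⁻¹ := by group
        _ = m⁻¹ * n⁻¹ := by rw [e, mul_one]
    rw [this]; exact mul_mem (inv_mem hmV) (inv_mem h.nV)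
  · exact hta w hwE
  · exact hta₁ w hwE
  · exact htb m hmE

end NT

end Cfsg.Agent.Omega.NO3S.Sym.NormT
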