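import Cfsg.Agent.Omega.NO3S.Sym.Graph
import Cfsg.Agent.Omega.OM.KTwo.OddOrth

/-!
# NO-3S: polar modules `Sp_{2n}(2)` and `O_{2n+1}(2)` in one structure

`PMod C N r Om B` : `C` acts on the elementary abelian group `N` with an invariant symplectic form `B` with radical
`⟨r⟩` (`r = 1` allowed), `Om` the invariant set of singular vectors: every element of `N` is `1`, `r`, `u` or `u r`
with `u ∈ Om`; the transvections `x ↦ x (u r)^{B(x, u)}` (`u ∈ Om`) are induced by elements of `C`.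

* `tra` : the stabiliser of `u₀ ∈ Om` is transitive on `Om ∩ u₀^⊥ - {u₀}`;
* `eq_of_fix`, `tv_of_fix` : an element of `C` trivial on `u₀^⊥` acts as `1` or as the transvection;
* `trans` : a subgroup inducing all transvections is transitive on `Om`;
* `two` : `N` is generated by two hyperplanes `u^⊥`, `u'^⊥`.
-/

set_option autoImplicit false

namespace Cfsg.Agent.Omega.NO3S.Sym.Pol

open Subgroup Cfsg Cfsg.Agent.Omega.OM.KTwo

universe u

variable {G : Type u} [Group G]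

/-- **`C` acts on `N` as `Sp_{2n}(2)` (`r = 1`) or `O_{2n+1}(2)`.** -/
structure PMod (C N : Subgroup G) (r : G) (Om : Set G) (B : G → G → ZMod 2) : Prop where
  nor : ∀ c ∈ C, ∀ x ∈ N, c * x * c⁻¹ ∈ N
  comm : ∀ x ∈ N, ∀ y ∈ N, x * y = y * x
  sq : ∀ x ∈ N, x * x = 1
  B_mul : ∀ x ∈ N, ∀ y ∈ N, ∀ w ∈ N, B (x * y) w = B x w + B y w
  symm : ∀ x ∈ N, ∀ y ∈ N, B x y = B y x
  B_self : ∀ x ∈ N, B x x = 0
  B_conj : ∀ c ∈ C, ∀ x ∈ N, ∀ y ∈ N, B (c * x * c⁻¹) (c * y * c⁻¹) = B x y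
  r_mem : r ∈ N
  B_r : ∀ x ∈ N, B x r = 0
  rad : ∀ x ∈ N, (∀ y ∈ N, B x y = 0) → x = 1 ∨ x = r
  om_mem : ∀ u ∈ Om, u ∈ N
  om_one : ∀ u ∈ Om, u ≠ 1
  om_r : ∀ u ∈ Om, u ≠ r
  om_conj : ∀ c ∈ C, ∀ u ∈ Om, c * u * c⁻¹ ∈ Om
  sing : ∀ x ∈ N, x = 1 ∨ x = r ∨ x ∈ Om ∨ x * r ∈ Om
  hyp : ∀ u ∈ Om, ∀ u' ∈ Om, B u u' = 1 → u * u' * r ∈ Om
  par : ∀ u ∈ Om, ∀ u' ∈ Om, u ≠ u' → B u u' = 0 → u * u' ∈ Om
  ns : ∀ u ∈ Om, u * r ∈ Om → r = 1
  tv : ∀ u ∈ Om, ∃ g ∈ C, Tv N r B u g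

namespace PMod

variable {C N : Subgroup G} {r : G} {Om : Set G} {B : G → G → ZMod 2} (O : PMod C N r Om B)
include O

theorem B_mul' {x y w : G} (hx : x ∈ N) (hy : y ∈ N) (hw : w ∈ N) : B w (x * y) = B w x + B w y := by
  rw [O.symm w hw _ (mul_mem hx hy), O.B_mul x hx y hy w hw, O.symm x hx w hw, O.symm y hy w hw]

theorem B_one {x : G} (hx : x ∈ N) : B 1 x = 0 := by
  have h := O.B_mul 1 (one_mem N) 1 (one_mem N) x hx
  rw [mul_one] at h
  rcases zmod_two (B 1 x) with h1 | h1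
  · exact h1
  · rw [h1] at h
    exact absurd h (by decide)

theorem B_one' {x : G} (hx : x ∈ N) : B x 1 = 0 := by rw [O.symm x hx 1 (one_mem N), O.B_one hx]

theorem B_r' {x : G} (hx : x ∈ N) : B r x = 0 := by rw [O.symm r O.r_mem x hx, O.B_r x hx]

theorem B_mul_r {x y : G} (hx : x ∈ N) (hy : y ∈ N) : B (x * r) y = B x y := by
  rw [O.B_mul x hx r O.r_mem y hy, O.B_r' hy, add_zero]

theorem B_mul_r' {x y : G} (hx : x ∈ N) (hy : y ∈ N) : B y (x * r) = B y x := by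
  rw [O.B_mul' hx O.r_mem hy, O.B_r y hy, add_zero]

theorem rr : r * r = 1 := O.sq r O.r_mem

/-- one of `x`, `x r` is singular, if `x` is not radical -/
theorem exists_sing {x y : G} (hx : x ∈ N) (hy : y ∈ N) (hB : B x y = 1) :
    ∃ x' ∈ Om, (x' = x ∨ x' = x * r) ∧ ∀ y ∈ N, B x' y = B x y := by
  rcases O.sing x hx with h | h | h | h
  · rw [h, O.B_one hy] at hB
    exact absurd hB (by decide)
  · rw [h, O.B_r' hy] at hB
    exact absurd hB (by decide)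
  · exact ⟨x, h, Or.inl rfl, fun _ _ => rfl⟩
  · exact ⟨x * r, h, Or.inr rfl, fun y hy => O.B_mul_r hx hy⟩

/-- a singular vector is not orthogonal to everything -/
theorem exists_B {u : G} (hu : u ∈ Om) : ∃ y ∈ N, B y u = 1 := by
  by_contra hcon
  push Not at hcon
  rcases O.rad u (O.om_mem u hu) fun y hy => by
    rcases zmod_two (B u y) with h | h
    · exact h
    · exact absurd ((O.symm y hy u (O.om_mem u hu)).trans h) (hcon y hy) with h | h
  · exact O.om_one u hu h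
  · exact O.om_r u hu h

/-- `B(·, y)` vanishing on `u^⊥` is `0` or `B(·, u)` -/
theorem eq_of_perp {u y : G} (hu : u ∈ N) (hy : y ∈ N) (h : ∀ x ∈ N, B x u = 0 → B x y = 0) :
    y = 1 ∨ y = r ∨ y = u ∨ y = u * r := by
  by_cases h1 : ∀ x ∈ N, B x y = 0
  · rcases O.rad y hy fun x hx => (O.symm y hy x hx).trans (h1 x hx) with h2 | h2
    · exact Or.inl h2
    · exact Or.inr (Or.inl h2)
  push Not at h1
  obtain ⟨a, ha, ha1⟩ := h1
  have ha2 : B a y = 1 := (zmod_two _).resolve_left ha1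
  have ha3 : B a u = 1 := (zmod_two _).resolve_left fun h3 => ha1 (h a ha h3)
  have h2 : ∀ x ∈ N, B (u * y) x = 0 := by
    intro x hx
    rw [O.B_mul u hu y hy x hx, O.symm u hu x hx, O.symm y hy x hx]
    rcases zmod_two (B x u) with h3 | h3
    · rw [h3, h x hx h3, add_zero]
    · have h4 : B (x * a) u = 0 := by
        rw [O.B_mul x hx a ha u hu, h3, ha3]
        decide
      have h5 := h _ (mul_mem hx ha) h4
      rw [O.B_mul x hx a ha y hy, ha2] at h5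
      rw [h3]
      rcases zmod_two (B x y) with h6 | h6
      · rw [h6] at h5
        exact absurd h5 (by decide)
      · rw [h6]
        decide
  have e : y = u * (u * y) := by rw [← mul_assoc, O.sq u hu, one_mul]
  rcases O.rad _ (mul_mem hu hy) h2 with h3 | h3
  · right; right; left
    rw [e, h3, mul_one]
  · right; right; right
    rw [e, h3]

/-- a functional not vanishing on `u₀^⊥` -/
theorem exists_perp {u₀ u : G} (h0 : u₀ ∈ Om) (hu : u ∈ Om) (hu0 : u ≠ u₀) : ∃ x ∈ N, B x u₀ = 0 ∧ B x u = 1 := by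
  by_contra hcon
  push Not at hcon
  rcases O.eq_of_perp (O.om_mem _ h0) (O.om_mem _ hu)
    fun x hx hx0 => (zmod_two _).resolve_right (hcon x hx hx0) with h | h | h | h
  · exact O.om_one u hu h
  · exact O.om_r u hu h
  · exact hu0 h
  · have h1 : r = 1 := O.ns u₀ h0 (h ▸ hu)
    rw [h1, mul_one] at h
    exact hu0 h

theorem hyp_B {u u' x : G} (hu : u ∈ N) (hu' : u' ∈ N) (hx : x ∈ N) : B x (u * u' * r) = B x u + B x u' := by
  rw [O.B_mul' (mul_mem hu hu') O.r_mem hx, O.B_r x hx, add_zero, O.B_mul' hu hu' hx]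

/-- the transvection with centre `u u' r` maps `u` to `u'` if `B(u, u') = 1` -/
theorem hyp_conj {u u' g : G} (hu : u ∈ N) (hu' : u' ∈ N) (hB : B u u' = 1) (ht : Tv N r B (u * u' * r) g) :
    g * u * g⁻¹ = u' := by
  rw [(ht u hu).2 (by rw [O.hyp_B hu hu' hu, O.B_self u hu, hB, zero_add])]
  have e1 : u * u' * r * r = u * u' := by rw [mul_assoc, O.rr, mul_one]
  rw [e1, ← mul_assoc, O.sq u hu, one_mul]

/-- two noncollinear singular vectors of `u₀^⊥` are conjugate under `C(u₀)` -/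
theorem conj_of_one {u₀ u u' : G} (h0 : u₀ ∈ N) (hu : u ∈ Om) (hu' : u' ∈ Om)
    (hB0 : B u₀ u = 0) (hB0' : B u₀ u' = 0) (hB : B u u' = 1) :
    ∃ g ∈ C, g * u₀ * g⁻¹ = u₀ ∧ g * u * g⁻¹ = u' := by
  obtain ⟨g, hg, ht⟩ := O.tv _ (O.hyp u hu u' hu' hB)
  refine ⟨g, hg, (ht u₀ h0).1 ?_, O.hyp_conj (O.om_mem _ hu) (O.om_mem _ hu') hB ht⟩
  rw [O.hyp_B (O.om_mem _ hu) (O.om_mem _ hu') h0, hB0, hB0', add_zero]

/-- **the stabiliser of `u₀` is transitive on the singular vectors of `u₀^⊥ - ⟨u₀⟩`** -/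
theorem tra {u₀ u u' : G} (h0 : u₀ ∈ Om) (hu : u ∈ Om) (hu' : u' ∈ Om)
    (hB0 : B u₀ u = 0) (hB0' : B u₀ u' = 0) (hu0 : u ≠ u₀) (hu0' : u' ≠ u₀) :
    ∃ g ∈ C, g * u₀ * g⁻¹ = u₀ ∧ g * u * g⁻¹ = u' := by
  have m0 := O.om_mem _ h0
  have mu := O.om_mem _ hu
  have mu' := O.om_mem _ hu'
  obtain ⟨a, ha, ha0, ha1⟩ := O.exists_perp h0 hu hu0
  obtain ⟨b, hb, hb0, hb1⟩ := O.exists_perp h0 hu' hu0'
  obtain ⟨x, hx, hx0, hx1, hx1'⟩ : ∃ x ∈ N, B x u₀ = 0 ∧ B x u = 1 ∧ B x u' = 1 := by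
    rcases zmod_two (B a u') with h | h
    · rcases zmod_two (B b u) with h' | h'
      · refine ⟨a * b, mul_mem ha hb, ?_, ?_, ?_⟩
        · rw [O.B_mul a ha b hb _ m0, ha0, hb0, add_zero]
        · rw [O.B_mul a ha b hb _ mu, ha1, h', add_zero]
        · rw [O.B_mul a ha b hb _ mu', h, hb1, zero_add]
      · exact ⟨b, hb, hb0, h', hb1⟩
    · exact ⟨a, ha, ha0, ha1, h⟩
  obtain ⟨x', hx', -, hBx⟩ := O.exists_sing hx mu hx1
  have mx' := O.om_mem _ hx'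
  obtain ⟨g, hg, hg0, hgx⟩ := O.conj_of_one m0 hu hx' hB0
    (by rw [O.symm _ m0 _ mx', hBx _ m0, hx0]) (by rw [O.symm _ mu _ mx', hBx _ mu, hx1])
  obtain ⟨g', hg', hg0', hgx'⟩ := O.conj_of_one m0 hx' hu'
    (by rw [O.symm _ m0 _ mx', hBx _ m0, hx0]) hB0' (by rw [hBx _ mu', hx1'])
  refine ⟨g' * g, mul_mem hg' hg, ?_, ?_⟩
  · calc g' * g * u₀ * (g' * g)⁻¹ = g' * (g * u₀ * g⁻¹) * g'⁻¹ := by group
      _ = u₀ := by rw [hg0, hg0']
  · calc g' * g * u * (g' * g)⁻¹ = g' * (g * u * g⁻¹) * g'⁻¹ := by group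
      _ = u' := by rw [hgx, hgx']

/-- **a subgroup inducing all transvections is transitive on the singular vectors** -/
theorem trans {E : Subgroup G} (hE : ∀ u ∈ Om, ∃ g ∈ E, Tv N r B u g) {u u' : G} (hu : u ∈ Om) (hu' : u' ∈ Om) :
    ∃ g ∈ E, g * u * g⁻¹ = u' := by
  have key : ∀ u ∈ Om, ∀ u' ∈ Om, B u u' = 1 → ∃ g ∈ E, g * u * g⁻¹ = u' := by
    intro u hu u' hu' hB
    obtain ⟨g, hg, ht⟩ := hE _ (O.hyp u hu u' hu' hB)
    exact ⟨g, hg, O.hyp_conj (O.om_mem _ hu) (O.om_mem _ hu') hB ht⟩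
  have mu := O.om_mem _ hu
  have mu' := O.om_mem _ hu'
  obtain ⟨a, ha, ha1⟩ := O.exists_B hu
  obtain ⟨b, hb, hb1⟩ := O.exists_B hu'
  obtain ⟨x, hx, hx1, hx1'⟩ : ∃ x ∈ N, B x u = 1 ∧ B x u' = 1 := by
    rcases zmod_two (B a u') with h | h
    · rcases zmod_two (B b u) with h' | h'
      · refine ⟨a * b, mul_mem ha hb, ?_, ?_⟩
        · rw [O.B_mul a ha b hb _ mu, ha1, h', add_zero]
        · rw [O.B_mul a ha b hb _ mu', h, hb1, zero_add]
      · exact ⟨b, hb, h', hb1⟩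
    · exact ⟨a, ha, ha1, h⟩
  obtain ⟨x', hx', -, hBx⟩ := O.exists_sing hx mu hx1
  have mx' := O.om_mem _ hx'
  obtain ⟨g, hg, hgx⟩ := key u hu x' hx' (by rw [O.symm _ mu _ mx', hBx _ mu, hx1])
  obtain ⟨g', hg', hgx'⟩ := key x' hx' u' hu' (by rw [hBx _ mu', hx1'])
  refine ⟨g' * g, mul_mem hg' hg, ?_⟩
  calc g' * g * u * (g' * g)⁻¹ = g' * (g * u * g⁻¹) * g'⁻¹ := by group
    _ = u' := by rw [hgx, hgx']

/-- an isometry trivial on `u₀^⊥` is `1` or the transvection with centre `u₀ r` -/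
theorem eq_of_fix {u₀ g x : G} (h0 : u₀ ∈ Om) (hg : g ∈ C)
    (hfix : ∀ w ∈ N, B w u₀ = 0 → g * w * g⁻¹ = w) (hx : x ∈ N) :
    g * x * g⁻¹ = x ∨ g * x * g⁻¹ = x * (u₀ * r) := by
  have m0 := O.om_mem _ h0
  rcases zmod_two (B x u₀) with hB | hB
  · left
    exact hfix x hx hB
  -- singular `x`
  have key : ∀ x ∈ Om, B x u₀ = 1 → g * x * g⁻¹ = x ∨ g * x * g⁻¹ = x * (u₀ * r) := by
    intro x hxO hB
    have hx := O.om_mem _ hxO
    obtain ⟨y, hyd⟩ : ∃ y, y = g * x * g⁻¹ * x⁻¹ := ⟨_, rfl⟩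
    have hgx : g * x * g⁻¹ ∈ N := O.nor g hg x hx
    have hy : y ∈ N := by rw [hyd]; exact mul_mem hgx (inv_mem hx)
    have hxy : g * x * g⁻¹ = x * y := by
      rw [O.comm x hx _ hy, hyd]; group
    have hperp : ∀ w ∈ N, B w u₀ = 0 → B w y = 0 := by
      intro w hw hw0
      have h1 := O.B_conj g hg w hw x hx
      rw [hfix w hw hw0, hxy, O.B_mul' hx hy hw] at h1
      have h2 : B w x + B w y = B w x + 0 := by rw [h1, add_zero]
      exact add_left_cancel h2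
    have hgO : x * y ∈ Om := hxy ▸ O.om_conj g hg x hxO
    rcases O.eq_of_perp m0 hy hperp with h | h | h | h
    · left; rw [hxy, h, mul_one]
    · left
      rw [h] at hgO
      rw [hxy, h, O.ns x hxO hgO, mul_one]
    · -- `y = u₀`
      have h1 : x * u₀ ∈ Om := h ▸ hgO
      have h2 := O.hyp x hxO u₀ h0 hB
      right
      rw [hxy, h, O.ns _ h1 h2, mul_one]
    · right; rw [hxy, h]
  obtain ⟨x', hx', hx2, hBx⟩ := O.exists_sing hx m0 hB
  have h1 := key x' hx' (by rw [hBx _ m0, hB])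
  have hgr : g * r * g⁻¹ = r := hfix r O.r_mem (by rw [O.B_r' m0])
  rcases hx2 with rfl | rfl
  · exact h1
  · have e : g * (x * r) * g⁻¹ = g * x * g⁻¹ * r := by
      rw [NTwo.cm, hgr]
    rw [e] at h1
    rcases h1 with h1 | h1
    · left; exact mul_right_cancel h1
    · right
      have h2 : x * r * (u₀ * r) = x * (u₀ * r) * r := by
        rw [mul_assoc, mul_assoc, O.comm r O.r_mem _ (mul_mem m0 O.r_mem)]
      rw [h2] at h1
      exact mul_right_cancel h1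

/-- an element of `C` acting nontrivially and trivially on `u₀^⊥` acts as the transvection -/
theorem tv_of_fix {u₀ g : G} (h0 : u₀ ∈ Om) (hg : g ∈ C)
    (hfix : ∀ w ∈ N, B w u₀ = 0 → g * w * g⁻¹ = w) (hne : ∃ x ∈ N, g * x * g⁻¹ ≠ x) : Tv N r B u₀ g := by
  have m0 := O.om_mem _ h0
  obtain ⟨a, ha, hga⟩ := hne
  have haB : B a u₀ = 1 := (zmod_two _).resolve_left fun h => hga (hfix a ha h)
  refine fun x hx => ⟨hfix x hx, fun hB => ?_⟩
  refine (O.eq_of_fix h0 hg hfix hx).resolve_left fun h1 => hga ?_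
  -- `x a ∈ u₀^⊥`
  have h2 : g * (x * a) * g⁻¹ = x * a := hfix _ (mul_mem hx ha) (by
    rw [O.B_mul x hx a ha _ m0, hB, haB]; decide)
  calc g * a * g⁻¹ = (g * x * g⁻¹)⁻¹ * (g * (x * a) * g⁻¹) := by group
    _ = a := by rw [h1, h2]; group

/-- **`N` is generated by `u^⊥` and `u'^⊥`** -/
theorem two {K : Subgroup G} {u u' : G} (hu : u ∈ Om) (hu' : u' ∈ Om) (hne : u' ≠ u)
    (h : ∀ x ∈ N, B x u = 0 → x ∈ K) (h' : ∀ x ∈ N, B x u' = 0 → x ∈ K) : N ≤ K := by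
  intro x hx
  rcases zmod_two (B x u) with hB | hB
  · exact h x hx hB
  rcases zmod_two (B x u') with hB' | hB'
  · exact h' x hx hB'
  obtain ⟨y, hy, hy0, hy1⟩ := O.exists_perp hu hu' hne
  have h1 : x * y ∈ K := h' _ (mul_mem hx hy) (by
    rw [O.B_mul x hx y hy _ (O.om_mem _ hu'), hB', hy1]; decide)
  have h2 := mul_mem h1 (inv_mem (h y hy hy0))
  rwa [mul_inv_cancel_right] at h2

/-- `u₀^⊥` is in `K` if its singular vectors and `r` are -/
theorem perp_le {K : Subgroup G} {u₀ : G} (h0 : u₀ ∈ N) (hr : r ∈ K)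
    (h : ∀ x ∈ Om, B x u₀ = 0 → x ∈ K) {x : G} (hx : x ∈ N) (hB : B x u₀ = 0) : x ∈ K := by
  rcases O.sing x hx with h1 | h1 | h1 | h1
  · rw [h1]; exact one_mem _
  · rw [h1]; exact hr
  · exact h x h1 hB
  · have h2 := mul_mem (h _ h1 (by rw [O.B_mul_r hx h0, hB])) hr
    rwa [mul_assoc, O.rr, mul_one] at h2

end PMod

end Cfsg.Agent.Omega.NO3S.Sym.Pol
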