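import Cfsg.Agent.Omega.NO3S.Sym.IIB
import Cfsg.Agent.Omega.NO3S.Sym.Fan
import Cfsg.Agent.Omega.TV.GOrth

/-!
# NO-3S, `V_P` = even subsets of five letters, (II.B): the polar type from one element (helper955)

`n = nn p = 12`, `a = aa p = 34`, `35 = p 2 * p 4`.

* `typ_of` : `n ∈ N_n`, `t ∈ C(n)`, `[N_n, t] ≤ ⟨n, a⟩`, `t` not trivial on `N_n`, `t` centralises `35`:
  all `(C_x, N_x)` are orthogonal (`Frm.Typ p id (bb p)`);
* `comm_of` : then `[N_n, N_a] = 1`;
* `typ_of_two`, `not_two` : `|[N_n, N_a]| = 2` is impossible.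
-/

set_option autoImplicit false

namespace Cfsg.Agent.Omega.NO3S.Sym.TypOne

open Subgroup Cfsg Cfsg.Agent.ZN Cfsg.Agent.Omega.MinPar Cfsg.Agent.Omega.Frame Cfsg.Agent.Omega.FrameNOFF
open Cfsg.Agent.Omega.NO3S Cfsg.Agent.Omega.NTwo Cfsg.Agent.Omega.NO3S.Sym.Exit Cfsg.Agent.Omega.NO3S.Sym.Light
open Cfsg.Agent.Omega.NO3S.Sym.Graph Cfsg.Agent.Omega.NO3S.Sym.Pol Cfsg.Agent.Omega.NO3S.Sym.Frm
open Cfsg.Agent.Omega.NO3S.Sym.Fan
open Cfsg.Agent.Omega.TV (GSys GOrth Qg Bg Qg_eq_zero)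
open Cfsg.Agent.Omega.OM.KTwo (Tv zmod_two)
open scoped Pointwise

universe u

variable {G : Type u} [Group G]

/-- conjugation of polar modules -/
theorem pmod_conj {C N C' N' : Subgroup G} {r r' : G} {Om Om' : Set G} {B B' : G → G → ZMod 2}
    (O : PMod C N r Om B) {g : G} (hC : ∀ c, c ∈ C' ↔ g⁻¹ * c * g ∈ C) (hN : ∀ x, x ∈ N' ↔ g⁻¹ * x * g ∈ N)
    (hr : g⁻¹ * r' * g = r) (hOm : ∀ x, x ∈ Om' ↔ g⁻¹ * x * g ∈ Om)
    (hB : ∀ x ∈ N', ∀ y ∈ N', B' x y = B (g⁻¹ * x * g) (g⁻¹ * y * g)) : PMod C' N' r' Om' B' := by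
  have em : ∀ x y : G, g⁻¹ * (x * y) * g = g⁻¹ * x * g * (g⁻¹ * y * g) := fun x y => by group
  have e1 : ∀ x : G, g⁻¹ * x * g = 1 → x = 1 := fun x e => by
    calc x = g * (g⁻¹ * x * g) * g⁻¹ := by group
      _ = 1 := by rw [e]; group
  have einj : ∀ x y : G, g⁻¹ * x * g = g⁻¹ * y * g → x = y := fun x y e => by
    calc x = g * (g⁻¹ * x * g) * g⁻¹ := by group
      _ = g * (g⁻¹ * y * g) * g⁻¹ := by rw [e]
      _ = y := by group
  have ec : ∀ c x : G, g⁻¹ * (c * x * c⁻¹) * g = g⁻¹ * c * g * (g⁻¹ * x * g) * (g⁻¹ * c * g)⁻¹ := fun c x => by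
    group
  have hback : ∀ y : G, y ∈ N → g * y * g⁻¹ ∈ N' := fun y hy => (hN _).2 (by
    have e : g⁻¹ * (g * y * g⁻¹) * g = y := by group
    rwa [e])
  have hnor : ∀ c ∈ C', ∀ x ∈ N', c * x * c⁻¹ ∈ N' := fun c hc x hx => by
    rw [hN, ec]
    exact O.nor _ ((hC c).1 hc) _ ((hN x).1 hx)
  have hrN : r' ∈ N' := by rw [hN, hr]; exact O.r_mem
  exact
  { nor := hnor
    comm := fun x hx y hy => einj _ _ (by rw [em, em]; exact O.comm _ ((hN x).1 hx) _ ((hN y).1 hy))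
    sq := fun x hx => e1 _ (by rw [em]; exact O.sq _ ((hN x).1 hx))
    B_mul := fun x hx y hy w hw => by
      rw [hB _ (mul_mem hx hy) w hw, hB x hx w hw, hB y hy w hw, em]
      exact O.B_mul _ ((hN x).1 hx) _ ((hN y).1 hy) _ ((hN w).1 hw)
    symm := fun x hx y hy => by
      rw [hB x hx y hy, hB y hy x hx]
      exact O.symm _ ((hN x).1 hx) _ ((hN y).1 hy)
    B_self := fun x hx => by rw [hB x hx x hx]; exact O.B_self _ ((hN x).1 hx)
    B_conj := fun c hc x hx y hy => by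
      rw [hB _ (hnor c hc x hx) _ (hnor c hc y hy), hB x hx y hy, ec, ec]
      exact O.B_conj _ ((hC c).1 hc) _ ((hN x).1 hx) _ ((hN y).1 hy)
    r_mem := hrN
    B_r := fun x hx => by rw [hB x hx r' hrN, hr]; exact O.B_r _ ((hN x).1 hx)
    rad := fun x hx h1 => by
      rcases O.rad _ ((hN x).1 hx) (fun y hy => by
        have h2 := h1 _ (hback y hy)
        rw [hB x hx _ (hback y hy)] at h2
        have e : g⁻¹ * (g * y * g⁻¹) * g = y := by group
        rwa [e] at h2) with e | e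
      · exact Or.inl (e1 x e)
      · exact Or.inr (einj _ _ (by rw [e, hr]))
    om_mem := fun u hu => (hN u).2 (O.om_mem _ ((hOm u).1 hu))
    om_one := fun u hu e => O.om_one _ ((hOm u).1 hu) (by rw [e]; group)
    om_r := fun u hu e => O.om_r _ ((hOm u).1 hu) (by rw [e, hr])
    om_conj := fun c hc u hu => by
      rw [hOm, ec]
      exact O.om_conj _ ((hC c).1 hc) _ ((hOm u).1 hu)
    sing := fun x hx => by
      rcases O.sing _ ((hN x).1 hx) with e | e | e | e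
      · exact Or.inl (e1 x e)
      · exact Or.inr (Or.inl (einj _ _ (by rw [e, hr])))
      · exact Or.inr (Or.inr (Or.inl ((hOm x).2 e)))
      · refine Or.inr (Or.inr (Or.inr ((hOm _).2 ?_)))
        rw [em, hr]; exact e
    hyp := fun u hu u' hu' e => by
      rw [hOm, em, em, hr]
      refine O.hyp _ ((hOm u).1 hu) _ ((hOm u').1 hu') ?_
      rw [← hB u ((hN u).2 (O.om_mem _ ((hOm u).1 hu))) u' ((hN u').2 (O.om_mem _ ((hOm u').1 hu')))]
      exact e
    par := fun u hu u' hu' hne e => by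
      rw [hOm, em]
      refine O.par _ ((hOm u).1 hu) _ ((hOm u').1 hu') (fun e' => hne (einj _ _ e')) ?_
      rw [← hB u ((hN u).2 (O.om_mem _ ((hOm u).1 hu))) u' ((hN u').2 (O.om_mem _ ((hOm u').1 hu')))]
      exact e
    ns := fun u hu hur => by
      rw [hOm, em, hr] at hur
      have e := O.ns _ ((hOm u).1 hu) hur
      exact e1 _ (by rw [hr, e])
    tv := fun u hu => by
      have huN := (hN u).2 (O.om_mem _ ((hOm u).1 hu))
      obtain ⟨c, hc, ht⟩ := O.tv _ ((hOm u).1 hu)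
      refine ⟨g * c * g⁻¹, (hC _).2 (by
        have e : g⁻¹ * (g * c * g⁻¹) * g = c := by group
        rwa [e]), fun x hx => ?_⟩
      have h2 := ht _ ((hN x).1 hx)
      rw [hB x hx u huN]
      have e : g * c * g⁻¹ * x * (g * c * g⁻¹)⁻¹ = g * (c * (g⁻¹ * x * g) * c⁻¹) * g⁻¹ := by group
      refine ⟨fun h3 => ?_, fun h3 => ?_⟩
      · rw [e, h2.1 h3]; group
      · rw [e, h2.2 h3, ← hr]; group }

section form

/-- `0` on `{1} ∪ Om_x`, `1` elsewhere -/
noncomputable def qq (p : Fin 5 → G) (x w : G) : ZMod 2 :=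
  open Classical in if w = 1 ∨ Adj p x w then 0 else 1

/-- its polar form -/
noncomputable def bb (p : Fin 5 → G) (x u v : G) : ZMod 2 := qq p x (u * v) + qq p x u + qq p x v

theorem qq_eq_zero {p : Fin 5 → G} {x w : G} : qq p x w = 0 ↔ w = 1 ∨ Adj p x w := by
  unfold qq
  split_ifs with h <;> simp [h]

theorem qq_conj (p : Fin 5 → G) (g x w : G) : qq p (g * x * g⁻¹) (g * w * g⁻¹) = qq p x w := by
  have h1 : (g * w * g⁻¹ = 1 ∨ Adj p (g * x * g⁻¹) (g * w * g⁻¹)) ↔ (w = 1 ∨ Adj p x w) := by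
    constructor
    · rintro (e | e)
      · exact Or.inl (conj_eq_one_iff.1 e)
      · right
        have h2 := e.conj g⁻¹
        have e1 : ∀ y : G, g⁻¹ * (g * y * g⁻¹) * g⁻¹⁻¹ = y := fun y => by group
        rwa [e1, e1] at h2
    · rintro (e | e)
      · left; rw [e]; group
      · exact Or.inr (e.conj g)
  unfold qq
  by_cases h2 : w = 1 ∨ Adj p x w
  · rw [if_pos h2, if_pos (h1.2 h2)]
  · rw [if_neg h2, if_neg fun h3 => h2 (h1.1 h3)]

theorem bb_conj (p : Fin 5 → G) (g x u v : G) : bb p (g * x * g⁻¹) (g * u * g⁻¹) (g * v * g⁻¹) = bb p x u v := by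
  unfold bb
  rw [← cm, qq_conj, qq_conj, qq_conj]

theorem adj_nn {p : Fin 5 → G} {w : G} :
    Adj p (nn p) w ↔ ∃ g ∈ centralizer ({nn p} : Set G), w = g * aa p * g⁻¹ := by
  constructor
  · rintro ⟨g, h1, h2⟩
    exact ⟨g, mem_cent.2 h1, h2.symm⟩
  · rintro ⟨g, h1, h2⟩
    exact ⟨g, mem_cent.1 h1, h2.symm⟩

theorem qq_nn (p : Fin 5 → G) (w : G) : qq p (nn p) w = Qg (centralizer ({nn p} : Set G)) (aa p) w := by
  rcases zmod_two (Qg (centralizer ({nn p} : Set G)) (aa p) w) with e | e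
  · rw [e, qq_eq_zero, adj_nn]
    exact Qg_eq_zero.1 e
  · rw [e]
    refine (zmod_two _).resolve_left fun e' => ?_
    rw [qq_eq_zero, adj_nn, ← Qg_eq_zero, e] at e'
    exact absurd e' (by decide)

theorem bb_nn (p : Fin 5 → G) (u v : G) : bb p (nn p) u v = Bg (centralizer ({nn p} : Set G)) (aa p) u v := by
  unfold bb Bg
  rw [qq_nn, qq_nn, qq_nn]

end form

section light

variable [Finite G] {S : Sylow 2 G} {P : Subgroup G} {p : Fin 5 → G} (h : FiveL S P p)
include h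

/-- the fixed points of `T` on `N_n` -/
theorem fix_T {n : G} (hn : n ∈ NN p (nn p)) (hT : ∀ t ∈ Std.T (S : Subgroup G) p, t * n * t⁻¹ = n) :
    n = 1 ∨ n = nn p ∨ n = aa p ∨ n = aa p * nn p := by
  have h1 : n ∈ zc (Std.T (S : Subgroup G) p) :=
    ZN.mem_zc.2 ⟨h.o2_le_T (NN_le_o2 h pt_base hn), fun b hb => comm_iff.1 (hT b hb), by
      rw [sq]; exact NN_sq h pt_base hn⟩
  rcases h.std.mem_zcT.1 h1 with e | e | e | e
  · exact Or.inl e
  · exact Or.inr (Or.inl e)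
  · exact Or.inr (Or.inr (Or.inl e))
  · exact Or.inr (Or.inr (Or.inr (by rw [e, h.std.an])))

omit [Finite G] h in
theorem cen_n {c x : G} (hc : c ∈ centralizer ({nn p} : Set G)) (hx : x ∈ NN p (nn p)) : c * x * c⁻¹ ∈ NN p (nn p) :=
  NN_conj' (mem_cent.1 hc) hx

/-- **the orthogonal module**, from one element `t` -/
theorem gorth (hn : nn p ∈ NN p (nn p)) {t : G} (ht : t ∈ centralizer ({nn p} : Set G))
    (htq : ∀ m ∈ NN p (nn p), t * m * t⁻¹ = m ∨ t * m * t⁻¹ = m * nn p ∨ t * m * t⁻¹ = m * aa p ∨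
      t * m * t⁻¹ = m * (aa p * nn p))
    (hne : ∃ m ∈ NN p (nn p), t * m * t⁻¹ ≠ m) (htp : t * (p 2 * p 4) * t⁻¹ = p 2 * p 4) :
    GOrth (centralizer ({nn p} : Set G)) (NN p (nn p)) (aa p) (nn p) := by
  refine ((gsys h).gorth (T := Std.T (S : Subgroup G) p) inf_le_right (S.isPGroup'.to_le Std.T_le) h.not_dvd hn
    h.std.n_ne_one (fun g hg => mem_cent.1 hg) (fun s hs => h.std.T_a hs) (fun n hn hT => fix_T h hn hT)
    ?_ ?_ ht htq hne htp).1
  · obtain ⟨c, -, hc⟩ := h.std.full (Equiv.swap 3 4)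
    refine ⟨c, mem_cent.2 ?_, ?_⟩
    · rw [nn, cm, hc, hc]
      rfl
    · rw [aa, cm, hc, hc]
      rfl
  · obtain ⟨c, -, hc⟩ := h.std.full (Equiv.swap 2 4)
    refine ⟨c, mem_cent.2 ?_, ?_⟩
    · rw [nn, cm, hc, hc]
      rfl
    · rw [aa, cm, hc, hc]
      change p 2 * p 3 * (p 2 * p 4) = p 4 * p 3
      rw [h.std.comm 2 3, mul_assoc, ← mul_assoc (p 2), h.std.sq, one_mul, h.std.comm]

theorem pmod_n (O : GOrth (centralizer ({nn p} : Set G)) (NN p (nn p)) (aa p) (nn p)) :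
    PMod (centralizer ({nn p} : Set G)) (NN p (nn p)) (nn p) {y | Adj p (nn p) y} (bb p (nn p)) := by
  have hq : ∀ w, Adj p (nn p) w → Qg (centralizer ({nn p} : Set G)) (aa p) w = 0 := fun w hw =>
    Qg_eq_zero.2 (Or.inr (adj_nn.1 hw))
  exact
  { nor := O.nor
    comm := fun x hx y hy => NN_comm h pt_base hx hy
    sq := O.sq
    B_mul := fun x hx y hy w hw => by rw [bb_nn, bb_nn, bb_nn]; exact O.add_left hx hy hw
    symm := fun x hx y hy => by rw [bb_nn, bb_nn]; exact O.comm x hx y hy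
    B_self := fun x hx => by rw [bb_nn]; exact O.self x hx
    B_conj := fun c hc x hx y hy => by rw [bb_nn, bb_nn]; exact O.B_inv hc hx hy
    r_mem := O.c_mem
    B_r := fun x hx => by rw [bb_nn, O.comm x hx _ O.c_mem]; exact O.Bc x hx
    rad := fun x hx h1 => O.rad x hx fun y hy => by rw [← bb_nn]; exact h1 y hy
    om_mem := fun u hu => Adj.mem hu
    om_one := fun u hu => IsPt.ne_one h.std (Adj.pt' h.std hu)
    om_r := fun u hu => (Adj.ne h.std hu).symm
    om_conj := fun c hc u hu => by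
      have h1 := Adj.conj (show Adj p (nn p) u from hu) c
      rwa [mem_cent.1 hc] at h1
    sing := fun x hx => by
      rcases zmod_two (Qg (centralizer ({nn p} : Set G)) (aa p) x) with e | e
      · rcases Qg_eq_zero.1 e with e1 | e1
        · exact Or.inl e1
        · exact Or.inr (Or.inr (Or.inl (adj_nn.2 e1)))
      · have e2 := O.Qmulc hx
        rw [e] at e2
        rcases Qg_eq_zero.1 (e2.trans (by decide)) with e1 | e1
        · right; left
          calc x = x * nn p * nn p := by rw [mul_assoc, h.std.nsq, mul_one]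
            _ = nn p := by rw [e1, one_mul]
        · exact Or.inr (Or.inr (Or.inr (adj_nn.2 e1)))
    hyp := fun u hu u' hu' e => by
      have hu1 := Adj.mem (show Adj p (nn p) u from hu)
      have hu1' := Adj.mem (show Adj p (nn p) u' from hu')
      rw [bb_nn] at e
      have e1 : Qg (centralizer ({nn p} : Set G)) (aa p) (u * u' * nn p) = 0 := by
        rw [O.Qmulc (mul_mem hu1 hu1'), GOrth.Q_mul, hq u hu, hq u' hu', e]
        decide
      rcases Qg_eq_zero.1 e1 with e2 | e2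
      · exfalso
        have e3 : u * u' = nn p := by
          calc u * u' = u * u' * nn p * nn p := by rw [mul_assoc (u * u'), h.std.nsq, mul_one]
            _ = nn p := by rw [e2, one_mul]
        exact not_adj h (x := nn p) (y := u) (by
          have e4 : nn p * u = u' := by
            rw [← e3, (NN_comm h pt_base hu1 hu1'), mul_assoc, NN_sq h pt_base hu1, mul_one]
          rw [e4]
          exact Adj.pt' h.std hu') hu
      · exact adj_nn.2 e2
    par := fun u hu u' hu' hne e => by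
      have hu1 := Adj.mem (show Adj p (nn p) u from hu)
      have hu1' := Adj.mem (show Adj p (nn p) u' from hu')
      rw [bb_nn] at e
      have e1 : Qg (centralizer ({nn p} : Set G)) (aa p) (u * u') = 0 := by
        rw [GOrth.Q_mul, hq u hu, hq u' hu', e]
        decide
      rcases Qg_eq_zero.1 e1 with e2 | e2
      · exfalso
        apply hne
        calc u = u * u' * u' := by rw [mul_assoc, NN_sq h pt_base hu1', mul_one]
          _ = u' := by rw [e2, one_mul]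
      · exact adj_nn.2 e2
    ns := fun u hu hur => by
      exfalso
      refine not_adj h (x := nn p) (y := u) ?_ hu
      rw [Adj.comm h.std hu]
      exact Adj.pt' h.std hur
    tv := fun u hu => by
      have hu1 := Adj.mem (show Adj p (nn p) u from hu)
      obtain ⟨g, hg, h1⟩ := O.refl u hu1 (IsPt.ne_one h.std (Adj.pt' h.std hu)) (hq u hu)
      refine ⟨g, hg, fun x hx => ?_⟩
      rw [bb_nn, O.comm x hx u hu1]
      rcases h1 x hx with ⟨e1, e2⟩ | ⟨e1, e2⟩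
      · exact ⟨fun _ => e2, fun e => absurd (e1.symm.trans e) (by decide)⟩
      · exact ⟨fun e => absurd (e1.symm.trans e) (by decide), fun _ => e2⟩ }

/-- **The polar type (R)** from one element. -/
theorem typ_of (hn : nn p ∈ NN p (nn p)) {t : G} (ht : t ∈ centralizer ({nn p} : Set G))
    (htq : ∀ m ∈ NN p (nn p), t * m * t⁻¹ = m ∨ t * m * t⁻¹ = m * nn p ∨ t * m * t⁻¹ = m * aa p ∨
      t * m * t⁻¹ = m * (aa p * nn p))
    (hne : ∃ m ∈ NN p (nn p), t * m * t⁻¹ ≠ m) (htp : t * (p 2 * p 4) * t⁻¹ = p 2 * p 4) :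
    Typ p id (bb p) := by
  have O := pmod_n h (gorth h hn ht htq hne htp)
  have hinv : ∀ g w : G, g⁻¹ * w * g = g⁻¹ * w * g⁻¹⁻¹ := fun g w => by group
  refine ⟨fun x hx => ?_, fun g x _ u _ v _ => bb_conj p g x u v, ?_⟩
  · obtain ⟨g, hg⟩ := hx
    have hgx : g⁻¹ * x * g⁻¹⁻¹ = nn p := conj_inv_eq hg
    refine pmod_conj (g := g) O (fun c => ?_) (fun y => ?_) ?_ (fun y => ?_) fun y _ z _ => ?_
    · rw [cent_eq hg, NoFF.Basic.mem_conj]
    · rw [← hg, ← conj_NN, NoFF.Basic.mem_conj]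
    · change g⁻¹ * x * g = nn p
      rw [hinv, hgx]
    · change Adj p x y ↔ Adj p (nn p) (g⁻¹ * y * g)
      rw [hinv, ← hgx]
      constructor
      · exact fun e => e.conj g⁻¹
      · intro e
        have h1 := e.conj g
        have e1 : ∀ y : G, g * (g⁻¹ * y * g⁻¹⁻¹) * g⁻¹ = y := fun y => by group
        rwa [e1, e1] at h1
    · rw [hinv, hinv, ← hgx, bb_conj]
  · have h1 : Adj p (nn p) (p 2 * p 3) := adj_V h.std (i := 0) (j := 1) (by decide)
    have h2 : Adj p (nn p) (p 2 * p 4) := adj_V h.std (i := 0) (j := 1) (by decide)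
    have h3 : Adj p (nn p) (p 2 * p 3 * (p 2 * p 4)) := by
      have e : p 2 * p 3 * (p 2 * p 4) = p 3 * p 4 := by
        rw [h.std.comm 2 3, mul_assoc, ← mul_assoc (p 2), h.std.sq, one_mul]
      rw [e]
      exact adj_V h.std (i := 0) (j := 1) (by decide)
    change bb p (nn p) (p 2 * p 3) (p 2 * p 4) = 0
    unfold bb
    rw [qq_eq_zero.2 (Or.inr h3), qq_eq_zero.2 (Or.inr h1), qq_eq_zero.2 (Or.inr h2)]
    decide

/-- **One element `t ∈ C(n)`, `t` not trivial on `N_n`, `[N_n, t] ≤ ⟨n, a⟩`, `[35, t] = 1`, forces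
`[N_x, N_y] = 1` for all `x ~ y`** (if `n ∈ N_n`). -/
theorem comm_of (hn : nn p ∈ NN p (nn p)) {t : G} (ht : t ∈ centralizer ({nn p} : Set G))
    (htq : ∀ m ∈ NN p (nn p), t * m * t⁻¹ = m ∨ t * m * t⁻¹ = m * nn p ∨ t * m * t⁻¹ = m * aa p ∨
      t * m * t⁻¹ = m * (aa p * nn p))
    (hne : ∃ m ∈ NN p (nn p), t * m * t⁻¹ ≠ m) (htp : t * (p 2 * p 4) * t⁻¹ = p 2 * p 4) {x y : G}
    (hxy : Adj p x y) : ∀ v ∈ NN p x, ∀ w ∈ NN p y, v * w = w * v :=
  IIB.comm h (typ_of h hn ht htq hne htp) (Or.inl fun _ => rfl) hxy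

/-- noncommuting `N_n`, `N_a`: `n ∈ N_n`, and a nontrivial commutator is central in `S` if there is only one -/
theorem two_eq (hc : ∃ v ∈ NN p (nn p), ∃ w ∈ NN p (aa p), v * w ≠ w * v) {c : G}
    (h2 : ∀ v ∈ NN p (nn p), ∀ w ∈ NN p (aa p), v * w * v⁻¹ * w⁻¹ = 1 ∨ v * w * v⁻¹ * w⁻¹ = c) :
    c = p 4 ∧ nn p ∈ NN p (nn p) := by
  have hna : Adj p (nn p) (aa p) := adj_base
  have han := Adj.symm h.std hna
  obtain ⟨v, hv, w, hw, hne⟩ := hc
  have hvw : v * w * v⁻¹ * w⁻¹ = c := by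
    refine (h2 v hv w hw).resolve_left fun e => hne ?_
    calc v * w = v * w * v⁻¹ * w⁻¹ * (w * v) := by group
      _ = w * v := by rw [e, one_mul]
  have hc1 : c ≠ 1 := fun e => hne (by
    calc v * w = v * w * v⁻¹ * w⁻¹ * (w * v) := by group
      _ = w * v := by rw [hvw, e, one_mul])
  have hwC : w ∈ centralizer ({nn p} : Set G) := NN_cent h hna hw
  have hcN : c ∈ NN p (nn p) := by
    have h1 := mul_mem hv (cen_n hwC (inv_mem hv))
    have e : v * (w * v⁻¹ * w⁻¹) = c := by rw [← hvw]; group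
    rwa [e] at h1
  have hcT : c ∈ Std.T (S : Subgroup G) p := h.o2_le_T (NN_le_o2 h pt_base hcN)
  have hcc : c * c = 1 := NN_sq h pt_base hcN
  have hcS : ∀ s ∈ (S : Subgroup G), s * c = c * s := by
    intro s hs
    rw [← comm_iff]
    have e0 : s * c * s⁻¹ = s * v * s⁻¹ * (s * w * s⁻¹) * (s * v * s⁻¹)⁻¹ * (s * w * s⁻¹)⁻¹ := by
      rw [← hvw]; group
    have hsc : s * c * s⁻¹ ≠ 1 := fun e => hc1 (conj_eq_one_iff.1 e)
    by_cases hsT : s ∈ Std.T (S : Subgroup G) p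
    · have h1 : s * v * s⁻¹ ∈ NN p (nn p) := NN_conj' (Std.mem_T.1 hsT).2 hv
      have h3 : s * w * s⁻¹ ∈ NN p (aa p) := NN_conj' (h.std.T_a hsT) hw
      rw [e0] at hsc ⊢
      exact (h2 _ h1 _ h3).resolve_left hsc
    · have hsn : s * nn p * s⁻¹ = aa p := (h.std.part s hs).resolve_left fun e => hsT (Std.mem_T.2 ⟨hs, e⟩)
      have hsa : s * aa p * s⁻¹ = nn p := h.std.s_eq_conj hs hsn
      have h1 : s * v * s⁻¹ ∈ NN p (aa p) := by
        have h4 := NN_conj (g := s) hv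
        rwa [hsn] at h4
      have h3 : s * w * s⁻¹ ∈ NN p (nn p) := by
        have h4 := NN_conj (g := s) hw
        rwa [hsa] at h4
      have h4 := h2 _ h3 _ h1
      have e1 : s * c * s⁻¹ = (s * w * s⁻¹ * (s * v * s⁻¹) * (s * w * s⁻¹)⁻¹ * (s * v * s⁻¹)⁻¹)⁻¹ := by
        rw [e0]; group
      rw [e1]
      rcases h4 with e2 | e2
      · exact absurd (by rw [e1, e2, inv_one]) hsc
      · rw [e2]
        exact inv_eq_of_mul_eq_one_left hcc
  have hc4 : c = p 4 := (h.std.zc4 c (ZN.mem_zc.2 ⟨Std.T_le hcT, fun b hb => hcS b hb, by rw [sq]; exact hcc⟩)).resolve_left hc1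
  refine ⟨hc4, ?_⟩
  have h1 := mul_mem hcN hna.mem
  have e : c * aa p = nn p := by rw [hc4, ← h.std.na, mul_assoc, h.std.asq, mul_one]
  rwa [e] at h1

/-- **The polar type (R)** if there is only one nontrivial commutator. -/
theorem typ_of_two (hc : ∃ v ∈ NN p (nn p), ∃ w ∈ NN p (aa p), v * w ≠ w * v)
    (h2 : ∃ c, ∀ v ∈ NN p (nn p), ∀ w ∈ NN p (aa p), v * w * v⁻¹ * w⁻¹ = 1 ∨ v * w * v⁻¹ * w⁻¹ = c) :
    Typ p id (bb p) := by
  obtain ⟨c, h2⟩ := h2
  obtain ⟨hc4, hn⟩ := two_eq h hc h2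
  have hna : Adj p (nn p) (aa p) := adj_base
  have han := Adj.symm h.std hna
  obtain ⟨v, hv, w, hw, hne⟩ := hc
  refine typ_of h hn (t := w) (NN_cent h hna hw) (fun m hm => ?_) ⟨v, hv, fun e => hne (comm_iff.1 e).symm⟩ ?_
  · have h4 := h2 m⁻¹ (inv_mem hm) w hw
    have e : w * m * w⁻¹ = m * (m⁻¹ * w * m⁻¹⁻¹ * w⁻¹) := by group
    rcases h4 with e1 | e1 <;> rw [e1] at e
    · left; rw [e, mul_one]
    · right; right; right
      rw [e, hc4, h.std.an]
  · rw [comm_iff]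
    exact D_comm h han.pt (NN_le_D h hw) (V_le_D h (i := 2) (j := 3) (by decide) (mul_mem (h.p_mem 2) (h.p_mem 4)))

/-- **`|[N_n, N_a]| = 2` is impossible.** -/
theorem not_two (hc : ∃ v ∈ NN p (nn p), ∃ w ∈ NN p (aa p), v * w ≠ w * v)
    (h2 : ∃ c, ∀ v ∈ NN p (nn p), ∀ w ∈ NN p (aa p), v * w * v⁻¹ * w⁻¹ = 1 ∨ v * w * v⁻¹ * w⁻¹ = c) : False := by
  have T := typ_of_two h hc h2
  obtain ⟨v, hv, w, hw, hne⟩ := hc
  exact hne (IIB.comm h T (Or.inl fun _ => rfl) adj_base v hv w hw)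

end light

end Cfsg.Agent.Omega.NO3S.Sym.TypOne
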