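import Cfsg.Agent.Omega.NO3S.Sym.Light

/-!
# `V_P` = even subsets of five letters, light case: `N_G(V)` permutes the five points

* `perm_of_norm` : `g ∈ N_G(V)` permutes the points `p i`;
* `odd_fix` : `g ∈ N_G(V)` of odd order which centralises `n = p 0 * p 1` centralises `p 0` and `p 1`;
* **`uni_odd`** : the field `uni` of `TwoB.DtB` from UNI.
-/

set_option autoImplicit false
set_option linter.unusedSectionVars false

namespace Cfsg.Agent.Omega.NO3S.Sym.UniOdd

open Subgroup Cfsg Cfsg.Agent.ZN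
open Cfsg.Agent.MinSimple.MinParabolic (IsMinPar)
open Cfsg.Agent.Omega.NTwo (Std nn aa)
open Cfsg.Agent.Omega.NO3S.Sym.Light (FiveL)
open Cfsg.Agent.Omega.NO3S.Sym.Exit (Five)

universe u

variable {G : Type u} [Group G] [Finite G] {S : Sylow 2 G} {P : Subgroup G} {p : Fin 5 → G}

section five

variable (h : FiveL S P p)
include h

/-- `N_G(V)` permutes the five points. -/
theorem perm_of_norm {g : G} (hg : g ∈ normalizer (zl (S : Subgroup G) P : Set G)) :
    ∃ σ : Equiv.Perm (Fin 5), ∀ i, g * p i * g⁻¹ = p (σ i) := by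
  have key : ∀ i, ∃ j, g * p i * g⁻¹ = p j := by
    intro i
    have h1 : g * p i * g⁻¹ ∈ zl (S : Subgroup G) P := (mem_normalizer_iff.1 hg _).1 (h.toFive.p_mem i)
    rcases h.toFive.elts h1 with h2 | h2 | ⟨j, k, hjk, h2⟩
    · exfalso
      have h3 : p i = 1 := by
        have := conj_eq_one_iff.1 h2
        exact this
      obtain ⟨x, -, hx⟩ := h.toFive.heavy i
      have h4 : p 4 = 1 := by
        rw [h3] at hx
        exact conj_eq_one_iff.1 hx
      obtain ⟨x, -, hx⟩ := h.toFive.heavy 0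
      rw [h4] at hx
      have h5 : p 0 = p 4 := by rw [h4, ← hx]; group
      exact absurd (h.std.inj h5) (by decide)
    · exact h2
    · exfalso
      obtain ⟨x, -, hx⟩ := h.toFive.heavy i
      obtain ⟨y, -, hy⟩ := h.toFive.lights hjk
      apply h.not_conj (y⁻¹ * g * x)
      calc y⁻¹ * g * x * p 4 * (y⁻¹ * g * x)⁻¹ = y⁻¹ * (g * (x * p 4 * x⁻¹) * g⁻¹) * y := by group
        _ = y⁻¹ * (y * nn p * y⁻¹) * y := by rw [hx, h2, hy]
        _ = nn p := by group
  choose f hf using key
  have hinj : Function.Injective f := by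
    intro i j hij
    apply h.std.inj
    have h1 := (hf i).trans ((congrArg p hij).trans (hf j).symm)
    exact mul_left_cancel (mul_right_cancel h1)
  exact ⟨Equiv.ofBijective f (Finite.injective_iff_bijective.1 hinj), hf⟩

/-- an element of odd order of `N_G(V)` which centralises `n` centralises `p 0`, `p 1`. -/
theorem odd_fix {g : G} (hg : g ∈ normalizer (zl (S : Subgroup G) P : Set G)) (hn : g * nn p = nn p * g)
    (ho : Odd (orderOf g)) : g * p 0 = p 0 * g ∧ g * p 1 = p 1 * g := by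
  obtain ⟨σ, hσ⟩ := perm_of_norm h hg
  have hpow : ∀ (k : ℕ) (i : Fin 5), g ^ k * p i * (g ^ k)⁻¹ = p ((σ ^ k) i) := by
    intro k
    induction k with
    | zero => intro i; simp
    | succ k ih =>
      intro i
      have h1 : g ^ (k + 1) * p i * (g ^ (k + 1))⁻¹ = g ^ k * (g * p i * g⁻¹) * (g ^ k)⁻¹ := by
        rw [pow_succ]; group
      rw [h1, hσ, ih, pow_succ, Equiv.Perm.mul_apply]
  have h01 : (σ 0 = 0 ∧ σ 1 = 1) ∨ (σ 0 = 1 ∧ σ 1 = 0) := by
    have h1 : g * nn p * g⁻¹ = nn p := by rw [hn]; group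
    have h2 : g * (p 0 * p 1) * g⁻¹ = p (σ 0) * p (σ 1) := by
      rw [← hσ, ← hσ]; group
    rw [nn, h2] at h1
    exact h.std.pair_inj (fun e => absurd (σ.injective e) (by decide)) (by decide) h1
  obtain ⟨m, hm⟩ := ho
  have hfix : ∀ i, (σ ^ (orderOf g)) i = i := by
    intro i
    have h1 := hpow (orderOf g) i
    rw [pow_orderOf_eq_one] at h1
    apply h.std.inj
    rw [← h1]; group
  have hgoal : σ 0 = 0 ∧ σ 1 = 1 := by
    rcases h01 with h1 | ⟨h1, h2⟩
    · exact h1
    exfalso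
    have h3 : ∀ k : ℕ, (σ ^ (2 * k)) 0 = 0 := by
      intro k
      induction k with
      | zero => simp
      | succ k ih =>
        have e : 2 * (k + 1) = 2 * k + 1 + 1 := by ring
        rw [e, pow_succ, pow_succ, Equiv.Perm.mul_apply, Equiv.Perm.mul_apply, h1, h2, ih]
    have h4 := hfix 1
    rw [hm, pow_succ, Equiv.Perm.mul_apply, h2, h3] at h4
    exact absurd h4 (by decide)
  constructor
  · have h1 := hσ 0
    rw [hgoal.1] at h1
    exact mul_inv_eq_iff_eq_mul.1 h1
  · have h1 := hσ 1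
    rw [hgoal.2] at h1
    exact mul_inv_eq_iff_eq_mul.1 h1

/-- **The field `uni` of `TwoB.DtB`** (`C = C_G(n)`, `Z = ⟨a⟩`, `Y = ⟨p 0, p 1⟩`). -/
theorem uni_odd {T : Subgroup G}
    (hU : ∀ R : Subgroup G, IsMinPar T R → R ≤ centralizer ({nn p} : Set G) → ¬ R ≤ centralizer ({aa p} : Set G) →
      R ≤ normalizer (zl (S : Subgroup G) P : Set G)) :
    ∀ R : Subgroup G, IsMinPar T R → R ≤ centralizer ({nn p} : Set G) →
      ¬ R ≤ centralizer ((closure {aa p} : Subgroup G) : Set G) →
      ∀ g ∈ R, Odd (orderOf g) → g ∈ centralizer ((closure {p 0, p 1} : Subgroup G) : Set G) := by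
  intro R hR hRn hRa g hg ho
  rw [centralizer_closure] at hRa ⊢
  have hgn : g * nn p = nn p * g := (mem_centralizer_iff.1 (hRn hg) _ rfl).symm
  obtain ⟨h0, h1⟩ := odd_fix h (hU R hR hRn hRa hg) hgn ho
  rw [mem_centralizer_iff]
  rintro y (rfl | hy)
  · exact h0.symm
  · rw [Set.mem_singleton_iff] at hy
    subst hy
    exact h1.symm

/-- the same for `Z = zpowers (aa p)` -/
theorem uni_odd_zpowers {T : Subgroup G}
    (hU : ∀ R : Subgroup G, IsMinPar T R → R ≤ centralizer ({nn p} : Set G) → ¬ R ≤ centralizer ({aa p} : Set G) →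
      R ≤ normalizer (zl (S : Subgroup G) P : Set G)) :
    ∀ R : Subgroup G, IsMinPar T R → R ≤ centralizer ({nn p} : Set G) →
      ¬ R ≤ centralizer ((zpowers (aa p) : Subgroup G) : Set G) →
      ∀ g ∈ R, Odd (orderOf g) → g ∈ centralizer ((closure {p 0, p 1} : Subgroup G) : Set G) := by
  intro R hR hRn hRa
  rw [zpowers_eq_closure] at hRa
  exact uni_odd h hU R hR hRn hRa

end five

end Cfsg.Agent.Omega.NO3S.Sym.UniOdd
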