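import Cfsg.Agent.Omega.NO3S.Sym.Fan

/-!
# NO-3S, `V_P` = even subsets of five letters, case (E): LEMMA P (helper955, omega job 527)

`Wk p k x y` : a walk of length `k` from the point `x` to `y` in the graph of light points.

* `Wk.symm`, `Wk.conj`, `Wk.trans`;
* `NN_le` : (P) if `N_x`, `N_y` commute for all walks of length `≤ m` then `N_x ≤ O₂(C(y))` for these `x, y`;
* `D_le` : (P) for the groups `D_x`;
* `exists_first`, `exists_first_D` : `⟨C(n), C(a)⟩` nonlocal: a first noncommuting pair.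
-/

set_option autoImplicit false

namespace Cfsg.Agent.Omega.NO3S.Sym.Walk

open Subgroup Cfsg Cfsg.Agent.ZN Cfsg.Agent.Omega.MinPar Cfsg.Agent.Omega.Frame Cfsg.Agent.Omega.FrameNOFF
open Cfsg.Agent.Omega.NO3S Cfsg.Agent.Omega.NTwo Cfsg.Agent.Omega.NO3S.Sym.Exit Cfsg.Agent.Omega.NO3S.Sym.Light
open Cfsg.Agent.Omega.NO3S.Sym.Graph Cfsg.Agent.Omega.NO3S.Sym.Fan
open scoped Pointwise

universe u

variable {G : Type u} [Group G] {p : Fin 5 → G}

/-- walks of length `k` -/
def Wk (p : Fin 5 → G) : ℕ → G → G → Prop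
  | 0, x, y => IsPt p x ∧ x = y
  | k + 1, x, y => ∃ z, Wk p k x z ∧ Adj p z y

namespace Wk

theorem pt {k : ℕ} {x y : G} (h : Wk p k x y) : IsPt p x := by
  induction k generalizing y with
  | zero => exact h.1
  | succ k ih =>
    obtain ⟨z, hz, -⟩ := h
    exact ih hz

theorem pt' {S P : Subgroup G} (hs : Std S P p) {k : ℕ} {x y : G} (h : Wk p k x y) : IsPt p y := by
  cases k with
  | zero => exact h.2 ▸ h.1
  | succ k =>
    obtain ⟨z, -, hz⟩ := h
    exact hz.pt' hs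

theorem conj {k : ℕ} {x y : G} (h : Wk p k x y) (g : G) : Wk p k (g * x * g⁻¹) (g * y * g⁻¹) := by
  induction k generalizing y with
  | zero => exact ⟨h.1.conj g, by rw [h.2]⟩
  | succ k ih =>
    obtain ⟨z, hz, hy⟩ := h
    exact ⟨_, ih hz, hy.conj g⟩

theorem trans {k l : ℕ} {x y z : G} (h : Wk p k x y) (h' : Wk p l y z) : Wk p (k + l) x z := by
  induction l generalizing z with
  | zero => rw [← h'.2]; exact h
  | succ l ih =>
    obtain ⟨w, hw, hz⟩ := h'
    exact ⟨w, ih hw, hz⟩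

theorem one {x y : G} (h : Adj p x y) : Wk p 1 x y := ⟨x, ⟨h.pt, rfl⟩, h⟩

theorem symm {S P : Subgroup G} (hs : Std S P p) {k : ℕ} {x y : G} (h : Wk p k x y) : Wk p k y x := by
  induction k generalizing y with
  | zero => exact ⟨h.2 ▸ h.1, h.2.symm⟩
  | succ k ih =>
    obtain ⟨z, hz, hy⟩ := h
    have h1 := (one (hy.symm hs)).trans (ih hz)
    rwa [add_comm] at h1

/-- the first step -/
theorem head {S P : Subgroup G} (hs : Std S P p) {k : ℕ} {x y : G} (h : Wk p (k + 1) x y) :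
    ∃ z, Adj p x z ∧ Wk p k z y := by
  obtain ⟨z, hz, hx⟩ := h.symm hs
  exact ⟨z, hx.symm hs, hz.symm hs⟩

end Wk

section light

variable [Finite G] {S : Sylow 2 G} {P : Subgroup G} {p : Fin 5 → G} (h : FiveL S P p)

local notation "DJ" => JJ (zl (S : Subgroup G) P) (nn p)

include h

/-- **LEMMA P** -/
theorem NN_le {m : ℕ} (H : ∀ k ≤ m, ∀ x y, Wk p k x y → ∀ a ∈ NN p x, ∀ b ∈ NN p y, a * b = b * a) {k : ℕ}
    (hk : k ≤ m) {x y : G} (hw : Wk p k x y) : NN p x ≤ o2 (centralizer ({y} : Set G)) := by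
  induction k generalizing y with
  | zero => rw [← hw.2]; exact NN_le_o2 h hw.1
  | succ k ih =>
    have hw' := hw
    obtain ⟨z, hz, hy⟩ := hw'
    refine le_o2_of_adj (hy.symm h.std) (ih (by omega) hz) (fun a ha => ?_) fun a ha => ?_
    · rw [mem_cent, comm_iff]
      exact H k (by omega) x z hz a ha y hy.mem
    · exact mem_centralizer_iff.2 fun b hb => (H (k + 1) hk x y hw a ha b hb).symm

/-- **LEMMA P** for the groups `D_x` -/
theorem D_le {m : ℕ} (H : ∀ k ≤ m, ∀ x y, Wk p k x y → ∀ a ∈ DJ x, ∀ b ∈ DJ y, a * b = b * a) {k : ℕ}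
    (hk : k ≤ m) {x y : G} (hw : Wk p k x y) : DJ x ≤ o2 (centralizer ({y} : Set G)) := by
  induction k generalizing y with
  | zero => rw [← hw.2]; exact D_le_o2 h hw.1
  | succ k ih =>
    have hw' := hw
    obtain ⟨z, hz, hy⟩ := hw'
    refine le_o2_of_adj (hy.symm h.std) (ih (by omega) hz) (fun a ha => ?_) fun a ha => ?_
    · rw [mem_cent, comm_iff]
      exact H k (by omega) x z hz a ha y (NN_le_D h hy.mem)
    · exact mem_centralizer_iff.2 fun b hb => (H (k + 1) hk x y hw a ha b (NN_le_D h hb)).symm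

/-- the conjugates of an abelian family -/
theorem exists_pair (hNL : NonLoc (centralizer ({nn p} : Set G)) (centralizer ({aa p} : Set G)))
    {A : G → Subgroup G} (hA : ∀ g x, ∀ v ∈ A x, g * v * g⁻¹ ∈ A (g * x * g⁻¹)) (hsq : ∀ x, IsPt p x → ∀ v ∈ A x, v * v = 1)
    (hne : aa p ∈ A (nn p)) : ∃ k x y, Wk p k x y ∧ ∃ a ∈ A x, ∃ b ∈ A y, a * b ≠ b * a := by
  by_contra hcon
  push Not at hcon
  obtain ⟨X, hX⟩ : ∃ X : Set G, X = {v | ∃ k x, Wk p k (nn p) x ∧ v ∈ A x} := ⟨_, rfl⟩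
  have hcomm : ∀ v ∈ X, ∀ w ∈ X, v * w = w * v := by
    rw [hX]
    rintro v ⟨k, x, hx, hv⟩ w ⟨l, y, hy, hw⟩
    exact hcon _ x y ((hx.symm h.std).trans hy) v hv w hw
  have hc1 : closure X ≤ centralizer X := by
    rw [closure_le]
    exact fun v hv => mem_centralizer_iff.2 fun w hw => hcomm w hw v hv
  have hc2 : ∀ v ∈ closure X, ∀ w ∈ closure X, v * w = w * v := by
    intro v hv w hw
    induction hw using closure_induction with
    | mem x hx => exact (mem_centralizer_iff.1 (hc1 hv) x hx).symm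
    | one => group
    | mul a b _ _ iha ihb => rw [← mul_assoc, iha, mul_assoc, ihb, mul_assoc]
    | inv a _ ih =>
      calc v * a⁻¹ = a⁻¹ * (a * v) * a⁻¹ := by group
        _ = a⁻¹ * (v * a) * a⁻¹ := by rw [ih]
        _ = a⁻¹ * v := by group
  have hU2 : ∀ v ∈ closure X, v * v = 1 := by
    intro v hv
    induction hv using closure_induction with
    | mem x hx =>
      rw [hX] at hx
      obtain ⟨k, y, hy, hv⟩ := hx
      exact hsq y (hy.pt' h.std) x hv
    | one => group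
    | mul a b ha hb iha ihb =>
      calc a * b * (a * b) = a * (b * a) * b := by group
        _ = a * (a * b) * b := by rw [hc2 b hb a ha]
        _ = (a * a) * (b * b) := by group
        _ = 1 := by rw [iha, ihb, one_mul]
    | inv a _ ih => rw [← mul_inv_rev, ih, inv_one]
  have hUP : IsPGroup 2 (closure X) := fun v => ⟨1, Subtype.ext (by
    have h1 := hU2 v v.2
    rw [pow_one, SubmonoidClass.coe_pow, sq]
    exact h1)⟩
  -- both centralisers normalise
  have hnor : ∀ c : G, (∀ k x, Wk p k (nn p) x → ∃ l, Wk p l (nn p) (c * x * c⁻¹)) →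
      ∀ v ∈ closure X, c * v * c⁻¹ ∈ closure X := by
    intro c hc v hv
    induction hv using closure_induction with
    | mem x hx =>
      rw [hX] at hx
      obtain ⟨k, y, hy, hv⟩ := hx
      obtain ⟨l, hl⟩ := hc k y hy
      refine subset_closure ?_
      rw [hX]
      exact ⟨l, _, hl, hA c y x hv⟩
    | one => rw [mul_one, mul_inv_cancel]; exact one_mem _
    | mul a b _ _ iha ihb => rw [cm]; exact mul_mem iha ihb
    | inv a _ ih =>
      have e : c * a⁻¹ * c⁻¹ = (c * a * c⁻¹)⁻¹ := by group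
      rw [e]; exact inv_mem ih
  have hfix : ∀ b : G, (∃ k, Wk p k (nn p) b) → centralizer ({b} : Set G) ≤ normalizer (closure X : Set G) := by
    rintro b ⟨k, hb⟩
    have key : ∀ c ∈ centralizer ({b} : Set G), ∀ v ∈ closure X, c * v * c⁻¹ ∈ closure X := by
      intro c hc
      refine hnor c fun l x hx => ?_
      have h1 := (hb.symm h.std).trans hx
      have h2 := h1.conj c
      rw [mem_cent.1 hc] at h2
      exact ⟨_, hb.trans h2⟩
    intro c hc
    rw [mem_normalizer_iff]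
    refine fun v => ⟨key c hc v, fun hv => ?_⟩
    have h1 := key c⁻¹ (inv_mem hc) _ hv
    have e : c⁻¹ * (c * v * c⁻¹) * c⁻¹⁻¹ = v := by group
    rwa [e] at h1
  have h0 : Wk p 0 (nn p) (nn p) := ⟨pt_base, rfl⟩
  have h1 := hNL (closure X) hUP (hfix _ ⟨0, h0⟩) (hfix _ ⟨1, Wk.one adj_base⟩)
  have h2 : aa p ∈ closure X := subset_closure (by rw [hX]; exact ⟨0, _, h0, hne⟩)
  rw [h1, mem_bot] at h2
  exact h.std.a_ne_one h2

/-- **the first noncommuting pair of `N`'s** -/
theorem exists_first (hNL : NonLoc (centralizer ({nn p} : Set G)) (centralizer ({aa p} : Set G))) :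
    ∃ m, (∀ k ≤ m, ∀ x y, Wk p k x y → ∀ a ∈ NN p x, ∀ b ∈ NN p y, a * b = b * a) ∧
      ∃ x y, Wk p (m + 1) x y ∧ ∃ a ∈ NN p x, ∃ b ∈ NN p y, a * b ≠ b * a := by
  classical
  have hex := exists_pair h hNL (A := NN p) (fun g x v hv => NN_conj hv) (fun x hx v hv => NN_sq h hx hv)
    (adj_base (p := p)).mem
  obtain ⟨x, y, hxy, h1⟩ := Nat.find_spec hex
  have h2 : Nat.find hex ≠ 0 := by
    intro e
    rw [e] at hxy
    obtain ⟨hx, rfl⟩ := hxy
    obtain ⟨a, ha, b, hb, hne⟩ := h1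
    exact hne (NN_comm h hx ha hb)
  obtain ⟨m, hm⟩ := Nat.exists_eq_succ_of_ne_zero h2
  refine ⟨m, fun k hk x' y' hw a ha b hb => ?_, x, y, by rw [hm] at hxy; exact hxy, h1⟩
  by_contra hne
  exact Nat.find_min hex (m := k) (by omega) ⟨x', y', hw, a, ha, b, hb, hne⟩

/-- **the first noncommuting pair of `D`'s** -/
theorem exists_first_D (hNL : NonLoc (centralizer ({nn p} : Set G)) (centralizer ({aa p} : Set G))) :
    ∃ m, (∀ k ≤ m, ∀ x y, Wk p k x y → ∀ a ∈ DJ x, ∀ b ∈ DJ y, a * b = b * a) ∧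
      ∃ x y, Wk p (m + 1) x y ∧ ∃ a ∈ DJ x, ∃ b ∈ DJ y, a * b ≠ b * a := by
  classical
  have hex := exists_pair h hNL (A := fun x => DJ x) (fun g x v hv => conj_mem_JJ hv) (fun x hx v hv => D_sq h hx hv)
    (NN_le_D h (adj_base (p := p)).mem)
  obtain ⟨x, y, hxy, h1⟩ := Nat.find_spec hex
  have h2 : Nat.find hex ≠ 0 := by
    intro e
    rw [e] at hxy
    obtain ⟨hx, rfl⟩ := hxy
    obtain ⟨a, ha, b, hb, hne⟩ := h1
    exact hne (D_comm h hx ha hb)
  obtain ⟨m, hm⟩ := Nat.exists_eq_succ_of_ne_zero h2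
  refine ⟨m, fun k hk x' y' hw a ha b hb => ?_, x, y, by rw [hm] at hxy; exact hxy, h1⟩
  by_contra hne
  exact Nat.find_min hex (m := k) (by omega) ⟨x', y', hw, a, ha, b, hb, hne⟩

end light

end Cfsg.Agent.Omega.NO3S.Sym.Walk
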